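import Cfsg.Agent.Co1Loc.Moved

/-!
The centraliser of an involution of the elementary subgroup outside the class of the central involution
normalises the elementary subgroup.
-/

set_option autoImplicit false
set_option maxRecDepth 100000
set_option synthInstance.maxSize 4096
set_option linter.style.haveILetI false
set_option linter.unusedSectionVars false

namespace CfsgLib.Co1Loc

open CfsgLib CfsgLib.Quad CfsgLib.Co1Invol CfsgLib.Co1Golay Subgroup
open scoped Pointwise

variable {G : Type*} [Group G] [Finite G] {z : G} {D : Dat z} {B : Base D} {hB : Good B}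
  (St : Pr B w2 v2) (Su : Pr B x1 x2) {θ : ↥(normalizer (Ab B hB : Set G)) →* ↥Cfsg.M24}

theorem dihedral_mul {p q : G} (hp : p * p = 1) (hq : q * q = 1) (n : ℕ) :
    p * (p * q) ^ n * p = ((p * q) ^ n)⁻¹ := by
  induction n with
  | zero => simp [hp]
  | succ n ih =>
    rw [pow_succ, show p * ((p * q) ^ n * (p * q)) * p = p * (p * q) ^ n * p * (p * (p * q) * p) by
      simp only [mul_assoc]; rw [← mul_assoc p p, hp, one_mul], ih,
      show p * (p * q) * p = (p * q)⁻¹ by
        rw [← mul_assoc, hp, one_mul, mul_inv_rev, inv_eq_of_mul_eq_one_right hp, inv_eq_of_mul_eq_one_right hq],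
      ← mul_inv_rev, ← pow_succ', pow_succ]

include St Su

/-- One step: a subgroup of the centraliser outside the normaliser yields an element of the subgroup. -/
theorem step (T : Act B hB θ) {c p v : G} {K : Subgroup G} (hc : c ∈ Ab B hB) (hc1 : c ≠ 1) (hcz : ¬ IsConj z c)
    (hKc : K ≤ centralizer ({c} : Set G)) (hAK : Ab B hB ≤ K) (hK : ¬ K ≤ normalizer (Ab B hB : Set G))
    (hp : p ∈ Ab B hB) (hzp : IsConj z p) (hpc : ¬ IsConj z (p * c)) (hv : v ∈ Ab B hB) (hzv : IsConj z v)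
    (hvc : IsConj z (v * c)) :
    ∃ w ∈ Ab B hB, w ≠ 1 ∧ IsConj z (p * w) ∧
      ¬ K ⊓ centralizer ({w} : Set G) ≤ normalizer (Ab B hB : Set G) := by
  obtain ⟨g, hgK, hgN⟩ := Set.not_subset.1 hK
  set q := g * v * g⁻¹ with hqdef
  have hqK : q ∈ K := mul_mem (mul_mem hgK (hAK hv)) (inv_mem hgK)
  have hsq : ∀ a ∈ Ab B hB, a * a = 1 := fun a ha => by
    obtain ⟨m, -, rfl⟩ := mem_Ab.1 ha
    exact ev_sq (invList_gens B hB) m
  have hpp : p * p = 1 := hsq p hp
  have hqq : q * q = 1 := by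
    rw [hqdef, show g * v * g⁻¹ * (g * v * g⁻¹) = g * (v * v) * g⁻¹ by group, hsq v hv]; group
  have hKcc : ∀ {k : G}, k ∈ K → k * c = c * k := fun hk => mem_centralizer_singleton_iff.1 (hKc hk)
  have hnot : ∀ k ∈ K, k * p * k⁻¹ ≠ q := by
    intro k hk e
    refine hpc ?_
    have hr : k⁻¹ * g ∈ K := mul_mem (inv_mem hk) hgK
    have e2 : k⁻¹ * g * v * (k⁻¹ * g)⁻¹ = p := by
      calc k⁻¹ * g * v * (k⁻¹ * g)⁻¹ = k⁻¹ * q * k := by rw [hqdef]; group
        _ = p := by rw [← e]; group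
    have e3 := (conj_z_iff (k⁻¹ * g) (v * c)).2 hvc
    rwa [show k⁻¹ * g * (v * c) * (k⁻¹ * g)⁻¹ = k⁻¹ * g * v * (k⁻¹ * g)⁻¹ * ((k⁻¹ * g) * c * (k⁻¹ * g)⁻¹) by group,
      e2, hKcc hr, mul_inv_cancel_right] at e3
  set r := p * q with hrdef
  have hpK : p ∈ K := hAK hp
  have hconj : ∀ n : ℕ, r ^ n * p * (r ^ n)⁻¹ = r ^ (n + n) * p := by
    intro n
    rw [← dihedral_mul hpp hqq n, ← hrdef, pow_add]
    simp only [mul_assoc]
    rw [← mul_assoc p p, hpp, one_mul]
  have hq : q = p * r := by rw [hrdef, ← mul_assoc, hpp, one_mul]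
  have hconjq : ∀ n : ℕ, r ^ (n + 1) * q * (r ^ (n + 1))⁻¹ = r ^ (n + n + 1) * p := by
    intro n
    rw [hq, show r ^ (n + 1) * (p * r) * (r ^ (n + 1))⁻¹ = r * (r ^ n * p * (r ^ n)⁻¹) by
      rw [show r ^ (n + 1) * (p * r) * (r ^ (n + 1))⁻¹ = r ^ (n + 1) * p * (r * (r ^ (n + 1))⁻¹) by group,
        pow_succ' r n, mul_inv_rev,
        show r * ((r ^ n)⁻¹ * r⁻¹) = (r ^ n)⁻¹ * (r ^ n * r * (r ^ n)⁻¹ * r⁻¹) by group,
        (Commute.pow_self r n).eq, show r * r ^ n * (r ^ n)⁻¹ * r⁻¹ = 1 by group, mul_one]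
      group, hconj, pow_succ' r (n + n)]
    simp only [hrdef, mul_assoc]
  have hrK : r ∈ K := mul_mem hpK hqK
  rcases Nat.even_or_odd (orderOf r) with ⟨m, hm⟩ | ⟨j, hj⟩
  swap
  · refine absurd ?_ (hnot (r ^ j) (pow_mem hrK j))
    rw [hconj, hq]
    have h1 : r ^ (j + j) = r⁻¹ := by
      refine eq_inv_of_mul_eq_one_left ?_
      rw [← pow_succ, show j + j + 1 = orderOf r by omega, pow_orderOf_eq_one]
    rw [h1, hrdef, mul_inv_rev, inv_eq_of_mul_eq_one_right hpp, inv_eq_of_mul_eq_one_right hqq,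
      mul_assoc, hpp, mul_one, ← mul_assoc, hpp, one_mul]
  have hpos : 0 < m := by have := orderOf_pos r; omega
  set w := r ^ m
  have hw1 : w ≠ 1 := fun e => by
    have := Nat.le_of_dvd hpos (orderOf_dvd_of_pow_eq_one e); omega
  have hwinv : w⁻¹ = w := by
    refine inv_eq_of_mul_eq_one_right ?_
    rw [← pow_add, ← hm, pow_orderOf_eq_one]
  have hpw : p * w = w * p := by
    have h := dihedral_mul hpp hqq m
    rw [← hrdef, hwinv] at h
    calc p * w = p * w * (p * p) := by rw [hpp, mul_one]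
      _ = p * w * p * p := by simp only [mul_assoc]
      _ = w * p := by rw [h]
  have hrw : r * w = w * r := (Commute.self_pow r m).eq
  have hqw : q * w = w * q := by
    calc q * w = p * (r * w) := by rw [hq, mul_assoc]
      _ = p * w * r := by rw [hrw, ← mul_assoc]
      _ = w * q := by rw [hpw, hq, mul_assoc]
  have hwK : w ∈ K := pow_mem hrK m
  have hwN : w ∈ normalizer (Ab B hB : Set G) :=
    local_conj St Su hc hc1 hcz hp hzp ⟨hKc hwK, mem_centralizer_singleton_iff.2 hpw.symm⟩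
  obtain ⟨k, hk, x, hx, hzx, hkx⟩ : ∃ k ∈ K, ∃ x ∈ Ab B hB, IsConj z x ∧ k * x * k⁻¹ = p * w := by
    rcases Nat.even_or_odd m with ⟨i, hi⟩ | ⟨i, hi⟩
    · refine ⟨r ^ i, pow_mem hrK i, p, hp, hzp, ?_⟩
      rw [hconj, hpw, ← hi]
    · refine ⟨r ^ (i + 1) * g, mul_mem (pow_mem hrK _) hgK, v, hv, hzv, ?_⟩
      rw [show r ^ (i + 1) * g * v * (r ^ (i + 1) * g)⁻¹ = r ^ (i + 1) * q * (r ^ (i + 1))⁻¹ by rw [hqdef]; group,
        hconjq, hpw, show i + i + 1 = m by omega]
  have hkN : k ∈ normalizer (Ab B hB : Set G) := closure_mem St Su T hc hc1 hcz (hKcc hk) hx hzx (by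
    rw [hkx]; exact mul_mem (le_normalizer hp) hwN)
  have hpwA : p * w ∈ Ab B hB := hkx ▸ (mem_normalizer_iff.1 hkN x).1 hx
  refine ⟨w, (mul_mem_cancel_left hp).1 hpwA, hw1, ?_, fun hle => hgN ?_⟩
  · rw [← hkx]; exact (conj_z_iff k x).2 hzx
  · exact closure_mem St Su T hc hc1 hcz (hKcc hgK) hv hzv (hle ⟨hqK, mem_centralizer_singleton_iff.2 hqw⟩)

/-- A member of the subgroup centralised by a part of the centraliser outside the normaliser. -/
theorem not_z_of_le {c e : G} {K : Subgroup G} (hc : c ∈ Ab B hB) (hc1 : c ≠ 1) (hcz : ¬ IsConj z c)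
    (hKc : K ≤ centralizer ({c} : Set G)) (hKe : K ≤ centralizer ({e} : Set G)) (he : e ∈ Ab B hB)
    (hK : ¬ K ≤ normalizer (Ab B hB : Set G)) : ¬ IsConj z e := fun hz =>
  hK fun _ hk => local_conj St Su hc hc1 hcz he hz ⟨hKc hk, hKe hk⟩

omit St Su

/-- The common centraliser of a list of masks. -/
noncomputable def centM (B : Base D) (S : List ℕ) : Subgroup G :=
  centralizer (phi B '' {m | m ∈ S})

theorem mem_centM {S : List ℕ} {x : G} : x ∈ centM B S ↔ ∀ m ∈ S, x * phi B m = phi B m * x := by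
  rw [centM, mem_centralizer_iff]
  exact ⟨fun h m hm => (h _ ⟨m, hm, rfl⟩).symm, fun h _ ⟨m, hm, e⟩ => e ▸ (h m hm).symm⟩

theorem centM_xor (hB : Good B) {S : List ℕ} {a b : ℕ} (ha : centM B S ≤ centralizer ({phi B a} : Set G))
    (hb : centM B S ≤ centralizer ({phi B b} : Set G)) : centM B S ≤ centralizer ({phi B (a ^^^ b)} : Set G) :=
  fun x hx => mem_centralizer_singleton_iff.2 (by
    rw [phi_xor hB]
    exact ((show Commute x (phi B a) from mem_centralizer_singleton_iff.1 (ha hx)).mul_right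
      (show Commute x (phi B b) from mem_centralizer_singleton_iff.1 (hb hx))).eq)

theorem centM_le {S : List ℕ} {m : ℕ} (hm : m ∈ S) : centM B S ≤ centralizer ({phi B m} : Set G) :=
  fun _ hx => mem_centralizer_singleton_iff.2 (mem_centM.1 hx m hm)

theorem Ab_le_centM (hB : Good B) {S : List ℕ} : Ab B hB ≤ centM B S := fun _ hx =>
  mem_centM.2 fun _ _ => Ab_comm hB hx (phi_mem hB _)

/-- Transport of a list of masks by the normaliser. -/
theorem centM_move (n : G) (hn : n ∈ normalizer (Ab B hB : Set G)) {S S' : List ℕ}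
    (h : ∀ m' ∈ S', ∃ m ∈ S, n * phi B m * n⁻¹ = phi B m')
    (hK : ¬ centM B S ≤ normalizer (Ab B hB : Set G)) : ¬ centM B S' ≤ normalizer (Ab B hB : Set G) := by
  refine fun hle => hK fun x hx => ?_
  have h' : n * x * n⁻¹ ∈ normalizer (Ab B hB : Set G) := hle (mem_centM.2 fun m' hm' => by
    obtain ⟨m, hm, he⟩ := h m' hm'
    rw [← he, show n * x * n⁻¹ * (n * phi B m * n⁻¹) = n * (x * phi B m) * n⁻¹ by group, mem_centM.1 hx m hm]
    group)
  rw [show x = n⁻¹ * (n * x * n⁻¹) * n by group]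
  exact mul_mem (mul_mem (inv_mem hn) h') hn

theorem spanTwo_lt : ∀ e ∈ spanTwo, e < 2048 := by decide +kernel

theorem centM_span (hB : Good B) {S : List ℕ} (h40 : 40 ∈ S) (h2 : mTwo ∈ S) {e : ℕ} (he : e ∈ spanTwo) :
    centM B S ≤ centralizer ({phi B e} : Set G) := by
  simp only [spanTwo, List.mem_cons, List.not_mem_nil, or_false] at he
  rcases he with rfl | rfl | rfl | rfl
  · exact fun x _ => mem_centralizer_singleton_iff.2 (by rw [show phi B 0 = 1 from ev_zero _, one_mul, mul_one])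
  · exact centM_le h40
  · exact centM_le h2
  · exact centM_xor hB (centM_le h40) (centM_le h2)

include St Su

/-- A space of masks whose common centraliser leaves the normaliser is free of octads. -/
theorem centM_dod {S : List ℕ} (h40 : 40 ∈ S) (hK : ¬ centM B S ≤ normalizer (Ab B hB : Set G)) {e : ℕ}
    (he : e < 2048) (he0 : e ≠ 0) (hle : centM B S ≤ centralizer ({phi B e} : Set G)) :
    dodSet.testBit e = true :=
  (phi_dod St Su hB he).2 ⟨fun h => he0 (phi_eq_one hB he h),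
    not_z_of_le St Su (phi_mem hB 40) ((phi_dod St Su hB (by norm_num)).1 forty_dod.1).1
      ((phi_dod St Su hB (by norm_num)).1 forty_dod.1).2 (centM_le h40) hle (phi_mem hB e) hK⟩

theorem forty_le : centralizer ({phi B 40} : Set G) ≤ normalizer (Ab B hB : Set G) := by
  obtain ⟨θ, T⟩ := exists_act St Su hB
  by_contra hC
  have h40 := (phi_dod St Su hB (by norm_num : (40 : ℕ) < 2048)).1 forty_dod.1
  obtain ⟨hp1, hv1, op1, ov1, hd1, ho1⟩ := wit_one
  obtain ⟨hvA, hvz⟩ := phi_oct St Su hB hv1 ov1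
  have hvc : IsConj z (phi B witPair * phi B 40) := by
    rw [← phi_xor hB]; exact (phi_oct St Su hB (Nat.xor_lt_two_pow (n := 11) hv1 (by norm_num)) ho1).2
  -- a witness adds a mask to a list whose common centraliser leaves the normaliser
  have more : ∀ S : List ℕ, 40 ∈ S → ¬ centM B S ≤ normalizer (Ab B hB : Set G) → ∀ p < 2048,
      octSet.testBit p = true → dodSet.testBit (p ^^^ 40) = true →
      ∃ w < 2048, w ≠ 0 ∧ IsConj z (phi B (p ^^^ w)) ∧ ¬ centM B (w :: S) ≤ normalizer (Ab B hB : Set G) := by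
    intro S hS hK p hp hpo hpd
    obtain ⟨hpA, hpz⟩ := phi_oct St Su hB hp hpo
    obtain ⟨w, hwA, hw1, hpw, hK'⟩ := step St Su T (phi_mem hB 40) h40.1 h40.2 (centM_le hS) (Ab_le_centM hB) hK
      hpA hpz (by
        rw [← phi_xor hB]
        exact ((phi_dod St Su hB (Nat.xor_lt_two_pow (n := 11) hp (by norm_num))).1 hpd).2) hvA hvz hvc
    obtain ⟨m, hm, rfl⟩ := mem_Ab.1 hwA
    refine ⟨m, hm, fun e => hw1 (by rw [e]; exact ev_zero _), by rwa [phi_xor hB], fun hle => hK' fun x hx => hle ?_⟩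
    refine mem_centM.2 fun k hk => ?_
    rcases List.mem_cons.1 hk with rfl | hk
    · exact mem_centralizer_singleton_iff.1 (Subgroup.mem_inf.1 hx).2
    · exact mem_centM.1 (Subgroup.mem_inf.1 hx).1 k hk
  have hne : ∀ {p e u : ℕ}, p < 2048 → e < 2048 → dodSet.testBit (p ^^^ e) = true →
      IsConj z (phi B (p ^^^ u)) → u ≠ e := fun {p e u} hp he hd hu h =>
    ((phi_dod St Su hB (Nat.xor_lt_two_pow (n := 11) hp he)).1 hd).2 (h ▸ hu)
  have dod : ∀ {S : List ℕ}, 40 ∈ S → ¬ centM B S ≤ normalizer (Ab B hB : Set G) → ∀ {a b : ℕ}, a < 2048 → b < 2048 →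
      a ≠ b → centM B S ≤ centralizer ({phi B a} : Set G) → centM B S ≤ centralizer ({phi B b} : Set G) →
      dodSet.testBit (a ^^^ b) = true := fun {S} hS hK {a b} ha hb hab hla hlb =>
    centM_dod St Su hS hK (Nat.xor_lt_two_pow (n := 11) ha hb) (fun e => hab (Nat.xor_eq_zero_iff.1 e))
      (centM_xor hB hla hlb)
  have hK0 : ¬ centM B [40] ≤ normalizer (Ab B hB : Set G) := fun h => hC fun x hx => h (mem_centM.2 fun m hm => by
    rw [List.mem_singleton.1 hm]; exact mem_centralizer_singleton_iff.1 hx)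
  -- two masks
  obtain ⟨w, hw, hw0, hpw, hKw⟩ := more [40] (by simp) hK0 witOne hp1 op1 hd1
  have hw40 : w ≠ 40 := hne hp1 (by norm_num) hd1 hpw
  obtain ⟨g, hg, hgw⟩ := exists_move_two hw
    (centM_dod St Su (by simp) hKw hw hw0 (centM_le (by simp)))
    (dod (by simp) hKw hw (by norm_num) hw40 (centM_le (by simp)) (centM_le (by simp)))
  obtain ⟨n, rfl⟩ := T.surj g
  have e40 := T.conj_eq n (m := 40) (m' := 40) (by norm_num) (by norm_num) hg
  have ew := T.conj_eq n hw forty_dod.2.2.2.1 hgw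
  have hK2 : ¬ centM B [mTwo, 40] ≤ normalizer (Ab B hB : Set G) :=
    centM_move (n : G) n.2 (fun m' hm' => by
      simp only [List.mem_cons, List.not_mem_nil, or_false] at hm'
      rcases hm' with rfl | rfl
      · exact ⟨w, by simp, ew⟩
      · exact ⟨40, by simp, e40⟩) hKw
  -- three masks
  obtain ⟨hp2, op2, hd2⟩ := wit_two
  obtain ⟨t, ht, ht0, hpt, hK3⟩ := more [mTwo, 40] (by simp) hK2 witTwo hp2 op2 (hd2 40 (by simp))
  have outside : ∀ {p u : ℕ}, p < 2048 → (∀ e ∈ [40, mTwo, 40 ^^^ mTwo], dodSet.testBit (p ^^^ e) = true) →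
      IsConj z (phi B (p ^^^ u)) → u ≠ 0 → u ∉ spanTwo := by
    intro p u hp hd hu hu0 hmem
    rcases List.mem_cons.1 hmem with e | e
    · exact hu0 e
    · exact hne hp (spanTwo_lt u hmem) (hd u e) hu rfl
  have htn : t ∉ spanTwo := outside hp2 hd2 hpt ht0
  have ht3 : t ∈ thirds := mem_thirds ht htn fun e he =>
    dod (by simp) hK3 ht (spanTwo_lt e he) (fun h => htn (h ▸ he)) (centM_le (by simp))
      (centM_span hB (by simp) (by simp) he)
  -- four masks
  obtain ⟨p, hp, hpo, hd3, hdt⟩ := exists_wit_three ht3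
  obtain ⟨u, hu, hu0, hpu, hK4⟩ := more [t, mTwo, 40] (by simp) hK3 p hp hpo (hd3 40 (by simp))
  have hun : u ∉ spanTwo := outside hp hd3 hpu hu0
  have htu : t ^^^ u ∉ spanTwo := fun he => by
    refine hne hp (Nat.xor_lt_two_pow (n := 11) ht (spanTwo_lt _ he)) (hdt _ he) hpu ?_
    rw [← Nat.xor_assoc, Nat.xor_self, Nat.zero_xor]
  have hu3 : u ∈ thirds := mem_thirds hu hun fun e he =>
    dod (by simp) hK4 hu (spanTwo_lt e he) (fun h => hun (h ▸ he)) (centM_le (by simp))
      (centM_span hB (by simp) (by simp) he)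
  have hfin := List.all_eq_true.1 (List.all_eq_true.1 no_sixteen t ht3) u hu3
  rw [Bool.or_eq_true, List.contains_iff_mem, Bool.not_eq_true', Bool.eq_false_iff] at hfin
  refine hfin.resolve_left htu (List.all_eq_true.2 fun e he => ?_)
  exact dod (by simp) hK4 (Nat.xor_lt_two_pow (n := 11) ht hu) (spanTwo_lt e he) (fun h => htu (h ▸ he))
    (centM_xor hB (centM_le (by simp)) (centM_le (by simp))) (centM_span hB (by simp) (by simp) he)

/-- An involution of the elementary subgroup outside the class of the central involution has its centraliser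
inside the normaliser. -/
theorem centralizer_le (hB : Good B) : ∀ e ∈ Ab B hB, e ≠ 1 → ¬ IsConj z e →
    centralizer ({e} : Set G) ≤ normalizer (Ab B hB : Set G) := by
  intro e he he1 hez x hx
  obtain ⟨n, hn, hne⟩ := orbit_dod St Su hB he he1 hez
  have h : n * x * n⁻¹ ∈ normalizer (Ab B hB : Set G) := forty_le St Su (mem_centralizer_singleton_iff.2 (by
    rw [← hne, show n * x * n⁻¹ * (n * e * n⁻¹) = n * (x * e) * n⁻¹ by group, mem_centralizer_singleton_iff.1 hx]
    group))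
  rw [show x = n⁻¹ * (n * x * n⁻¹) * n by group]
  exact mul_mem (mul_mem (inv_mem hn) h) hn

end CfsgLib.Co1Loc
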