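import Cfsg.Agent.Co1Loc.ThreeCode
import Cfsg.Agent.Golay.CommTwoThree
import Mathlib.GroupTheory.Perm.Cycle.Type
import Mathlib.GroupTheory.GroupAction.Quotient

/-!
The centraliser of an element of order three with six fixed points.
-/

set_option autoImplicit false
set_option maxRecDepth 100000
set_option synthInstance.maxSize 4096
set_option linter.unusedSectionVars false
set_option linter.style.haveILetI false

namespace CfsgLib.Co1Loc

open CfsgLib CfsgLib.Quad CfsgLib.Co1Invol CfsgLib.Co1Golay Subgroup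
open CfsgLib.Golay (toList)
open CfsgLib.Golay.Cert (toList_coe_injective rep3A rep3B fixedPts two_cases fixSet_spec fixedPts_eq fixSet not_comm_six)

namespace Three

theorem mem_fixedPts {σ : Equiv.Perm Cfsg.GolayPt} {p : Cfsg.GolayPt} : p ∈ fixedPts σ ↔ σ p = p := by
  simp [fixedPts]

theorem card_mod_three {α : Type*} [Fintype α] [DecidableEq α] (σ : Equiv.Perm α) (hσ : σ ^ 3 = 1)
    (O : Finset α) (hO : ∀ p ∈ O, σ p ∈ O) : (O.filter fun p => σ p = p).card % 3 = O.card % 3 := by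
  classical
  haveI : Fact (Nat.Prime 3) := ⟨Nat.prime_three⟩
  have h' : ∀ p, σ p ∈ O ↔ p ∈ O := fun p => by
    refine ⟨fun h => ?_, hO p⟩
    have := hO _ (hO _ h)
    rwa [show σ (σ (σ p)) = (σ ^ 3) p from rfl, hσ] at this
  let τ : Equiv.Perm {p // p ∈ O} := σ.subtypePerm h'
  have hτ : τ ^ 3 ^ 1 = 1 := by
    rw [pow_one]
    refine Equiv.ext fun p => Subtype.ext ?_
    rw [Equiv.Perm.subtypePerm_pow]
    show (σ ^ 3) p.1 = p.1
    rw [hσ]; rfl
  have h := Equiv.Perm.card_compl_support_modEq (p := 3) (n := 1) (σ := τ) hτ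
  rw [Fintype.card_coe] at h
  rw [← h]
  congr 1
  refine Finset.card_bij (fun p hp => ⟨p, (Finset.mem_filter.1 hp).1⟩) (fun p hp => ?_)
    (fun a _ b _ e => congrArg Subtype.val e) (fun q hq => ?_)
  · rw [Finset.mem_compl, Equiv.Perm.mem_support, not_not]
    exact Subtype.ext (Finset.mem_filter.1 hp).2
  · rw [Finset.mem_compl, Equiv.Perm.mem_support, not_not] at hq
    exact ⟨q.1, Finset.mem_filter.2 ⟨q.2, congrArg Subtype.val hq⟩, rfl⟩

theorem even_filter {α : Type*} [Fintype α] [DecidableEq α] (τ : Equiv.Perm α) (hτ : τ ^ 2 = 1)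
    (S : Finset α) (hS : ∀ p ∈ S, τ p ∈ S) : (S.filter fun p => τ p = p).card % 2 = S.card % 2 := by
  classical
  haveI : Fact (Nat.Prime 2) := ⟨Nat.prime_two⟩
  have h' : ∀ p, τ p ∈ S ↔ p ∈ S := fun p => by
    refine ⟨fun h => ?_, hS p⟩
    have := hS _ h
    rwa [show τ (τ p) = (τ ^ 2) p from rfl, hτ] at this
  let ρ : Equiv.Perm {p // p ∈ S} := τ.subtypePerm h'
  have hρ : ρ ^ 2 ^ 1 = 1 := by
    rw [pow_one]
    refine Equiv.ext fun p => Subtype.ext ?_
    rw [Equiv.Perm.subtypePerm_pow]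
    show (τ ^ 2) p.1 = p.1
    rw [hτ]; rfl
  have h := Equiv.Perm.card_compl_support_modEq (p := 2) (n := 1) (σ := ρ) hρ
  rw [Fintype.card_coe] at h
  rw [← h]
  congr 1
  refine Finset.card_bij (fun p hp => ⟨p, (Finset.mem_filter.1 hp).1⟩) (fun p hp => ?_)
    (fun a _ b _ e => congrArg Subtype.val e) (fun q hq => ?_)
  · rw [Finset.mem_compl, Equiv.Perm.mem_support, not_not]
    exact Subtype.ext (Finset.mem_filter.1 hp).2
  · rw [Finset.mem_compl, Equiv.Perm.mem_support, not_not] at hq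
    exact ⟨q.1, Finset.mem_filter.2 ⟨q.2, congrArg Subtype.val hq⟩, rfl⟩

/-- An involution commuting with an element with six fixed points fixes two of them. -/
theorem fix_two {s t : Cfsg.M24} (hs3 : orderOf s = 3)
    (h6 : (fixedPts (s : Equiv.Perm Cfsg.GolayPt)).card = 6) (ht : orderOf t = 2) (hc : s * t = t * s) :
    ((fixedPts (s : Equiv.Perm Cfsg.GolayPt)).filter fun p => (t : Equiv.Perm Cfsg.GolayPt) p = p).card = 2 := by
  obtain ⟨k, ⟨-, -, h8⟩ | ⟨-, h0⟩⟩ := two_cases ht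
  swap
  · exact (not_comm_six hs3 ht hc h6 h0).elim
  have happ : ∀ p, (s : Equiv.Perm Cfsg.GolayPt) ((t : Equiv.Perm Cfsg.GolayPt) p) =
      (t : Equiv.Perm Cfsg.GolayPt) ((s : Equiv.Perm Cfsg.GolayPt) p) := fun p =>
    congrArg (fun u : Cfsg.M24 => (u : Equiv.Perm Cfsg.GolayPt) p) hc
  have hs' : (s : Equiv.Perm Cfsg.GolayPt) ^ 3 = 1 := by
    rw [← SubgroupClass.coe_pow, ← hs3, pow_orderOf_eq_one]; rfl
  have ht' : (t : Equiv.Perm Cfsg.GolayPt) ^ 2 = 1 := by
    rw [← SubgroupClass.coe_pow, ← ht, pow_orderOf_eq_one]; rfl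
  have h1 := card_mod_three (s : Equiv.Perm Cfsg.GolayPt) hs' (fixedPts (t : Equiv.Perm Cfsg.GolayPt))
    fun p hp => by rw [mem_fixedPts] at hp ⊢; rw [← happ, hp]
  have h2 := even_filter (t : Equiv.Perm Cfsg.GolayPt) ht' (fixedPts (s : Equiv.Perm Cfsg.GolayPt))
    fun p hp => by rw [mem_fixedPts] at hp ⊢; rw [happ, hp]
  have he : (fixedPts (t : Equiv.Perm Cfsg.GolayPt)).filter (fun p => (s : Equiv.Perm Cfsg.GolayPt) p = p) =
      (fixedPts (s : Equiv.Perm Cfsg.GolayPt)).filter fun p => (t : Equiv.Perm Cfsg.GolayPt) p = p := by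
    ext p; simp [and_comm]
  have h3 := Finset.card_le_card (Finset.filter_subset
    (fun p => (t : Equiv.Perm Cfsg.GolayPt) p = p) (fixedPts (s : Equiv.Perm Cfsg.GolayPt)))
  rw [he] at h1
  omega

/-- Commuting involutions centralising such an element form a group of order at most four. -/
theorem card_le_four {s : Cfsg.M24} (hs3 : orderOf s = 3)
    (h6 : (fixedPts (s : Equiv.Perm Cfsg.GolayPt)).card = 6) (W : Subgroup Cfsg.M24)
    (hW : ∀ t ∈ W, t * t = 1 ∧ s * t = t * s) : Nat.card W ≤ 4 := by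
  classical
  let S := {p // p ∈ fixedPts (s : Equiv.Perm Cfsg.GolayPt)}
  have hinv : ∀ (t : W) (p : S), (t.1 : Equiv.Perm Cfsg.GolayPt) p.1 ∈ fixedPts (s : Equiv.Perm Cfsg.GolayPt) := by
    intro t p
    have := mem_fixedPts.1 p.2
    rw [mem_fixedPts]
    rw [show (s : Equiv.Perm Cfsg.GolayPt) ((t.1 : Equiv.Perm Cfsg.GolayPt) p.1) =
      (t.1 : Equiv.Perm Cfsg.GolayPt) ((s : Equiv.Perm Cfsg.GolayPt) p.1) from
      congrArg (fun u : Cfsg.M24 => (u : Equiv.Perm Cfsg.GolayPt) p.1) (hW t.1 t.2).2, this]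
  letI : MulAction W S :=
    { smul := fun t p => ⟨(t.1 : Equiv.Perm Cfsg.GolayPt) p.1, hinv t p⟩
      one_smul := fun _ => Subtype.ext rfl
      mul_smul := fun _ _ _ => Subtype.ext rfl }
  haveI : Fintype W := Fintype.ofFinite W
  haveI : Fintype (Quotient (MulAction.orbitRel W S)) := Fintype.ofFinite _
  haveI : ∀ t : W, Fintype (MulAction.fixedBy S t) := fun t => Fintype.ofFinite _
  have hb := MulAction.sum_card_fixedBy_eq_card_orbits_mul_card_group W S
  have hfix : ∀ t : W, Fintype.card (MulAction.fixedBy S t) = if t = 1 then 6 else 2 := by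
    intro t
    by_cases ht : t = 1
    · rw [if_pos ht, ← h6, ← Fintype.card_coe]
      refine Fintype.card_congr (Equiv.subtypeUnivEquiv fun p => ?_)
      rw [ht]; exact one_smul W p
    · rw [if_neg ht, ← fix_two hs3 h6 (orderOf_eq_prime (hp := ⟨Nat.prime_two⟩) (by rw [pow_two]; exact (hW t.1 t.2).1)
        (fun e => ht (Subtype.ext e))) (hW t.1 t.2).2, ← Fintype.card_coe]
      exact Fintype.card_congr
        { toFun := fun p => ⟨p.1.1, Finset.mem_filter.2 ⟨p.1.2, congrArg Subtype.val p.2⟩⟩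
          invFun := fun q => ⟨⟨q.1, (Finset.mem_filter.1 q.2).1⟩, Subtype.ext (Finset.mem_filter.1 q.2).2⟩
          left_inv := fun _ => rfl
          right_inv := fun _ => rfl }
  have hsum : ∑ t : W, (if t = 1 then 6 else 2) = 4 + 2 * Fintype.card W := by
    rw [← Finset.add_sum_erase _ _ (Finset.mem_univ (1 : W)), if_pos rfl,
      Finset.sum_congr rfl (fun t ht => if_neg (Finset.ne_of_mem_erase ht)), Finset.sum_const,
      Finset.card_erase_of_mem (Finset.mem_univ _), Finset.card_univ, smul_eq_mul]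
    have : 0 < Fintype.card W := Fintype.card_pos
    omega
  rw [Finset.sum_congr rfl (fun t _ => hfix t), hsum] at hb
  rw [Nat.card_eq_fintype_card]
  refine Nat.le_of_dvd (by norm_num) ⟨Fintype.card (Quotient (MulAction.orbitRel W S)) - 2, ?_⟩
  rw [Nat.mul_sub, mul_comm (Fintype.card W), ← hb]
  omega

end Three

variable {G : Type*} [Group G] [Finite G] {z : G} {D : Dat z} {B : Base D}

set_option linter.unusedVariables false in
/-- No elementary abelian group of order 16 meets the subgroup in dodecad classes only while centralising a lift of an element with six fixed points and a dodecad class. -/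
theorem not_rep3A (St : Pr B w2 v2) (Su : Pr B x1 x2) (hB : Good B) {n : G}
    (hn : n ∈ normalizer (Ab B hB : Set G)) {σ : Cfsg.M24}
    (hσ : Rel B n (σ : Equiv.Perm Cfsg.GolayPt)) (hs : toList (σ : Equiv.Perm Cfsg.GolayPt) = rep3A)
    {c : G} (hcA : c ∈ Ab B hB) (hc1 : c ≠ 1) (hcz : ¬ IsConj z c) (hcn : c * n = n * c)
    {E : Subgroup G} (hE : E ≤ normalizer (Ab B hB : Set G)) (hE2 : ∀ x ∈ E, x * x = 1)
    (hEn : ∀ x ∈ E, x * n = n * x) (hEc : ∀ x ∈ E, x * c = c * x) (h16 : 16 ≤ Nat.card E)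
    (hEz : ∀ x ∈ E, x ∈ Ab B hB → ¬ IsConj z x) : False := by
  classical
  obtain ⟨θ, hθ, hker, -, -⟩ := exists_iso St Su hB
  have hσ' : θ ⟨n, hn⟩ = σ := Subtype.ext (rel_unique hB hn (hθ ⟨n, hn⟩) hσ)
  let η : E →* Cfsg.M24 := θ.comp (Subgroup.inclusion hE)
  have hs3 : orderOf σ = 3 := by
    haveI : Fact (Nat.Prime 3) := ⟨Nat.prime_three⟩
    refine orderOf_eq_prime (toList_coe_injective ?_) fun e => ?_
    · beta_reduce
      rw [SubgroupClass.coe_pow, Golay.Cert.toList_pow, hs, Subgroup.coe_one, Golay.toList_one]; decide +kernel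
    · rw [e, Subgroup.coe_one, Golay.toList_one] at hs
      exact absurd hs (by decide +kernel)
  have h6 : (fixedPts (σ : Equiv.Perm Cfsg.GolayPt)).card = 6 := by
    rw [fixedPts_eq, hs]; exact fixSet_spec.2.2.2.1
  have hrange : Nat.card η.range ≤ 4 := by
    refine Three.card_le_four hs3 h6 _ ?_
    rintro _ ⟨x, rfl⟩
    refine ⟨by rw [← map_mul, show x * x = 1 from Subtype.ext (hE2 x x.2), map_one], ?_⟩
    rw [← hσ']
    show θ _ * θ _ = θ _ * θ _
    rw [← map_mul, ← map_mul]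
    exact congrArg θ (Subtype.ext (hEn x x.2).symm)
  have hmem : ∀ x : η.ker, ((x : E) : G) ∈ Ab B hB := fun x => by
    have h : Subgroup.inclusion hE (x : E) ∈ θ.ker := x.2
    rw [hker] at h
    exact h
  have hker2 : Nat.card η.ker ≤ 2 := by
    by_contra hcon
    haveI := Fintype.ofFinite η.ker
    have h2c : 2 < Fintype.card η.ker := by rw [← Nat.card_eq_fintype_card]; omega
    obtain ⟨a, b, d, hab, had, hbd⟩ := Fintype.two_lt_card_iff.1 h2c
    obtain ⟨a, b, ha, hb, hab⟩ : ∃ a b : η.ker, a ≠ 1 ∧ b ≠ 1 ∧ a ≠ b := by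
      by_cases h1 : a = 1
      · exact ⟨b, d, fun e => hab (h1.trans e.symm), fun e => had (h1.trans e.symm), hbd⟩
      by_cases h2 : b = 1
      · exact ⟨a, d, h1, fun e => hbd (h2.trans e.symm), had⟩
      exact ⟨a, b, h1, h2, hab⟩
    obtain ⟨p, hpA, hp, ea⟩ := Three.cent_masks hB hn hσ hs Three.fixA_ok (hmem a) (hEn _ (a : E).2).symm
    obtain ⟨q, hqA, hq, eb⟩ := Three.cent_masks hB hn hσ hs Three.fixA_ok (hmem b) (hEn _ (b : E).2).symm
    have hne : ∀ {x : η.ker} {m : ℕ}, x ≠ 1 → phi B m = ((x : E) : G) → m ≠ 0 := fun {x m} hx e h0 => hx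
      (Subtype.ext (Subtype.ext (by rw [← e, h0]; exact ev_zero _)))
    have hoct : ∀ {x : η.ker} {m : ℕ}, m < 2048 → x ≠ 1 → phi B m = ((x : E) : G) → octSet.testBit m = false :=
      fun {x m} hm hx e => Bool.eq_false_iff.2 fun h =>
        hEz _ (x : E).2 (hmem x) (e ▸ (bit_iff St Su hB hm (hne hx e)).1.1 h)
    have hpq : p ≠ q := fun e => hab (Subtype.ext (Subtype.ext (by rw [← ea, ← eb, e])))
    have habx : phi B (p ^^^ q) = (((a * b : η.ker) : E) : G) := by rw [phi_xor hB, ea, eb]; rfl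
    have hab1 : a * b ≠ 1 := fun e => hab (by
      rw [eq_inv_of_mul_eq_one_left e]
      exact inv_eq_of_mul_eq_one_right (Subtype.ext (Subtype.ext (hE2 _ (b : E).2))))
    have := List.all_eq_true.1 (List.all_eq_true.1 Three.fixA_class p hpA) q hqA
    simp [hne ha ea, hne hb eb, hpq, hoct hp ha ea, hoct hq hb eb,
      hoct (Nat.xor_lt_two_pow (n := 11) hp hq) hab1 habx] at this
  have := Subgroup.card_eq_card_quotient_mul_card_subgroup η.ker
  rw [Nat.card_congr (QuotientGroup.quotientKerEquivRange η).toEquiv] at this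
  have := Nat.mul_le_mul hrange hker2
  omega

end CfsgLib.Co1Loc
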