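import Cfsg.Agent.S3344
import Cfsg.Agent.Solvable.Basics
import Cfsg.Agent.CyclicNormal.Symplectic
import Mathlib.GroupTheory.Sylow

/-!
Recognition from an involution centraliser given as the stabiliser of a point in the affine group of
`𝔽₂³`, acting on eight codes.
-/

set_option autoImplicit false
set_option maxRecDepth 100000
set_option linter.style.haveILetI false

namespace CfsgLib.Co1Loc.Three

/-- The linear map with the given images of the basis. -/
def lin (a b c x : Fin 8) : Fin 8 :=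
  (if x.val.testBit 0 then a else 0) ^^^ (if x.val.testBit 1 then b else 0) ^^^ (if x.val.testBit 2 then c else 0)

/-- The affine map. -/
def af (v a b c x : Fin 8) : Fin 8 := v ^^^ lin a b c x

/-- Independence. -/
abbrev Ind (a b c : Fin 8) : Prop := a ≠ 0 ∧ b ≠ 0 ∧ b ≠ a ∧ c ≠ 0 ∧ c ≠ a ∧ c ≠ b ∧ c ≠ (a ^^^ b)

/-- The affine maps commuting with the first translation. -/
def InL (g : Fin 8 → Fin 8) : Prop := ∃ v a b, Ind 1 a b ∧ g = af v 1 a b

/-- The first translation. -/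
def t1 : Fin 8 → Fin 8 := af 1 1 2 4

/-- The elements of the extraspecial kernel. -/
def qk (k : Fin 32) : Fin 8 → Fin 8 :=
  af ⟨k.val / 4, by omega⟩ 1 ⟨2 + k.val % 2, by omega⟩ ⟨4 + k.val / 2 % 2, by omega⟩

/-- The map induced on the three lines through the first point. -/
def q3 (g : Fin 8 → Fin 8) (k : Fin 3) : Fin 3 :=
  ⟨((g ⟨2 * (k.val + 1), by omega⟩ ^^^ g 0).val / 2 + 2) % 3, Nat.mod_lt _ (by norm_num)⟩

theorem q3_mul : ∀ a b : Fin 8, Ind 1 a b → ∀ a' b' : Fin 8, Ind 1 a' b' → ∀ v v' : Fin 8, ∀ k : Fin 3,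
    q3 (af v 1 a b ∘ af v' 1 a' b') k = q3 (af v 1 a b) (q3 (af v' 1 a' b') k) := by decide +kernel

theorem q3_bij : ∀ a b : Fin 8, Ind 1 a b → ∀ v : Fin 8, ∀ k l : Fin 3,
    q3 (af v 1 a b) k = q3 (af v 1 a b) l → k = l := by decide +kernel

theorem q3_surj : ∀ π : Equiv.Perm (Fin 3), ∃ a b : Fin 8, Ind 1 a b ∧ ∀ k, q3 (af 0 1 a b) k = π k := by
  decide +kernel

theorem q3_ker : ∀ a b : Fin 8, Ind 1 a b → ∀ v : Fin 8, (∀ k, q3 (af v 1 a b) k = k) →
    ∃ i : Fin 32, ∀ x, af v 1 a b x = qk i x := by decide +kernel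

theorem qk_mem : ∀ i : Fin 32, ∃ a b : Fin 8, Ind 1 a b ∧ ∃ v : Fin 8, (∀ x, qk i x = af v 1 a b x) ∧
    ∀ k, q3 (qk i) k = k := by decide +kernel

theorem qk_inj : ∀ i j : Fin 32, (∀ x, qk i x = qk j x) → i = j := by decide +kernel

theorem qk_centre : ∀ i : Fin 32, (∀ j : Fin 32, ∀ x, qk i (qk j x) = qk j (qk i x)) →
    (∀ x, qk i x = x) ∨ ∀ x, qk i x = t1 x := by decide +kernel

theorem qk_comm : ∀ i j : Fin 32, (∀ x, qk i (qk j x) = qk j (qk i x)) ∨
    ∀ x, qk i (qk j x) = t1 (qk j (qk i x)) := by decide +kernel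

theorem qk_sq : ∀ i : Fin 32, (∀ x, qk i (qk i x) = x) ∨ ∀ x, qk i (qk i x) = t1 x := by decide +kernel

theorem qk_non : ∃ i j : Fin 32, ∃ x, qk i (qk j x) ≠ qk j (qk i x) := by decide +kernel

theorem t1_facts : (∃ i : Fin 32, ∀ x, qk i x = t1 x) ∧ (∃ i : Fin 32, ∀ x, qk i x = af 2 1 2 4 x) ∧
    (∃ x, t1 x ≠ x) ∧ (∀ x, t1 (t1 x) = x) ∧ ∃ x, af 2 1 2 4 x ≠ t1 x := by decide +kernel

theorem three_cent : ∀ a b : Fin 8, Ind 1 a b → ∀ v : Fin 8,
    (∀ x, af v 1 a b (af v 1 a b (af v 1 a b x)) = x) → (∃ x, af v 1 a b x ≠ x) →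
      ∀ i : Fin 32, (∀ x, qk i (af v 1 a b x) = af v 1 a b (qk i x)) → (∀ x, qk i x = x) ∨ ∀ x, qk i x = t1 x := by
  decide +kernel

theorem t1_comm : ∀ a b : Fin 8, Ind 1 a b → ∀ v x : Fin 8, af v 1 a b (t1 x) = t1 (af v 1 a b x) := by
  decide +kernel

theorem s3_core : ∀ τ : Equiv.Perm (Fin 3), τ * τ = 1 → τ ≠ 1 →
    ∃ π : Equiv.Perm (Fin 3), (π * τ * π⁻¹ * τ⁻¹) * (π * τ * π⁻¹ * τ⁻¹) ≠ 1 := by decide +kernel

theorem card_trip : Nat.card {p : Fin 8 × Fin 8 × Fin 8 // Ind 1 p.2.1 p.2.2} = 192 := by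
  rw [Nat.card_eq_fintype_card]; decide +kernel

theorem af_inj : ∀ a b : Fin 8, ∀ a' b' : Fin 8, Ind 1 a b → Ind 1 a' b' → ∀ v v' : Fin 8,
    (∀ x, af v 1 a b x = af v' 1 a' b' x) → v = v' ∧ a = a' ∧ b = b' := by decide +kernel

theorem three_pgroup_s3 {N : Subgroup (Equiv.Perm (Fin 3))} (hn : N.Normal) (hp : IsPGroup 2 N) : N = ⊥ := by
  have key : ∀ τ ∈ N, τ * τ = 1 := fun τ hτ => by
    obtain ⟨k, hk⟩ := hp ⟨τ, hτ⟩
    have h6 : τ ^ 6 = 1 := by
      rw [show (6 : ℕ) = Nat.card (Equiv.Perm (Fin 3)) by rw [Nat.card_eq_fintype_card, Fintype.card_perm]; rfl]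
      exact pow_card_eq_one'
    have hd : orderOf τ ∣ 2 := by
      refine Nat.Coprime.dvd_of_dvd_mul_left (m := 3) ?_ (orderOf_dvd_of_pow_eq_one (show τ ^ (3 * 2) = 1 from h6))
      exact (Nat.Coprime.pow_left k (by norm_num : Nat.Coprime 2 3)).coprime_dvd_left
        (orderOf_dvd_of_pow_eq_one (congrArg Subtype.val hk))
    rw [← pow_two]
    exact orderOf_dvd_iff_pow_eq_one.1 hd
  rw [eq_bot_iff]
  intro τ hτ
  rw [Subgroup.mem_bot]
  by_contra h
  obtain ⟨π, hπ⟩ := s3_core τ (key τ hτ) h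
  exact hπ (key _ (mul_mem (hn.conj_mem τ hτ π) (inv_mem hτ)))

/-- Recognition by `S3344` of a group whose involution centraliser is the affine stabiliser. -/
theorem recog {X : Type*} [Group X] [Finite X] (s : X) (L : Subgroup X)
    (hL : L = Subgroup.centralizer ({s} : Set X)) (f : L → Fin 8 → Fin 8) (hinj : Function.Injective f)
    (hmul : ∀ x y : L, f (x * y) = f x ∘ f y) (hrange : ∀ g, (∃ l, f l = g) ↔ InL g) (hsL : s ∈ L)
    (hs : f ⟨s, hsL⟩ = t1) (hn : ∃ g : X, ∃ h : g * s * g⁻¹ ∈ L, f ⟨_, h⟩ = af 2 1 2 4) :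
    (∃ (N : Subgroup X) (_hN : N.Normal), IsMulCommutative N ∧ (∀ n ∈ N, n ^ 2 = 1) ∧ Nat.card N = 8 ∧
        Nonempty (X ⧸ N ≃* Matrix.ProjectiveSpecialLinearGroup (Fin 3) (ZMod 2))) ∨
    Nonempty (X ≃* alternatingGroup (Fin 8)) ∨ Nonempty (X ≃* alternatingGroup (Fin 9)) ∨
      Cfsg.Spor.IsoM12 X := by
  classical
  haveI : Fact (Nat.Prime 2) := ⟨Nat.prime_two⟩
  haveI : Fact (Nat.Prime 3) := ⟨Nat.prime_three⟩
  obtain ⟨⟨i1, hi1⟩, ⟨i2, hi2⟩, ⟨x1, hx1⟩, ht1, x2, hx2⟩ := t1_facts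
  have hf1 : f 1 = id := by
    obtain ⟨v, a, b, hab, e⟩ := (hrange _).1 ⟨1, rfl⟩
    funext x
    have h := hmul 1 1
    rw [one_mul] at h
    obtain ⟨x', hx'⟩ : ∃ x', f 1 x' = x := by
      refine (Finite.injective_iff_surjective.1 ?_) x
      intro u w huw
      rw [e] at huw
      have : ∀ a b : Fin 8, Ind 1 a b → ∀ v u w : Fin 8, af v 1 a b u = af v 1 a b w → u = w := by
        decide +kernel
      exact this a b hab v u w huw
    show f 1 x = x
    conv_rhs => rw [← hx']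
    conv_lhs => rw [← hx']
    exact (congrFun h x').symm
  have hs2 : (⟨s, hsL⟩ : L) * ⟨s, hsL⟩ = 1 := hinj (by
    rw [hmul, hs, hf1]; exact funext ht1)
  have hso : orderOf s = 2 := by
    refine orderOf_eq_prime (by rw [pow_two]; exact congrArg Subtype.val hs2) fun e => hx1 ?_
    have : (⟨s, hsL⟩ : L) = 1 := Subtype.ext e
    rw [← hs, this, hf1]; rfl
  -- the action on the three lines
  have hq : ∀ l : L, Function.Injective (q3 (f l)) := fun l => by
    obtain ⟨v, a, b, hab, e⟩ := (hrange _).1 ⟨l, rfl⟩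
    rw [e]; exact fun k k' => q3_bij a b hab v k k'
  let χ : L →* Equiv.Perm (Fin 3) :=
    MonoidHom.mk' (fun l => Equiv.ofBijective (q3 (f l)) (Finite.injective_iff_bijective.1 (hq l))) fun x y => by
      ext k
      obtain ⟨v, a, b, hab, e⟩ := (hrange _).1 ⟨x, rfl⟩
      obtain ⟨v', a', b', hab', e'⟩ := (hrange _).1 ⟨y, rfl⟩
      show (q3 (f (x * y)) k : ℕ) = q3 (f x) (q3 (f y) k)
      rw [hmul, e, e', q3_mul a b hab a' b' hab' v v' k]
  have hχs : Function.Surjective χ := fun π => by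
    obtain ⟨a, b, hab, h⟩ := q3_surj π
    obtain ⟨l, hl⟩ := (hrange _).2 ⟨0, a, b, hab, rfl⟩
    exact ⟨l, Equiv.ext fun k => by show q3 (f l) k = π k; rw [hl, h]⟩
  have hker : ∀ l : L, l ∈ χ.ker ↔ ∃ i, f l = qk i := fun l => by
    rw [MonoidHom.mem_ker]
    constructor
    · intro h
      obtain ⟨v, a, b, hab, e⟩ := (hrange _).1 ⟨l, rfl⟩
      have h' : ∀ k, q3 (f l) k = k := fun k => Equiv.congr_fun h k
      rw [e] at h'
      obtain ⟨i, hi⟩ := q3_ker a b hab v h'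
      exact ⟨i, e.trans (funext hi)⟩
    · rintro ⟨i, hi⟩
      obtain ⟨-, -, -, -, -, h⟩ := qk_mem i
      exact Equiv.ext fun k => by show q3 (f l) k = k; rw [hi, h]
  have hlift : ∀ i, ∃ l : L, f l = qk i := fun i => by
    obtain ⟨a, b, hab, v, h, -⟩ := qk_mem i
    exact (hrange _).2 ⟨v, a, b, hab, funext h⟩
  choose ql hql using hlift
  have hkcard : Nat.card χ.ker = 32 := by
    rw [← Nat.card_fin 32]
    refine (Nat.card_congr (Equiv.ofBijective (fun i => (⟨ql i, (hker _).2 ⟨i, hql i⟩⟩ : χ.ker)) ⟨?_, ?_⟩)).symm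
    · intro i j h
      refine qk_inj i j fun x => ?_
      rw [← hql, ← hql, show ql i = ql j from congrArg Subtype.val h]
    · rintro ⟨l, hl⟩
      obtain ⟨i, hi⟩ := (hker l).1 hl
      exact ⟨i, Subtype.ext (hinj ((hql i).trans hi.symm))⟩
  have hcore : Cfsg.pCore 2 L = χ.ker := by
    refine le_antisymm (fun r hr => ?_)
      (Solvable.le_pCore 2 inferInstance (IsPGroup.of_card (n := 5) hkcard))
    have hnp : (Cfsg.pCore 2 L).Normal := (Solvable.pCore_spec 2).1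
    have := three_pgroup_s3 (hnp.map χ hχs) ((Solvable.isPGroup_pCore 2).map χ)
    exact MonoidHom.mem_ker.2 ((Subgroup.eq_bot_iff_forall _).1 this _ ⟨r, hr, rfl⟩)
  set Q : Subgroup X := (Cfsg.pCore 2 L).map L.subtype with hQ
  have hQcard : Nat.card Q = 32 := by
    rw [hQ, Subgroup.card_map_of_injective L.subtype_injective, hcore, hkcard]
  have hQrep : ∀ x : Q, ∃ i, ∃ l : L, (l : X) = x ∧ f l = qk i := fun x => by
    obtain ⟨l, hl, e⟩ := x.2
    rw [SetLike.mem_coe, hcore] at hl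
    obtain ⟨i, hi⟩ := (hker l).1 hl
    exact ⟨i, l, e, hi⟩
  have hQmem : ∀ l : L, (∃ i, f l = qk i) → (l : X) ∈ Q := fun l h =>
    ⟨l, (by rw [SetLike.mem_coe, hcore]; exact (hker l).2 h), rfl⟩
  have hsQ : s ∈ Q := hQmem ⟨s, hsL⟩ ⟨i1, hs.trans (funext fun x => (hi1 x).symm)⟩
  have hsub : ∀ {l : L}, ((∀ x, f l x = x) ∨ ∀ x, f l x = t1 x) → (l : X) ∈ Subgroup.zpowers s := by
    rintro l (h | h)
    · rw [show l = 1 from hinj ((funext h).trans hf1.symm)]; exact one_mem _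
    · rw [show l = ⟨s, hsL⟩ from hinj ((funext h).trans hs.symm)]; exact Subgroup.mem_zpowers s
  have hzQ : ∀ {x : Q}, (x : X) ∈ Subgroup.zpowers s → x ∈ Subgroup.zpowers (⟨s, hsQ⟩ : Q) := by
    intro x hx
    obtain ⟨k, hk⟩ := Subgroup.mem_zpowers_iff.1 hx
    exact Subgroup.mem_zpowers_iff.2 ⟨k, Subtype.ext (by rw [SubgroupClass.coe_zpow]; exact hk)⟩
  have hQex : Cfsg.IsExtraspecial 2 Q := by
    refine Cfsg.Agent.CyclicNormal.isExtraspecial_of (IsPGroup.of_card (n := 5) hQcard)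
      (z := (⟨s, hsQ⟩ : Q)) (by rw [← Subgroup.orderOf_coe]; exact hso) (fun x hx => ?_) ?_ (fun a b => ?_)
      (fun a => ?_) ?_
    · obtain ⟨i, l, hl, hi⟩ := hQrep x
      refine hzQ ?_
      rw [← hl]
      refine hsub ?_
      rw [hi]
      refine qk_centre i fun j y => ?_
      have h := Subgroup.mem_center_iff.1 hx ⟨_, hQmem (ql j) ⟨j, hql j⟩⟩
      have h' : l * ql j = ql j * l := Subtype.ext (by
        rw [Subgroup.coe_mul, Subgroup.coe_mul, hl]; exact (congrArg Subtype.val h).symm)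
      have := congrFun ((hmul _ _).symm.trans ((congrArg f h').trans (hmul _ _))) y
      rwa [hi, hql] at this
    · refine Subgroup.mem_center_iff.2 fun x => Subtype.ext ?_
      obtain ⟨i, l, hl, -⟩ := hQrep x
      show (x : X) * s = s * x
      rw [← hl]
      have hl' : (l : X) ∈ Subgroup.centralizer ({s} : Set X) := hL ▸ l.2
      exact Subgroup.mem_centralizer_singleton_iff.1 hl'
    · obtain ⟨i, l, hl, hi⟩ := hQrep a
      obtain ⟨j, m, hm, hj⟩ := hQrep b
      refine hzQ ?_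
      show (a : X) * b * (a : X)⁻¹ * (b : X)⁻¹ ∈ _
      rw [← hl, ← hm, show (l : X) * m * (l : X)⁻¹ * (m : X)⁻¹ = ((l * m * (m * l)⁻¹ : L) : X) by
        push_cast; group]
      rcases qk_comm i j with h | h
      · refine hsub (Or.inl fun x => ?_)
        rw [show l * m = m * l from hinj (by rw [hmul, hmul, hi, hj]; exact funext h), mul_inv_cancel, hf1]
        rfl
      · refine hsub (Or.inr fun x => ?_)
        rw [show l * m = ⟨s, hsL⟩ * (m * l) from hinj (by rw [hmul, hmul, hmul, hs, hi, hj]; exact funext h),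
          mul_inv_cancel_right, hs]
    · obtain ⟨i, l, hl, hi⟩ := hQrep a
      refine hzQ ?_
      rw [SubgroupClass.coe_pow, pow_two, ← hl, ← Subgroup.coe_mul]
      refine hsub ?_
      rw [hmul, hi]
      exact qk_sq i
    · obtain ⟨i, j, x, hx⟩ := qk_non
      refine ⟨⟨_, hQmem (ql i) ⟨i, hql i⟩⟩, ⟨_, hQmem (ql j) ⟨j, hql j⟩⟩, fun h => hx ?_⟩
      have h' : ql i * ql j = ql j * ql i := Subtype.ext (by
        rw [Subgroup.coe_mul, Subgroup.coe_mul]; exact congrArg Subtype.val h)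
      have := congrFun ((hmul _ _).symm.trans ((congrArg f h').trans (hmul _ _))) x
      rwa [hql, hql] at this
  have hcardL : Nat.card L = 192 := by
    rw [← card_trip]
    have hex : ∀ p : {p : Fin 8 × Fin 8 × Fin 8 // Ind 1 p.2.1 p.2.2}, ∃ l, f l = af p.1.1 1 p.1.2.1 p.1.2.2 :=
      fun p => (hrange _).2 ⟨_, _, _, p.2, rfl⟩
    choose F hF using hex
    refine (Nat.card_congr (Equiv.ofBijective F ⟨fun p q h => ?_, fun l => ?_⟩)).symm
    · obtain ⟨h1, h2, h3⟩ := af_inj _ _ _ _ p.2 q.2 p.1.1 q.1.1 fun x => by rw [← hF, ← hF, h]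
      exact Subtype.ext (Prod.ext h1 (Prod.ext h2 h3))
    · obtain ⟨v, a, b, hab, e⟩ := (hrange _).1 ⟨l, rfl⟩
      exact ⟨⟨(v, a, b), hab⟩, hinj ((hF _).trans e.symm)⟩
  obtain ⟨P⟩ : Nonempty (Sylow 3 L) := inferInstance
  have hPcard : Nat.card (P : Subgroup L) = 3 := by
    rw [P.card_eq_multiplicity, hcardL, show 192 = 2 ^ 6 * 3 by norm_num,
      Nat.factorization_mul (by norm_num) (by norm_num), Nat.factorization_pow]
    simp [Nat.prime_two.factorization, Nat.prime_three.factorization]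
  obtain ⟨⟨y, hy⟩, hy1⟩ : ∃ y : (P : Subgroup L), y ≠ 1 := by
    haveI : Nontrivial (P : Subgroup L) := Finite.one_lt_card_iff_nontrivial.1 (by rw [hPcard]; norm_num)
    exact exists_ne 1
  have hCQX : Q ⊓ Subgroup.centralizer (((P : Subgroup L).map L.subtype : Subgroup X) : Set X) =
      Subgroup.zpowers s := by
    refine le_antisymm ?_ ?_
    · rintro q ⟨hqQ, hqC⟩
      obtain ⟨i, l, hl, hi⟩ := hQrep ⟨q, hqQ⟩
      obtain rfl : (l : X) = q := hl
      refine hsub ?_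
      rw [hi]
      obtain ⟨v, a, b, hab, e⟩ := (hrange _).1 ⟨y, rfl⟩
      have hy3 : y * y * y = 1 := by
        have h := pow_card_eq_one' (x := (⟨y, hy⟩ : (P : Subgroup L)))
        rw [hPcard] at h
        have h' := congrArg Subtype.val h
        rwa [SubgroupClass.coe_pow, pow_succ, pow_two] at h'
      refine three_cent a b hab v (fun x => ?_) ?_ i fun x => ?_
      · have h := congrFun (congrArg f hy3) x
        rw [hmul, hmul, hf1, e] at h
        exact h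
      · by_contra! hne
        exact hy1 (Subtype.ext (hinj (by rw [OneMemClass.coe_one, e, hf1]; exact funext hne)))
      · have h1 := Subgroup.mem_centralizer_iff.1 hqC (y : X) ⟨y, hy, rfl⟩
        have h2 : l * y = y * l := Subtype.ext (by rw [Subgroup.coe_mul, Subgroup.coe_mul]; exact h1.symm)
        have := congrFun ((hmul _ _).symm.trans ((congrArg f h2).trans (hmul _ _))) x
        rwa [hi, e] at this
    · rw [Subgroup.zpowers_le]
      refine ⟨hsQ, Subgroup.mem_centralizer_iff.2 ?_⟩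
      rintro _ ⟨l, -, rfl⟩
      exact Subgroup.mem_centralizer_singleton_iff.1 (hL ▸ l.2 : (l : X) ∈ Subgroup.centralizer ({s} : Set X))
  refine Cfsg.Agent.S3344.result s hso L hL Q hQ hQex hQcard
    ((QuotientGroup.quotientMulEquivOfEq hcore).trans (QuotientGroup.quotientKerEquivOfSurjective χ hχs))
    P hCQX ?_
  obtain ⟨g, hg, hfg⟩ := hn
  refine ⟨g, hQmem ⟨_, hg⟩ ⟨i2, hfg.trans (funext fun x => (hi2 x).symm)⟩, fun e => hx2 ?_⟩
  rw [← hfg, ← hs]
  exact congrFun (congrArg f (Subtype.ext e)) x2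

end CfsgLib.Co1Loc.Three
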