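import Cfsg.Agent.Co1Loc.ThreeCode
import Cfsg.Agent.Co1Loc.ThreeAff
import Cfsg.Agent.M24Nse.ModelSearch
import Cfsg.Agent.Golay.MathieuFusion
import Cfsg.Agent.SpecBlow.AltSpectrum
import Cfsg.Agent.SmallSimple.SLFiveTwo

/-!
The centraliser of an element of order three without fixed points.
-/

set_option autoImplicit false
set_option maxRecDepth 100000
set_option synthInstance.maxSize 4096
set_option linter.unusedSectionVars false
set_option linter.style.haveILetI false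

namespace CfsgLib.Co1Loc

open CfsgLib CfsgLib.Quad CfsgLib.Co1Invol CfsgLib.Co1Golay Subgroup
open CfsgLib.Golay (toList)
open CfsgLib.Golay.Cert (toList_coe_injective rep3A rep3B genOK genOK_spec conjB conjB_iff)

namespace Three

/-- Words in the two generators of the stabiliser, giving each of its elements. -/
def words : List (List (Fin 2)) := [[], [0, 0], [1, 1, 0], [0, 1, 1], [1, 1, 0, 0], [1, 1], [0], [0, 0, 0],
  [1, 0, 0], [1], [0, 0, 1, 0], [1, 1, 1, 0], [1, 1, 1], [0, 0, 1], [1, 0, 0, 0], [1, 0], [0, 1], [0, 1, 0, 0],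
  [0, 1, 1, 1, 0], [0, 0, 0, 1, 0], [0, 0, 0, 1], [0, 1, 1, 1], [0, 1, 0], [0, 1, 0, 0, 0]]

/-- The map of a word. -/
def wmap (l : List (Fin 2)) (x : Fin 8) : Fin 8 := l.foldr (fun i y => gMap i.succ y) x

theorem lin_words : ∀ a b c : Fin 8, Ind a b c → ∃ j : Fin 7, ∃ i : Fin 24, ∀ x : Fin 8,
    lin a b c x = Nat.iterate (gMap 0) j.val (wmap (words.getD i.val []) x) := by decide +kernel

theorem xor_facts : (∀ x y z : Fin 8, x ^^^ y ^^^ z = x ^^^ (y ^^^ z)) ∧ (∀ x : Fin 8, x ^^^ x = 0) ∧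
    (∀ x : Fin 8, x ^^^ 0 = x ∧ 0 ^^^ x = x) ∧ (∀ x y : Fin 8, x ^^^ y = 0 → x = y) ∧
    (∀ x y : Fin 8, x ^^^ (x ^^^ y) = y ∧ x ^^^ y ^^^ x = y) := by decide +kernel

theorem xor_comm' : ∀ x y : Fin 8, x ^^^ y = y ^^^ x := by decide +kernel

theorem lin_zero : ∀ a b c : Fin 8, lin a b c 0 = 0 := by decide +kernel

theorem decomp3 : ∀ x : Fin 8, x = ((if x.val.testBit 0 then 1 else 0) ^^^ (if x.val.testBit 1 then 2 else 0)) ^^^
    (if x.val.testBit 2 then 4 else 0) := by decide +kernel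

/-- An additive bijection is linear with independent images. -/
theorem eq_lin {L : Fin 8 → Fin 8} (hadd : ∀ x y, L (x ^^^ y) = L x ^^^ L y) (hinj : Function.Injective L) :
    Ind (L 1) (L 2) (L 4) ∧ ∀ x, L x = lin (L 1) (L 2) (L 4) x := by
  have h0 : L 0 = 0 := by
    have h := hadd 0 0
    rw [xor_facts.2.1 (L 0), xor_facts.2.1 0] at h
    exact h
  have hne : ∀ {x y : Fin 8}, x ≠ y → L x ≠ L y := fun h e => h (hinj e)
  refine ⟨⟨h0 ▸ hne (by decide), h0 ▸ hne (by decide), hne (by decide), h0 ▸ hne (by decide), hne (by decide),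
    hne (by decide), ?_⟩, fun x => ?_⟩
  · rw [← hadd]; exact hne (by decide)
  · conv_lhs => rw [decomp3 x]
    rw [hadd, hadd, apply_ite L, apply_ite L, apply_ite L, h0]
    rfl

theorem af_spec : ∀ v a b c : Fin 8, af v a b c 0 = v ∧ af v a b c 1 = v ^^^ a ∧ af v a b c 2 = v ^^^ b ∧
    af v a b c 4 = v ^^^ c := by decide +kernel

theorem af_ext {v a b c v' a' b' c' : Fin 8} (h : af v a b c = af v' a' b' c') :
    v = v' ∧ a = a' ∧ b = b' ∧ c = c' := by
  obtain ⟨h0, h1, h2, h4⟩ := af_spec v a b c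
  obtain ⟨g0, g1, g2, g4⟩ := af_spec v' a' b' c'
  obtain rfl : v = v' := by rw [← h0, h, g0]
  have key : ∀ {p q : Fin 8}, v ^^^ p = v ^^^ q → p = q := fun {p q} e => by
    rw [← (xor_facts.2.2.2.2 v p).1, e, (xor_facts.2.2.2.2 v q).1]
  exact ⟨rfl, key (by rw [← h1, h, g1]), key (by rw [← h2, h, g2]), key (by rw [← h4, h, g4])⟩

/-- Triples fixing a point. -/
abbrev Fixing (x : Fin 8) : Type := {q : Fin 8 × Fin 8 × Fin 8 // Ind q.1 q.2.1 q.2.2 ∧ lin q.1 q.2.1 q.2.2 x = x}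

theorem card_fixing : ∀ x : Fin 8, Fintype.card (Fixing x) = if x = 0 then 168 else 24 := by decide +kernel

theorem lin_one : ∀ a b c : Fin 8, lin a b c 1 = a := by decide +kernel

theorem conj_map_ex : Ind 2 1 4 ∧ lin 2 1 4 1 = 2 := by decide +kernel

theorem trans_maps : (∀ v x : Fin 8, af v 1 2 4 x = v ^^^ x) ∧ Ind 1 2 4 := by decide +kernel

theorem bound_rep3B : M24Nse.Model.centBoundAt rep3B = 504 := by decide +kernel

theorem card_psl_dvd : Nat.card (Matrix.ProjectiveSpecialLinearGroup (Fin 3) (ZMod 2)) ∣ 168 := by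
  rw [show (168 : ℕ) = Nat.card (Matrix.SpecialLinearGroup (Fin 3) (ZMod 2)) from
    (SLFiveTwo.card_det_one.symm.trans Nat.card_eq_fintype_card.symm)]
  exact Subgroup.card_quotient_dvd_card _

theorem alt_eight : ∀ g : alternatingGroup (Fin 8), orderOf g ≠ 10 := fun g => by
  have h := SpecBlow.orderOf_mem_of_cycleData ({1, 2, 3, 4, 5, 6, 7, 15} : Finset ℕ) (by decide +kernel) g
  intro e
  rw [e] at h
  exact absurd h (by decide)

/-- The order of a group acting through the affine maps. -/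
theorem card_eq_mul {S : Type*} [Group S] [Finite S] (T : S → Fin 8 → Fin 8)
    (hmul : ∀ a b, T (a * b) = T a ∘ T b) (h1 : T 1 = id) {k : ℕ}
    (hk : Nat.card {s : S // T s = id} = k) {ι : Type*} (e : ι → Fin 8 → Fin 8) (he : Function.Injective e)
    (hr : ∀ f, (∃ s, T s = f) ↔ ∃ i, e i = f) : Nat.card S = k * Nat.card ι := by
  let Φ : S →* Equiv.Perm (Fin 8) := MonoidHom.mk' (fun s => ⟨T s, T s⁻¹,
      fun x => by rw [← Function.comp_apply (f := T s⁻¹), ← hmul, inv_mul_cancel, h1]; rfl,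
      fun x => by rw [← Function.comp_apply (f := T s), ← hmul, mul_inv_cancel, h1]; rfl⟩)
    fun a b => Equiv.ext fun x => congrFun (hmul a b) x
  have hker : Nat.card Φ.ker = k := by
    rw [← hk]
    exact Nat.card_congr (Equiv.subtypeEquivRight fun s => ⟨fun h => funext fun x => Equiv.congr_fun h x,
      fun h => Equiv.ext fun x => congrFun h x⟩)
  choose s hs using fun i => (hr (e i)).2 ⟨i, rfl⟩
  have hrange : Nat.card Φ.range = Nat.card ι := by
    refine (Nat.card_congr (Equiv.ofBijective (fun i => (⟨Φ (s i), s i, rfl⟩ : Φ.range)) ⟨?_, ?_⟩)).symm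
    · intro i j h
      refine he ?_
      rw [← hs i, ← hs j]
      exact funext fun x => Equiv.congr_fun (congrArg Subtype.val h) x
    · rintro ⟨_, t, rfl⟩
      obtain ⟨i, hi⟩ := (hr (T t)).1 ⟨t, rfl⟩
      exact ⟨i, Subtype.ext (Equiv.ext fun x => congrFun ((hs i).trans hi) x)⟩
  have h := Subgroup.card_eq_card_quotient_mul_card_subgroup Φ.ker
  rw [Nat.card_congr (QuotientGroup.quotientKerEquivRange Φ).toEquiv, hrange, hker] at h
  rw [h, mul_comm]

variable {G : Type*} [Group G] [Finite G] {z : G} {D : Dat z} {B : Base D}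

theorem phi_fm_xor (hB : Good B) (x y : Fin 8) : phi B (fm (x ^^^ y)) = phi B (fm x) * phi B (fm y) := by
  rw [fm_facts.2.1, phi_xor hB]

theorem phi_fm_inj (hB : Good B) {x y : Fin 8} (h : phi B (fm x) = phi B (fm y)) : x = y :=
  fm_facts.2.2.1 x y (phi_inj hB (fm_facts.1 x).1 (fm_facts.1 y).1 h)

/-- The centraliser in the normaliser acts as the affine group of the fixed masks. -/
theorem affine_model (St : Pr B w2 v2) (Su : Pr B x1 x2) (hB : Good B) {w : G}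
    (hwN : w ∈ normalizer (Ab B hB : Set G)) (hw3 : orderOf w = 3) {σ : Cfsg.M24}
    (hσ : Rel B w (σ : Equiv.Perm Cfsg.GolayPt)) (hs : toList (σ : Equiv.Perm Cfsg.GolayPt) = rep3B) :
    (∀ x, phi B (fm x) ∈ normalizer (Ab B hB : Set G) ⊓ centralizer ({w} : Set G)) ∧
    (∀ c ∈ Ab B hB, c * w = w * c → ∃ x, phi B (fm x) = c) ∧
    ∃ T : ↥(normalizer (Ab B hB : Set G) ⊓ centralizer ({w} : Set G)) → Fin 8 → Fin 8,
      (∀ a b, T (a * b) = T a ∘ T b) ∧ T 1 = id ∧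
      (∀ (a : ↥(normalizer (Ab B hB : Set G) ⊓ centralizer ({w} : Set G))) (v : Fin 8),
        (a : G) = phi B (fm v) → T a = fun x => v ^^^ x) ∧
      (∀ a : ↥(normalizer (Ab B hB : Set G) ⊓ centralizer ({w} : Set G)),
        T a = id ↔ (a : G) ∈ zpowers w) ∧
      (∀ f, (∃ a, T a = f) ↔ ∃ v p q r, Ind p q r ∧ f = af v p q r) ∧
      (∀ a : ↥(normalizer (Ab B hB : Set G) ⊓ centralizer ({w} : Set G)), ∀ x y,
        (a : G) * phi B (fm x) * (a : G)⁻¹ = phi B (fm y) ↔ T a x = T a 0 ^^^ y) := by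
  classical
  set N := normalizer (Ab B hB : Set G) with hNdef
  obtain ⟨θ, hθ, hker, hsurj, hNcard⟩ := exists_iso St Su hB
  have hθw : θ ⟨w, hwN⟩ = σ := Subtype.ext (rel_unique hB hwN (hθ ⟨w, hwN⟩) hσ)
  have hAN : ∀ {a : G}, a ∈ Ab B hB → a ∈ N := fun h => le_normalizer h
  have hθA : ∀ {a : G} (h : a ∈ Ab B hB), θ ⟨a, hAN h⟩ = 1 := fun {a} h => by
    rw [← MonoidHom.mem_ker, hker]; exact h
  have hAθ : ∀ {n : N}, θ n = 1 → (n : G) ∈ Ab B hB := fun {n} h => by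
    rw [← MonoidHom.mem_ker, hker] at h; exact h
  -- a section
  obtain ⟨K, hK⟩ := exists_split St Su hB
  let θK : K →* Cfsg.M24 := θ.comp K.subtype
  have hθKinj : Function.Injective θK := (injective_iff_map_eq_one θK).2 fun k hk => Subtype.ext (by
    have : (k : N) ∈ (Ab B hB).subgroupOf N ⊓ K := ⟨hAθ hk, k.2⟩
    rwa [hK.disjoint.eq_bot, mem_bot] at this)
  have hθKbij : Function.Bijective θK := by
    refine (Nat.bijective_iff_injective_and_card θK).2 ⟨hθKinj, ?_⟩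
    have h := hK.card_mul_card
    rw [Nat.card_congr (subgroupOfEquivOfLe (le_normalizer (H := Ab B hB))).toEquiv, card_Ab hB, hNcard] at h
    rw [CfsgLib.Golay.card_M24]
    omega
  let κ₀ : Cfsg.M24 →* N := K.subtype.comp (MulEquiv.ofBijective θK hθKbij).symm.toMonoidHom
  have hκ₀ : ∀ g, θ (κ₀ g) = g := fun g => (MulEquiv.ofBijective θK hθKbij).apply_symm_apply g
  -- moved so that it meets the given element
  obtain ⟨k, hk⟩ : ∃ k : G, k = (κ₀ σ : G) := ⟨_, rfl⟩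
  set a0 := w * k⁻¹ with ha0
  have ha0A : a0 ∈ Ab B hB := by
    have : θ (⟨w, hwN⟩ * (κ₀ σ)⁻¹) = 1 := by rw [map_mul, map_inv, hθw, hκ₀, mul_inv_cancel]
    have := hAθ this
    rwa [Subgroup.coe_mul, Subgroup.coe_inv, ← hk] at this
  have hs3 : σ * σ * σ = 1 := by
    have := congrArg θ (show (⟨w, hwN⟩ : N) ^ 3 = 1 from Subtype.ext (by
      rw [SubgroupClass.coe_pow, ← hw3, pow_orderOf_eq_one]; rfl))
    rwa [map_pow, map_one, hθw, pow_succ, pow_two] at this
  have hk3 : k * k * k = 1 := by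
    rw [hk, ← Subgroup.coe_mul, ← Subgroup.coe_mul, ← map_mul, ← map_mul, hs3, map_one, Subgroup.coe_one]
  set a1 := k * a0 * k⁻¹ with ha1
  have ha1A : a1 ∈ Ab B hB := (mem_normalizer_iff.1 (hk ▸ (κ₀ σ).2 : k ∈ N) a0).1 ha0A
  let κ : Cfsg.M24 →* G := (MulAut.conj a1).toMonoidHom.comp (N.subtype.comp κ₀)
  have hκ : ∀ g, κ g = a1 * (κ₀ g : G) * a1⁻¹ := fun g => rfl
  have hκN : ∀ g, κ g ∈ N := fun g => by
    rw [hκ]; exact mul_mem (mul_mem (hAN ha1A) (κ₀ g).2) (inv_mem (hAN ha1A))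
  have hθκ : ∀ g, θ ⟨κ g, hκN g⟩ = g := fun g => by
    rw [show (⟨κ g, hκN g⟩ : N) = ⟨a1, hAN ha1A⟩ * κ₀ g * ⟨a1, hAN ha1A⟩⁻¹ from rfl, map_mul, map_mul, map_inv,
      hθA ha1A, hκ₀, one_mul, inv_one, mul_one]
  have hκσ : κ σ = w := by
    have hb : k * a1 * k⁻¹ ∈ Ab B hB := (mem_normalizer_iff.1 (hk ▸ (κ₀ σ).2 : k ∈ N) a1).1 ha1A
    have hw : a0 * k = w := by rw [ha0, inv_mul_cancel_right]
    have hw3' : a0 * k * (a0 * k) * (a0 * k) = 1 := by
      rw [hw, ← pow_two, ← pow_succ]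
      exact (congrArg (w ^ ·) hw3.symm).trans (pow_orderOf_eq_one w)
    have hn : a0 * a1 * (k * a1 * k⁻¹) = 1 := by
      calc a0 * a1 * (k * a1 * k⁻¹) = a0 * k * (a0 * k) * (a0 * k) * (k * k * k)⁻¹ := by rw [ha1]; group
        _ = 1 := by rw [hw3', hk3, inv_one, one_mul]
    have hinv : a1⁻¹ = a1 := inv_eq_of_mul_eq_one_right (by
      rw [← pow_two]; exact ((Ab_elementary hB).2 a1 ha1A))
    rw [hκ, ← hk, hinv]
    calc a1 * k * a1 = a1 * (k * a1 * k⁻¹) * k := by group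
      _ = a0 * k := by
          congr 1
          have h2 := eq_inv_of_mul_eq_one_right (mul_assoc a0 _ _ ▸ hn)
          rw [h2, inv_eq_of_mul_eq_one_right]
          rw [← pow_two]; exact (Ab_elementary hB).2 a0 ha0A
      _ = w := hw
  -- the fixed subgroup
  have hP : ∀ x, phi B (fm x) * w = w * phi B (fm x) := fun x => by
    have := (conj_iff hB hwN hσ hs (fm_facts.1 x).1 (fm_facts.1 x).1).2 (fm_facts.1 x).2
    rw [mul_inv_eq_iff_eq_mul] at this
    exact this.symm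
  have hPN : ∀ x, phi B (fm x) ∈ N ⊓ centralizer ({w} : Set G) := fun x =>
    ⟨hAN (phi_mem hB _), mem_centralizer_singleton_iff.2 (hP x)⟩
  have hF : ∀ c ∈ Ab B hB, c * w = w * c → ∃ x, phi B (fm x) = c := fun c hc hcw => by
    obtain ⟨m, hm, -, rfl⟩ := cent_masks hB hwN hσ hs fm_facts.2.2.2.2.2 hc hcw.symm
    simp only [List.mem_cons, List.not_mem_nil, or_false] at hm
    rcases hm with rfl | rfl | rfl | rfl | rfl | rfl | rfl | rfl <;> exact ⟨_, rfl⟩
  refine ⟨hPN, hF, ?_⟩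
  set CN := N ⊓ centralizer ({w} : Set G) with hCN
  let θ' : CN →* Cfsg.M24 := θ.comp (Subgroup.inclusion inf_le_left)
  have hθ'σ : ∀ a : CN, θ' a * σ = σ * θ' a := fun a => by
    rw [← hθw]
    show θ _ * θ _ = θ _ * θ _
    rw [← map_mul, ← map_mul]
    exact congrArg θ (Subtype.ext (mem_centralizer_singleton_iff.1 a.2.2))
  have hκw : ∀ {g : Cfsg.M24}, g * σ = σ * g → κ g * w = w * κ g := fun {g} h => by
    rw [← hκσ, ← map_mul, ← map_mul, h]
  have hκCN : ∀ {g : Cfsg.M24}, g * σ = σ * g → κ g ∈ CN := fun {g} h =>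
    ⟨hκN g, mem_centralizer_singleton_iff.2 (hκw h)⟩
  have hT : ∀ (a : CN) (x : Fin 8), ∃ y, phi B (fm y) = (a : G) * phi B (fm x) * (κ (θ' a))⁻¹ := by
    intro a x
    refine hF _ ?_ ?_
    · have h1 : θ ⟨(a : G) * phi B (fm x) * (κ (θ' a))⁻¹,
          mul_mem (mul_mem a.2.1 (hAN (phi_mem hB _))) (inv_mem (hκN _))⟩ = 1 := by
        rw [show (⟨(a : G) * phi B (fm x) * (κ (θ' a))⁻¹,
          mul_mem (mul_mem a.2.1 (hAN (phi_mem hB _))) (inv_mem (hκN _))⟩ : N) =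
          ⟨a, a.2.1⟩ * ⟨_, hAN (phi_mem hB (fm x))⟩ * ⟨_, hκN (θ' a)⟩⁻¹ from rfl, map_mul, map_mul, map_inv,
          hθA (phi_mem hB _), hθκ, mul_one]
        exact mul_inv_cancel _
      exact hAθ h1
    · exact mem_centralizer_singleton_iff.1 (mul_mem (mul_mem a.2.2 (hPN x).2) (inv_mem (hκCN (hθ'σ a)).2))
  choose T hT using hT
  have hmul : ∀ a b, T (a * b) = T a ∘ T b := fun a b => funext fun x => phi_fm_inj hB (by
    rw [Function.comp_apply, hT, hT a, hT b, map_mul θ', map_mul κ, Subgroup.coe_mul]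
    group)
  have hone : T 1 = id := funext fun x => phi_fm_inj hB (by
    rw [hT, map_one θ', map_one κ, Subgroup.coe_one, one_mul, inv_one, mul_one]; rfl)
  have htr : ∀ (a : CN) v, (a : G) = phi B (fm v) → T a = fun x => v ^^^ x := fun a v h =>
    funext fun x => phi_fm_inj hB (by
      have : θ' a = 1 := hθA (show (a : G) ∈ Ab B hB from h ▸ phi_mem hB _)
      rw [hT, this, map_one, inv_one, mul_one, h, phi_fm_xor hB])
  have hconj : ∀ (a : CN) x, (a : G) * phi B (fm x) * (a : G)⁻¹ = phi B (fm (T a x ^^^ T a 0)) := fun a x => by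
    rw [phi_fm_xor hB, hT, hT, fm_facts.2.2.2.1, show phi B 0 = (1 : G) from ev_zero _, mul_one]
    have e : ((a : G) * (κ (θ' a))⁻¹)⁻¹ = (a : G) * (κ (θ' a))⁻¹ := by
      refine inv_eq_of_mul_eq_one_right ?_
      rw [← pow_two]
      refine (Ab_elementary hB).2 _ ?_
      have := hT a 0
      rw [fm_facts.2.2.2.1, show phi B 0 = (1 : G) from ev_zero _, mul_one] at this
      exact this ▸ phi_mem hB _
    rw [← e]
    group
  have hconj_iff : ∀ (a : CN) x y, (a : G) * phi B (fm x) * (a : G)⁻¹ = phi B (fm y) ↔ T a x = T a 0 ^^^ y := by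
    intro a x y
    rw [hconj]
    constructor
    · intro h
      rw [← phi_fm_inj hB h, xor_comm' (T a x) (T a 0), (xor_facts.2.2.2.2 _ _).1]
    · intro h
      rw [h, (xor_facts.2.2.2.2 _ _).2]
  have haff : ∀ a, ∃ v p q r, Ind p q r ∧ T a = af v p q r := fun a => by
    let L : Fin 8 → Fin 8 := fun x => T a x ^^^ T a 0
    have hL : ∀ x, (a : G) * phi B (fm x) * (a : G)⁻¹ = phi B (fm (L x)) := hconj a
    have hadd : ∀ x y, L (x ^^^ y) = L x ^^^ L y := fun x y => phi_fm_inj hB (by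
      rw [← hL, phi_fm_xor hB (L x), ← hL, ← hL, phi_fm_xor hB]; group)
    have hinj : Function.Injective L := fun x y h => phi_fm_inj hB (by
      have : (a : G) * phi B (fm x) * (a : G)⁻¹ = (a : G) * phi B (fm y) * (a : G)⁻¹ := by rw [hL, hL, h]
      exact mul_left_cancel (mul_right_cancel this))
    obtain ⟨hI, hlin⟩ := eq_lin hadd hinj
    refine ⟨T a 0, L 1, L 2, L 4, hI, funext fun x => ?_⟩
    show T a x = T a 0 ^^^ lin (L 1) (L 2) (L 4) x
    rw [← hlin x]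
    show T a x = T a 0 ^^^ (T a x ^^^ T a 0)
    rw [xor_comm' (T a x) (T a 0), (xor_facts.2.2.2.2 _ _).1]
  have hκT : ∀ {L : List ℕ} {f : Fin 8 → Fin 8}, genOK L = true → conjB rep3B rep3B L = true →
      (∀ x, actM L (fm x) (fm (f x)) = true) → ∃ a, T a = f := by
    intro L f hok hcj hact
    obtain ⟨g, hg⟩ := genOK_spec hok
    have hgσ : g * σ = σ * g := conjB_iff.1 (by rw [hs, hg]; exact hcj)
    refine ⟨⟨κ g, hκCN hgσ⟩, funext fun x => phi_fm_inj hB ?_⟩
    have e : θ' ⟨κ g, hκCN hgσ⟩ = g := hθκ g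
    rw [hT, e]
    exact (conj_iff hB (hκN g) (by simpa only [hθκ] using hθ ⟨κ g, hκN g⟩) hg (fm_facts.1 x).1
      (fm_facts.1 _).1).2 (hact x)
  have hgen : ∀ i : Fin 3, ∃ a, T a = gMap i := fun i => by
    have hmem : [g7L, uL, vL].getD i.val [] ∈ [g7L, uL, vL] := by fin_cases i <;> simp
    exact hκT (gens_ok _ hmem).1 (gens_ok _ hmem).2 (gens_act i)
  have hiter : ∀ j, ∃ a, T a = Nat.iterate (gMap 0) j := by
    intro j
    induction j with
    | zero => exact ⟨1, hone⟩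
    | succ j ih =>
      obtain ⟨a, ha⟩ := ih
      obtain ⟨b, hb⟩ := hgen 0
      exact ⟨a * b, by rw [hmul, ha, hb, Function.iterate_succ]⟩
  have hword : ∀ l, ∃ a, T a = wmap l := by
    intro l
    induction l with
    | nil => exact ⟨1, hone⟩
    | cons i l ih =>
      obtain ⟨a, ha⟩ := ih
      obtain ⟨b, hb⟩ := hgen i.succ
      exact ⟨b * a, by rw [hmul, ha, hb]; rfl⟩
  have hsurjT : ∀ v p q r, Ind p q r → ∃ a, T a = af v p q r := by
    intro v p q r h
    obtain ⟨j, i, hji⟩ := lin_words p q r h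
    obtain ⟨a, ha⟩ := hiter j.val
    obtain ⟨b, hb⟩ := hword (words.getD i.val [])
    refine ⟨⟨_, hPN v⟩ * (a * b), funext fun x => ?_⟩
    rw [hmul, hmul, htr _ v rfl, ha, hb]
    show v ^^^ _ = v ^^^ lin p q r x
    rw [hji x]; rfl
  have hrange : ∀ f, (∃ a, T a = f) ↔ ∃ v p q r, Ind p q r ∧ f = af v p q r := fun f =>
    ⟨fun ⟨a, ha⟩ => by obtain ⟨v, p, q, r, h1, h2⟩ := haff a; exact ⟨v, p, q, r, h1, ha ▸ h2⟩,
      fun ⟨v, p, q, r, h1, h2⟩ => h2 ▸ hsurjT v p q r h1⟩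
  -- the kernel
  have hwCN : w ∈ CN := ⟨hwN, mem_centralizer_singleton_iff.2 rfl⟩
  have hTw : T ⟨w, hwCN⟩ = id := funext fun x => phi_fm_inj hB (by
    have e : θ' ⟨w, hwCN⟩ = σ := hθw
    rw [hT, e, hκσ, ← hP x, mul_inv_cancel_right]; rfl)
  have hzp : ∀ a : CN, (a : G) ∈ zpowers w → T a = id := fun a ha => by
    obtain ⟨n, hn⟩ := (mem_powers_iff_mem_zpowers.2 ha)
    have : a = ⟨w, hwCN⟩ ^ n := Subtype.ext (by rw [SubgroupClass.coe_pow]; exact hn.symm)
    rw [this]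
    clear this hn
    induction n with
    | zero => rw [pow_zero, hone]
    | succ n ih => rw [pow_succ, hmul, ih, hTw]; rfl
  have hcard8 : Nat.card CN ≤ 8 * 504 := by
    have hc504 := M24Nse.Model.card_centralizer_le_at hs bound_rep3B
    refine le_trans (Nat.card_le_card_of_injective (β := Fin 8 × ↥(centralizer ({σ} : Set Cfsg.M24)))
      (fun a => (T a 0, ⟨θ' a, mem_centralizer_singleton_iff.2 (hθ'σ a)⟩)) fun a b h => ?_) ?_
    · obtain ⟨h0, h1⟩ := Prod.ext_iff.1 h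
      have e : θ' a = θ' b := congrArg Subtype.val h1
      have h2 := hT a 0
      rw [show T a 0 = T b 0 from h0, hT b 0, e] at h2
      exact Subtype.ext (mul_right_cancel (mul_right_cancel h2)).symm
    · rw [Nat.card_prod, Nat.card_fin]
      exact Nat.mul_le_mul_left 8 hc504
  have hkle : Nat.card {a : CN // T a = id} ≤ 3 := by
    have h := card_eq_mul T hmul hone rfl
      (fun i : Fin 8 × Fixing 0 => af i.1 i.2.1.1 i.2.1.2.1 i.2.1.2.2)
      (fun i i' h => by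
        obtain ⟨h1, h2, h3, h4⟩ := af_ext h
        exact Prod.ext h1 (Subtype.ext (Prod.ext h2 (Prod.ext h3 h4))))
      (fun f => (hrange f).trans ⟨fun ⟨v, p, q, r, h1, h2⟩ => ⟨(v, ⟨(p, q, r), h1, lin_zero p q r⟩), h2.symm⟩,
        fun ⟨⟨v, q, hq⟩, e⟩ => ⟨v, _, _, _, hq.1, e.symm⟩⟩)
    rw [Nat.card_prod, Nat.card_fin, Nat.card_eq_fintype_card (α := Fixing 0), card_fixing, if_pos rfl] at h
    omega
  have hkerT : ∀ a, T a = id ↔ (a : G) ∈ zpowers w := by
    intro a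
    refine ⟨fun ha => ?_, hzp a⟩
    have h3 : Nat.card (zpowers w) = 3 := by rw [Nat.card_zpowers, hw3]
    let emb : zpowers w → {a : CN // T a = id} := fun b => ⟨⟨b.1, (zpowers_le.2 hwCN) b.2⟩, hzp _ b.2⟩
    have hemb : Function.Injective emb := fun b b' h =>
      Subtype.ext (congrArg (fun u : {a : CN // T a = id} => ((u : CN) : G)) h : (b : G) = b')
    have hbij : Function.Bijective emb := by
      refine (Nat.bijective_iff_injective_and_card _).2 ⟨hemb, ?_⟩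
      refine le_antisymm (Nat.card_le_card_of_injective _ hemb) ?_
      rw [h3]; exact hkle
    obtain ⟨b, hb⟩ := hbij.2 ⟨a, ha⟩
    exact (congrArg (fun u : {a : CN // T a = id} => ((u : CN) : G)) hb) ▸ b.2
  exact ⟨T, hmul, hone, htr, hkerT, hrange, hconj_iff⟩

end Three

variable {G : Type*} [Group G] [Finite G] {z : G} {D : Dat z} {B : Base D}

/-- The centraliser of a lift of order three of an element without fixed points. -/
theorem cent_rep3B (St : Pr B w2 v2) (Su : Pr B x1 x2) (hB : Good B)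
    (hc : ∀ c ∈ Ab B hB, c ≠ 1 → ¬ IsConj z c → centralizer ({c} : Set G) ≤ normalizer (Ab B hB : Set G))
    {w : G} (hwN : w ∈ normalizer (Ab B hB : Set G)) (hw3 : orderOf w = 3) {σ : Cfsg.M24}
    (hσ : Rel B w (σ : Equiv.Perm Cfsg.GolayPt)) (hs : toList (σ : Equiv.Perm Cfsg.GolayPt) = rep3B) :
    Nat.card ↥(Ab B hB ⊓ centralizer ({w} : Set G)) = 8 ∧
    (∀ c ∈ Ab B hB, c ≠ 1 → c * w = w * c →
      ¬ IsConj z c ∧ Nat.card ↥(centralizer ({w} : Set G) ⊓ centralizer ({c} : Set G)) = 3 * 192) ∧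
    ((∃ x ∈ centralizer ({w} : Set G), orderOf x = 10) →
      ∃ φ : ↥(centralizer ({w} : Set G)) →* ↥(alternatingGroup (Fin 9)), Function.Surjective φ ∧
        φ.ker = (zpowers w).subgroupOf (centralizer ({w} : Set G))) := by
  classical
  have model := Three.affine_model St Su hB hwN hw3 hσ hs
  set N := normalizer (Ab B hB : Set G) with hNdef
  set C := centralizer ({w} : Set G) with hCdef
  obtain ⟨hPN, hF, T, hmul, hone, htr, hkerT, hrange, hconj⟩ := model
  have h3 : Nat.card (zpowers w) = 3 := by rw [Nat.card_zpowers, hw3]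
  have hwC : w ∈ C := mem_centralizer_singleton_iff.2 rfl
  have hz : ∀ x : Fin 8, x ≠ 0 → phi B (Three.fm x) ≠ 1 ∧ ¬ IsConj z (phi B (Three.fm x)) := fun x hx => by
    have h0 : Three.fm x ≠ 0 := fun e => hx (Three.fm_facts.2.2.1 x 0 (e.trans Three.fm_facts.2.2.2.1.symm))
    refine ⟨fun e => h0 (phi_eq_one hB (Three.fm_facts.1 x).1 e), fun hzc => ?_⟩
    have := (bit_iff St Su hB (Three.fm_facts.1 x).1 h0).1.2 hzc
    rw [Three.fm_facts.2.2.2.2.1 x hx] at this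
    exact Bool.false_ne_true this
  have hle : ∀ x : Fin 8, x ≠ 0 → C ⊓ centralizer ({phi B (Three.fm x)} : Set G) ≤ N ⊓ C := fun x hx g hg =>
    ⟨hc _ (phi_mem hB _) (hz x hx).1 (hz x hx).2 hg.2, hg.1⟩
  have hfix : ∀ (a : ↥(N ⊓ C)) x,
      (a : G) ∈ centralizer ({phi B (Three.fm x)} : Set G) ↔ T a x = T a 0 ^^^ x := fun a x => by
    rw [← hconj, mem_centralizer_singleton_iff, mul_inv_eq_iff_eq_mul]
  have hcard : ∀ x : Fin 8, x ≠ 0 → Nat.card ↥(C ⊓ centralizer ({phi B (Three.fm x)} : Set G)) = 3 * 192 := by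
    intro x hx
    let j : ↥(C ⊓ centralizer ({phi B (Three.fm x)} : Set G)) →* ↥(N ⊓ C) := Subgroup.inclusion (hle x hx)
    rw [show (192 : ℕ) = Nat.card (Fin 8 × Three.Fixing x) by
      rw [Nat.card_prod, Nat.card_fin, Nat.card_eq_fintype_card (α := Three.Fixing x), Three.card_fixing,
        if_neg hx]]
    refine Three.card_eq_mul (fun s => T (j s)) (fun a b => by rw [map_mul, hmul]) (by rw [map_one, hone]) ?_
      (fun i => Three.af i.1 i.2.1.1 i.2.1.2.1 i.2.1.2.2) (fun i i' h => ?_) fun f => ?_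
    · refine (Nat.card_congr
        { toFun := fun s => (⟨(s.1 : G), (hkerT _).1 s.2⟩ : zpowers w)
          invFun := fun b => ⟨⟨b.1, (zpowers_le.2 (show w ∈ C ⊓ centralizer ({phi B (Three.fm x)} : Set G) from
            ⟨hwC, mem_centralizer_singleton_iff.2 (mem_centralizer_singleton_iff.1 (hPN x).2).symm⟩)) b.2⟩,
            (hkerT _).2 b.2⟩
          left_inv := fun _ => rfl
          right_inv := fun _ => rfl }).trans h3
    · obtain ⟨h1, h2, h3', h4⟩ := Three.af_ext h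
      exact Prod.ext h1 (Subtype.ext (Prod.ext h2 (Prod.ext h3' h4)))
    · constructor
      · rintro ⟨s, rfl⟩
        obtain ⟨v, p, q, r, hI, e⟩ := (hrange _).1 ⟨j s, rfl⟩
        have h := (hfix (j s) x).1 s.2.2
        rw [e, (Three.af_spec v p q r).1] at h
        refine ⟨(v, ⟨(p, q, r), hI, ?_⟩), e.symm⟩
        rw [← (Three.xor_facts.2.2.2.2 v (Three.lin p q r x)).1,
          show v ^^^ Three.lin p q r x = v ^^^ x from h, (Three.xor_facts.2.2.2.2 v x).1]
      · rintro ⟨⟨v, ⟨p, q, r⟩, hI, hx'⟩, rfl⟩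
        obtain ⟨a, ha⟩ := (hrange _).2 ⟨v, p, q, r, hI, rfl⟩
        refine ⟨⟨a, a.2.2, (hfix a x).2 ?_⟩, by show T _ = _; exact ha⟩
        rw [ha, (Three.af_spec v p q r).1]
        show v ^^^ Three.lin p q r x = v ^^^ x
        rw [hx']
  refine ⟨?_, fun c hcA hc1 hcw => ?_, fun ⟨x, hx, hx10⟩ => ?_⟩
  · rw [← Nat.card_fin 8]
    refine (Nat.card_congr (Equiv.ofBijective (fun i : Fin 8 =>
      (⟨phi B (Three.fm i), phi_mem hB _, (hPN i).2⟩ : ↥(Ab B hB ⊓ C))) ⟨?_, ?_⟩)).symm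
    · exact fun i i' h => Three.phi_fm_inj hB (congrArg Subtype.val h)
    · rintro ⟨c, hcA, hcw⟩
      obtain ⟨i, hi⟩ := hF c hcA (mem_centralizer_singleton_iff.1 hcw)
      exact ⟨i, Subtype.ext hi⟩
  · obtain ⟨i, rfl⟩ := hF c hcA hcw
    have hi : i ≠ 0 := fun e => hc1 (by rw [e, Three.fm_facts.2.2.2.1]; exact ev_zero _)
    exact ⟨(hz i hi).2, hcard i hi⟩
  -- the quotient
  set Z := (zpowers w).subgroupOf C with hZdef
  haveI : Z.Normal := ⟨fun y hy g => by
    rw [hZdef, mem_subgroupOf] at hy ⊢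
    obtain ⟨n, hn⟩ := mem_zpowers_iff.1 hy
    have hg : Commute (g : G) w := mem_centralizer_singleton_iff.1 g.2
    rw [Subgroup.coe_mul, Subgroup.coe_mul, Subgroup.coe_inv, ← hn, (hg.zpow_right n).eq, mul_inv_cancel_right]
    exact ⟨n, rfl⟩⟩
  let π : ↥C →* ↥C ⧸ Z := QuotientGroup.mk' Z
  have hπ : ∀ {y y' : C}, π y = π y' ↔ (y : G)⁻¹ * (y' : G) ∈ zpowers w := fun {y y'} => by
    show QuotientGroup.mk y = QuotientGroup.mk y' ↔ _
    rw [QuotientGroup.eq, hZdef, mem_subgroupOf, Subgroup.coe_mul, Subgroup.coe_inv]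
  set c1 : G := phi B (Three.fm 1) with hc1def
  let c1' : C := ⟨c1, (hPN 1).2⟩
  have hc12 : c1 * c1 = 1 := by rw [← pow_two]; exact (Ab_elementary hB).2 _ (phi_mem hB _)
  have hcomm : ∀ y : C, π y * π c1' = π c1' * π y → (y : G) ∈ centralizer ({c1} : Set G) := by
    intro y h
    rw [← map_mul, ← map_mul, hπ] at h
    have hwc : Commute w c1 := (mem_centralizer_singleton_iff.1 (hPN 1).2).symm
    obtain ⟨u, hu, hu'⟩ : ∃ u ∈ zpowers w, ((y : G) * c1)⁻¹ * (c1 * y) = u := ⟨_, h, rfl⟩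
    have hcu : c1 * (y : G) = (y : G) * c1 * u := by rw [← hu']; group
    have hcom : Commute c1 u := by
      obtain ⟨n, rfl⟩ := mem_zpowers_iff.1 hu
      exact (hwc.zpow_left n).symm
    have h1 : (y : G)⁻¹ * c1 * y = c1 * u := by
      rw [mul_assoc, hcu]; group
    have hu2 : u * u = 1 := by
      have : (y : G)⁻¹ * c1 * y * ((y : G)⁻¹ * c1 * y) = 1 := by
        rw [show (y : G)⁻¹ * c1 * y * ((y : G)⁻¹ * c1 * y) = (y : G)⁻¹ * (c1 * c1) * y by group, hc12]
        group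
      rwa [h1, hcom.symm.mul_mul_mul_comm, hc12, one_mul] at this
    have hu1 : u = 1 := by
      have h6 : orderOf u ∣ Nat.gcd 2 3 := Nat.dvd_gcd
        (orderOf_dvd_of_pow_eq_one (by rw [pow_two, hu2])) (h3 ▸ Subgroup.orderOf_dvd_natCard _ hu)
      exact orderOf_eq_one_iff.1 (Nat.dvd_one.1 h6)
    rw [mem_centralizer_singleton_iff, hcu, hu1, mul_one]
  set L := centralizer ({π c1'} : Set (↥C ⧸ Z)) with hLdef
  have hrep : ∀ l : L, ∃ y : ↥(C ⊓ centralizer ({c1} : Set G)), π ⟨y, y.2.1⟩ = l := fun l => by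
    obtain ⟨y, hy⟩ := QuotientGroup.mk'_surjective Z (l : ↥C ⧸ Z)
    exact ⟨⟨y, y.2, hcomm y (by
      rw [show π y = l from hy]; exact mem_centralizer_singleton_iff.1 l.2)⟩, hy⟩
  choose r hr using hrep
  let i1 : ↥(C ⊓ centralizer ({c1} : Set G)) →* ↥(N ⊓ C) := Subgroup.inclusion (hle 1 (by decide))
  let f : L → Fin 8 → Fin 8 := fun l => T (i1 (r l))
  have hwell : ∀ (l : L) (a : ↥(N ⊓ C)), π ⟨a, a.2.2⟩ = l → f l = T a := fun l a ha => by
    have h : ((i1 (r l))⁻¹ * a : G) ∈ zpowers w := hπ.1 ((hr l).trans ha.symm)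
    have := (hkerT ((i1 (r l))⁻¹ * a)).2 h
    show T (i1 (r l)) = T a
    rw [show a = i1 (r l) * ((i1 (r l))⁻¹ * a) by rw [mul_inv_cancel_left], hmul, this]
    rfl
  have hmem : ∀ a : ↥(N ⊓ C), (a : G) ∈ centralizer ({c1} : Set G) → π ⟨a, a.2.2⟩ ∈ L := fun a ha => by
    rw [hLdef, mem_centralizer_singleton_iff, ← map_mul, ← map_mul]
    exact congrArg π (Subtype.ext (mem_centralizer_singleton_iff.1 ha))
  have hfmul : ∀ a b : L, f (a * b) = f a ∘ f b := fun a b => by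
    rw [hwell (a * b) (i1 (r a) * i1 (r b)) ?_, hmul]
    rw [show ((a * b : L) : ↥C ⧸ Z) = (a : ↥C ⧸ Z) * (b : ↥C ⧸ Z) from rfl, ← hr a, ← hr b, ← map_mul]
    rfl
  have hinj : Function.Injective f := fun a b h => by
    have e : T ((i1 (r a))⁻¹ * i1 (r b)) = id := by
      rw [hmul, show T (i1 (r b)) = T (i1 (r a)) from h.symm, ← hmul, inv_mul_cancel, hone]
    refine Subtype.ext ?_
    rw [← hr a, ← hr b]
    exact hπ.2 ((hkerT _).1 e)
  have hInL : ∀ g, (∃ l, f l = g) ↔ Three.InL g := by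
    intro g
    constructor
    · rintro ⟨l, rfl⟩
      obtain ⟨v, p, q, s, hI, e⟩ := (hrange _).1 ⟨i1 (r l), rfl⟩
      have h := (hfix (i1 (r l)) 1).1 (r l).2.2
      rw [e, (Three.af_spec v p q s).1, (Three.af_spec v p q s).2.1] at h
      obtain rfl : p = 1 := by
        rw [← (Three.xor_facts.2.2.2.2 v p).1, h, (Three.xor_facts.2.2.2.2 v 1).1]
      exact ⟨v, q, s, hI, e⟩
    · rintro ⟨v, p, q, hI, rfl⟩
      obtain ⟨a, ha⟩ := (hrange _).2 ⟨v, 1, p, q, hI, rfl⟩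
      have hc : (a : G) ∈ centralizer ({c1} : Set G) := (hfix a 1).2 (by
        rw [ha, (Three.af_spec v 1 p q).1, (Three.af_spec v 1 p q).2.1])
      exact ⟨⟨_, hmem a hc⟩, (hwell _ a rfl).trans ha⟩
  have hsL : π c1' ∈ L := by rw [hLdef, mem_centralizer_singleton_iff]
  have hfs : f ⟨π c1', hsL⟩ = Three.t1 := by
    rw [hwell _ ⟨c1, hPN 1⟩ rfl, htr _ 1 rfl]
    exact funext fun y => (Three.trans_maps.1 1 y).symm
  have hn : ∃ g : ↥C ⧸ Z, ∃ h : g * π c1' * g⁻¹ ∈ L, f ⟨_, h⟩ = Three.af 2 1 2 4 := by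
    obtain ⟨a, ha⟩ := (hrange _).2 ⟨0, 2, 1, 4, Three.conj_map_ex.1, rfl⟩
    have hca : (a : G) * c1 * (a : G)⁻¹ = phi B (Three.fm 2) := (hconj a 1 2).2 (by
      rw [ha, (Three.af_spec 0 2 1 4).1, (Three.af_spec 0 2 1 4).2.1])
    have e : π ⟨a, a.2.2⟩ * π c1' * (π ⟨a, a.2.2⟩)⁻¹ = π ⟨phi B (Three.fm 2), (hPN 2).2⟩ := by
      rw [← map_inv, ← map_mul, ← map_mul]
      exact congrArg π (Subtype.ext hca)
    have hm : π ⟨phi B (Three.fm 2), (hPN 2).2⟩ ∈ L := hmem ⟨_, hPN 2⟩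
      (mem_centralizer_singleton_iff.2 (Ab_comm hB (phi_mem hB _) (phi_mem hB _)))
    refine ⟨π ⟨a, a.2.2⟩, e ▸ hm, ?_⟩
    rw [hwell _ ⟨_, hPN 2⟩ e.symm, htr _ 2 rfl]
    exact funext fun y => (Three.trans_maps.1 2 y).symm
  have hx' : orderOf (π ⟨x, hx⟩) = 10 := by
    refine Nat.dvd_antisymm ((orderOf_map_dvd π _).trans (by rw [← Subgroup.orderOf_coe]; exact hx10.dvd)) ?_
    have h : π (⟨x, hx⟩ ^ orderOf (π ⟨x, hx⟩)) = π 1 := by rw [map_pow, pow_orderOf_eq_one, map_one]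
    have h' := (zpowers w).inv_mem (hπ.1 h)
    rw [Subgroup.coe_one, mul_one, inv_inv, SubgroupClass.coe_pow] at h'
    have h10 : orderOf x ∣ orderOf (π ⟨x, hx⟩) * 3 := orderOf_dvd_of_pow_eq_one (by
      rw [pow_mul, ← h3]
      exact congrArg Subtype.val (pow_card_eq_one' (x := (⟨_, h'⟩ : zpowers w))))
    rw [hx10] at h10
    exact Nat.Coprime.dvd_of_dvd_mul_right (by norm_num) h10
  rcases Three.recog (π c1') L rfl f hinj hfmul hInL hsL hfs hn with
    ⟨M, hM, -, -, hM8, ⟨e⟩⟩ | ⟨⟨e⟩⟩ | ⟨⟨e⟩⟩ | ⟨⟨e⟩⟩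
  · exfalso
    have h := Subgroup.card_eq_card_quotient_mul_card_subgroup M
    rw [hM8, Nat.card_congr e.toEquiv] at h
    have h10 : 10 ∣ 168 * 8 := (hx' ▸ orderOf_dvd_natCard (π ⟨x, hx⟩)).trans
      (h ▸ Nat.mul_dvd_mul_right Three.card_psl_dvd 8)
    norm_num at h10
  · exact absurd ((e.orderOf_eq _).trans hx') (Three.alt_eight _)
  · refine ⟨e.toMonoidHom.comp π, e.surjective.comp (QuotientGroup.mk'_surjective Z), ?_⟩
    ext y
    rw [MonoidHom.mem_ker, MonoidHom.comp_apply, MulEquiv.coe_toMonoidHom, map_eq_one_iff e e.injective]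
    exact QuotientGroup.eq_one_iff y
  · exfalso
    have hCN : Nat.card ↥(N ⊓ C) = 3 * (8 * 168) := by
      rw [show 8 * 168 = Nat.card (Fin 8 × Three.Fixing 0) by
        rw [Nat.card_prod, Nat.card_fin, Nat.card_eq_fintype_card (α := Three.Fixing 0), Three.card_fixing,
          if_pos rfl]]
      refine Three.card_eq_mul T hmul hone ?_ (fun i => Three.af i.1 i.2.1.1 i.2.1.2.1 i.2.1.2.2)
        (fun i i' h => ?_) fun g => (hrange g).trans
          ⟨fun ⟨v, p, q, s, h1, h2⟩ => ⟨(v, ⟨(p, q, s), h1, Three.lin_zero p q s⟩), h2.symm⟩,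
          fun ⟨⟨v, q, hq⟩, h⟩ => ⟨v, _, _, _, hq.1, h.symm⟩⟩
      · exact (Nat.card_congr
          { toFun := fun s => (⟨(s.1 : G), (hkerT _).1 s.2⟩ : zpowers w)
            invFun := fun b => ⟨⟨b.1, (zpowers_le.2 (show w ∈ N ⊓ C from ⟨hwN, hwC⟩)) b.2⟩, (hkerT _).2 b.2⟩
            left_inv := fun _ => rfl
            right_inv := fun _ => rfl }).trans h3
      · obtain ⟨h1, h2, h3', h4⟩ := Three.af_ext h
        exact Prod.ext h1 (Subtype.ext (Prod.ext h2 (Prod.ext h3' h4)))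
    have hdiv : 3 * (8 * 168) ∣ Nat.card ↥C := hCN ▸ Subgroup.card_dvd_of_le inf_le_right
    have hCc : Nat.card ↥C = Nat.card (↥C ⧸ Z) * 3 := by
      rw [Subgroup.card_eq_card_quotient_mul_card_subgroup Z, hZdef,
        Nat.card_congr (subgroupOfEquivOfLe (zpowers_le.2 hwC)).toEquiv, h3]
    rw [hCc, Nat.card_congr e.toEquiv, Golay.SylowCert.card_M12] at hdiv
    norm_num at hdiv

end CfsgLib.Co1Loc
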