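import Cfsg.Agent.Co1Loc.NineLink
import Cfsg.Agent.Co1Loc.ThreeA
import Cfsg.Agent.Co1Loc.ThreeB

/-!
# The centraliser of the witness element w of order three

`CfsgLib.Co1Loc.w_part`: the two conclusions of the witness piece, instantiating
`NineW.w_part_of` with the classes 3A and 3B of the local subgroup.
-/


set_option autoImplicit false
set_option maxRecDepth 100000
set_option synthInstance.maxSize 4096

namespace CfsgLib.Co1Loc

open CfsgLib CfsgLib.Quad CfsgLib.Co1Invol CfsgLib.Co1Five CfsgLib.Co1Golay Subgroup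
open CfsgLib.Golay (toList)
open CfsgLib.Golay.Cert (rep3A rep3B)

variable {G : Type*} [Group G] [Finite G] {z : G}

theorem w_part {D : Dat z} {b x : G} (F : Five D b) (S : Split D b x)
    {D' : Dat z} {B : Base D'} (St : Pr B w2 v2) (Su : Pr B x1 x2) (hB : Good B) {c t : G}
    (hK : Nonempty (↥(compl b x) ≃* ↥(alternatingGroup (Fin 5))))
    (Cl : Cls D (Ab B hB) c t) {w r r' a u v y : G} (W : Wit D b x w r r' a u v y) :
    (∃ f : ↥(alternatingGroup (Fin 9)) →* G, Nine c t w a r (compl b x) f) ∧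
      Nonempty (↥(normalizer (zpowers w : Set G)) ≃* Equiv.Perm (Fin 3) × alternatingGroup (Fin 9)) :=
  NineW.w_part_of F S St Su hB hK Cl W
    (fun _ hn _ hσ hs _ hcA hc1 hcz hcn _ hE hE2 hEn hEc h16 hEz =>
      not_rep3A St Su hB hn hσ hs hcA hc1 hcz hcn hE hE2 hEn hEc h16 hEz)
    (fun _ hwN hw3 _ hσ hs => (cent_rep3B St Su hB Cl.cent hwN hw3 hσ hs).2.2)

end CfsgLib.Co1Loc
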