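import Cfsg.Agent.J2.Spectrum.Main
import Cfsg.Agent.J2.Aut.Sylow

/-!
Elements of orders two, three and seven in the permutation model of the Hall–Janko group.
-/

set_option autoImplicit false
set_option maxRecDepth 100000

namespace CfsgLib.Co1Loc.WitModel

open CfsgLib.Coset CfsgLib.J2.Perm

/-- The element of order three with a centraliser of order 36. -/
def wW : List Nat := [0, 2]

/-- The element of order three permuting the four-group. -/
def aW : List Nat := [0, 2, 3, 0, 2, 3]

/-- An involution of the four-group. -/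
def rW : List Nat := [1, 2, 4, 1, 2, 3, 1, 2, 0, 3, 4]

/-- Its image. -/
def rW' : List Nat := [0, 1, 2, 4, 1, 3, 0, 2, 3, 4, 1, 3]

/-- An element of order seven. -/
def vW : List Nat := [0, 1, 2, 3]

/-- An element of order three normalising it. -/
def yW : List Nat := [2, 3, 0, 1, 3]

/-- The conjugators. -/
def hW (i : Nat) : List Nat := [[3, 0], [0, 3], [0, 1, 3, 0, 1, 3, 2, 1]].getD i []

/-- A word for a conjugate. -/
def conjW (g x : List Nat) : List Nat := g ++ x ++ g.reverse

theorem ev_conjW (g x : List Nat) : ev Lp (conjW g x) = ev Lp g * ev Lp x * (ev Lp g)⁻¹ := by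
  rw [conjW, ev_append, ev_append, ev_reverse]

/-- A word moves a base point. -/
noncomputable def moves (v : List Nat) : Bool :=
  checkLetters 5 [v] && !allList (fun b => Nat.beq (follow (tget Tb) b v) b) (base.map Fin.val)

theorem ne_one_of_moves {v : List Nat} (h : moves v = true) : ev Lp v ≠ 1 := by
  simp only [moves, Bool.and_eq_true, Bool.not_eq_true'] at h
  intro e
  have hall : allList (fun b => Nat.beq (follow (tget Tb) b v) b) (base.map Fin.val) = true := by
    refine allList_iff.mpr fun b hb => ?_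
    obtain ⟨i, -, rfl⟩ := List.mem_map.mp hb
    rw [← matches_ρ.follow_eq v i (by rw [len_Lp]; exact letters_lt h.1 v (by simp)), e, map_one, inv_one]
    exact Nat.beq_refl _
  rw [hall] at h
  exact Bool.noConfusion h.2

theorem order_of_checks {v : List Nat} {p : ℕ} (hp : p.Prime) (h1 : moves v = true)
    (h2 : sameW (List.replicate p v).flatten [] = true) : orderOf (ev Lp v) = p := by
  haveI := Fact.mk hp
  refine orderOf_eq_prime ?_ (ne_one_of_moves h1)
  rw [← ev_flatten_replicate, sameW_eq h2, ev_nil]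

theorem checks : (moves wW && sameW (List.replicate 3 wW).flatten [] &&
    moves aW && sameW (List.replicate 3 aW).flatten [] &&
    moves rW && sameW (List.replicate 2 rW).flatten [] &&
    moves rW' && sameW (List.replicate 2 rW').flatten [] &&
    moves [0] && sameW (List.replicate 2 [0]).flatten [] &&
    moves vW && sameW (List.replicate 7 vW).flatten [] &&
    moves yW && sameW (List.replicate 3 yW).flatten [] &&
    moves (rW ++ rW') &&
    sameW (rW ++ rW') (rW' ++ rW) && sameW (conjW aW rW) rW' && sameW (conjW aW rW') (rW ++ rW') &&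
    sameW (wW ++ rW) (rW ++ wW) && sameW (wW ++ rW') (rW' ++ wW) && sameW (wW ++ aW) (aW ++ wW) &&
    sameW (conjW [0] wW) wW.reverse && sameW ([0] ++ rW) (rW ++ [0]) && sameW ([0] ++ rW') (rW' ++ [0]) &&
    sameW ([0] ++ aW) (aW ++ [0]) && sameW (conjW (hW 0) (wW ++ aW)) wW &&
    sameW (conjW (hW 1) (wW ++ aW.reverse)) wW && sameW (conjW yW vW) (vW ++ vW) &&
    sameW (conjW (hW 2) yW) wW) = true := by decide +kernel

/-- The elements, with the relations used later. -/
structure Cfg {P : Type*} [Group P] (z w r r' a v y : P) : Prop where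
  ordw : orderOf w = 3
  orda : orderOf a = 3
  ordr : orderOf r = 2
  ordr' : orderOf r' = 2
  ordz : orderOf z = 2
  ne : r ≠ r'
  comm_rr' : r * r' = r' * r
  cyc : a * r * a⁻¹ = r'
  cyc' : a * r' * a⁻¹ = r * r'
  comm_wr : w * r = r * w
  comm_wr' : w * r' = r' * w
  comm_wa : w * a = a * w
  inv_zw : z * w * z⁻¹ = w⁻¹
  comm_zr : z * r = r * z
  comm_zr' : z * r' = r' * z
  comm_za : z * a = a * z
  conj_wa : ∃ h, h * (w * a) * h⁻¹ = w
  conj_wa' : ∃ h, h * (w * a⁻¹) * h⁻¹ = w
  ordv : orderOf v = 7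
  ordy : orderOf y = 3
  norm_v : y * v * y⁻¹ = v ^ 2
  cent_v : ∀ g, g * v = v * g → g ∈ Subgroup.zpowers v
  conj_y : ∃ h, h * y * h⁻¹ = w
  not_conj : ¬ IsConj z r

theorem self_cent {v : P} (hv : orderOf v = 7) {g : P} (hg : g * v = v * g) : g ∈ Subgroup.zpowers v := by
  have := finite_P
  obtain ⟨n, hn, hgn⟩ := J2.Spectrum.upper g
  have hcand : ∀ n ∈ J2.Spectrum.cand, n = 7 ∨ n = 8 ∨ n = 10 ∨ n = 12 ∨ n = 15 := by simp [J2.Spectrum.cand]
  by_cases h7 : 7 ∣ orderOf g
  · have hg7 : orderOf g = 7 := by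
      rcases hcand n hn with rfl | rfl | rfl | rfl | rfl
      · exact Nat.dvd_antisymm hgn h7
      all_goals exact absurd (h7.trans hgn) (by decide)
    by_contra hne
    have hbot : Subgroup.zpowers v ⊓ Subgroup.zpowers g = ⊥ := by
      haveI : Fact (Nat.Prime 7) := ⟨by norm_num⟩
      rw [eq_bot_iff]
      rintro x ⟨hx, hx'⟩
      by_contra hx1
      refine hne ?_
      have h1 : orderOf x = 7 := by
        refine ((Nat.dvd_prime (by norm_num)).1 (hg7 ▸ orderOf_dvd_of_mem_zpowers hx')).resolve_left ?_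
        exact fun e => hx1 (orderOf_eq_one_iff.1 e)
      have h2 : Subgroup.zpowers x = Subgroup.zpowers g :=
        Subgroup.eq_of_le_of_card_ge (Subgroup.zpowers_le.2 hx') (by rw [Nat.card_zpowers, Nat.card_zpowers, h1, hg7])
      exact Subgroup.zpowers_le.2 hx (h2 ▸ Subgroup.mem_zpowers g)
    let φ : Subgroup.zpowers v × Subgroup.zpowers g →* P :=
      MonoidHom.noncommCoprod (Subgroup.zpowers v).subtype (Subgroup.zpowers g).subtype fun a b => by
        obtain ⟨i, hi⟩ := Subgroup.mem_zpowers_iff.1 a.2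
        obtain ⟨j, hj⟩ := Subgroup.mem_zpowers_iff.1 b.2
        show Commute (a : P) b
        rw [← hi, ← hj]
        exact (Commute.symm hg).zpow_zpow i j
    have hφ : Function.Injective φ := (injective_iff_map_eq_one φ).2 fun ⟨a, b⟩ h => by
      have h' : (a : P) * b = 1 := h
      have ha : (a : P) ∈ Subgroup.zpowers v ⊓ Subgroup.zpowers g :=
        ⟨a.2, (eq_inv_of_mul_eq_one_left h').symm ▸ (Subgroup.zpowers g).inv_mem b.2⟩
      rw [hbot, Subgroup.mem_bot] at ha
      have hb : (b : P) = 1 := by rwa [ha, one_mul] at h'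
      exact Prod.ext (Subtype.ext ha) (Subtype.ext hb)
    have hd : Nat.card φ.range ∣ Nat.card P := Subgroup.card_subgroup_dvd_card _
    rw [← Nat.card_congr (MonoidHom.ofInjective hφ).toEquiv, Nat.card_prod, Nat.card_zpowers, Nat.card_zpowers,
      hv, hg7, card_P] at hd
    norm_num at hd
  · have hco : Nat.Coprime (orderOf g) (orderOf v) := by
      rw [hv]; exact ((Nat.Prime.coprime_iff_not_dvd (by norm_num)).2 h7).symm
    have ho := Commute.orderOf_mul_eq_mul_orderOf_of_coprime hg hco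
    rw [hv] at ho
    obtain ⟨m, hm, hgm⟩ := J2.Spectrum.upper (g * v)
    rw [ho] at hgm
    have h1 : orderOf g = 1 := by
      rcases hcand m hm with rfl | rfl | rfl | rfl | rfl
      · exact Nat.dvd_one.1 (Nat.dvd_of_mul_dvd_mul_right (k := 7) (by norm_num) (by simpa using hgm))
      all_goals exact absurd ((dvd_mul_left 7 _).trans hgm) (by decide)
    rw [orderOf_eq_one_iff.1 h1]; exact one_mem _

theorem no_fix_r : (List.range 100).all (fun i => !Nat.beq (follow (tget T0.Tb) i rW) i) = true := by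
  decide +kernel

theorem fix_z : follow (tget T0.Tb) 0 [0] = 0 := by decide +kernel

theorem not_conj_r : ¬ IsConj z (ev Lp rW) := by
  intro h
  obtain ⟨g, hg⟩ := isConj_iff.1 h
  have hz : ρ100 z 0 = 0 := by
    rw [show z = ev Lp [0] by simp [z]]
    exact (matches_ρ100.fix_iff (fun l hl => by simp_all [len_Lp])).mpr fix_z
  have hr : ρ100 (ev Lp rW) (ρ100 g 0) = ρ100 g 0 := by
    rw [← hg, map_mul, map_mul, map_inv, Equiv.Perm.mul_apply, Equiv.Perm.mul_apply, Equiv.Perm.inv_def,
      Equiv.symm_apply_apply, hz]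
  rw [matches_ρ100.fix_iff (by rw [len_Lp]; decide +kernel)] at hr
  have h' := List.all_eq_true.mp no_fix_r (ρ100 g 0).val (List.mem_range.mpr (ρ100 g 0).isLt)
  rw [hr, Nat.beq_refl] at h'
  exact Bool.noConfusion h'

theorem exists_cfg : ∃ w r r' a v y : P, Cfg z w r r' a v y := by
  have H := checks
  simp only [Bool.and_eq_true] at H
  obtain ⟨⟨⟨⟨⟨⟨⟨⟨⟨⟨⟨⟨⟨⟨⟨⟨⟨⟨⟨⟨⟨⟨⟨⟨⟨⟨⟨⟨w1, w2⟩, a1⟩, a2⟩, r1⟩, r2⟩, s1⟩, s2⟩, z1⟩, z2⟩, v1⟩, v2⟩, y1⟩, y2⟩, n1⟩,
    c1⟩, c2⟩, c3⟩, c4⟩, c5⟩, c6⟩, c7⟩, c8⟩, c9⟩, c10⟩, k0⟩, k1⟩, k2⟩, k3⟩ := H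
  have ez : ev Lp [0] = z := by simp [z]
  refine ⟨ev Lp wW, ev Lp rW, ev Lp rW', ev Lp aW, ev Lp vW, ev Lp yW,
    { ordw := order_of_checks Nat.prime_three w1 w2
      orda := order_of_checks Nat.prime_three a1 a2
      ordr := order_of_checks Nat.prime_two r1 r2
      ordr' := order_of_checks Nat.prime_two s1 s2
      ordz := ez ▸ order_of_checks Nat.prime_two z1 z2
      ne := fun e => ne_one_of_moves n1 ?_
      comm_rr' := by rw [← ev_append, ← ev_append]; exact sameW_eq c1
      cyc := by rw [← ev_conjW]; exact sameW_eq c2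
      cyc' := by rw [← ev_conjW, ← ev_append]; exact sameW_eq c3
      comm_wr := by rw [← ev_append, ← ev_append]; exact sameW_eq c4
      comm_wr' := by rw [← ev_append, ← ev_append]; exact sameW_eq c5
      comm_wa := by rw [← ev_append, ← ev_append]; exact sameW_eq c6
      inv_zw := by rw [← ez, ← ev_conjW, ← ev_reverse]; exact sameW_eq c7
      comm_zr := by rw [← ez, ← ev_append, ← ev_append]; exact sameW_eq c8
      comm_zr' := by rw [← ez, ← ev_append, ← ev_append]; exact sameW_eq c9
      comm_za := by rw [← ez, ← ev_append, ← ev_append]; exact sameW_eq c10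
      conj_wa := ⟨ev Lp (hW 0), by rw [← ev_append, ← ev_conjW]; exact sameW_eq k0⟩
      conj_wa' := ⟨ev Lp (hW 1), by rw [← ev_reverse, ← ev_append, ← ev_conjW]; exact sameW_eq k1⟩
      ordv := order_of_checks (by norm_num) v1 v2
      ordy := order_of_checks Nat.prime_three y1 y2
      norm_v := by rw [← ev_conjW, pow_two, ← ev_append]; exact sameW_eq k2
      cent_v := fun g hg => self_cent (order_of_checks (by norm_num) v1 v2) hg
      conj_y := ⟨ev Lp (hW 2), by rw [← ev_conjW]; exact sameW_eq k3⟩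
      not_conj := not_conj_r }⟩
  rw [ev_append, ← e, ← pow_two, ← order_of_checks Nat.prime_two r1 r2, pow_orderOf_eq_one]

end CfsgLib.Co1Loc.WitModel
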