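import Cfsg.Agent.Co1Loc.Defs
import Cfsg.Agent.Co1Loc.WitModel
import Cfsg.Agent.Co1Suz.Layer

/-!
The complement is alternating of degree five; elements of its centraliser, taken from the permutation model
of the Hall–Janko group.
-/

set_option autoImplicit false
set_option maxRecDepth 100000
set_option synthInstance.maxSize 4096
set_option linter.style.haveILetI false
set_option linter.unusedSectionVars false

namespace CfsgLib.Co1Loc

open CfsgLib CfsgLib.Quad CfsgLib.Co1Invol CfsgLib.Co1Five Subgroup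
open CfsgLib.HJT (IsInv5)

variable {G : Type*} [Group G] [Finite G] {z : G}

/-- The complement is alternating of degree five. -/
theorem compl_equiv_alt {D : Dat z} {b x : G} (F : Five D b) (S : Split D b x) :
    Nonempty (↥(compl b x) ≃* ↥(alternatingGroup (Fin 5))) := by
  classical
  set A := compl b x with hA
  have hbK : b ∈ K2 D := Co1Five.mem_K2.2 ⟨F.C, fun q hq => (F.mem_Q1 hq.1).2 hq⟩
  have hAK : A ≤ K2 D := (closure_le _).2 (by rintro g (rfl | rfl); exacts [S.K, hbK])
  have hAC : ∀ a : A, (a : G) ∈ centralizer ({z} : Set G) := fun a => (hAK a.2).1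
  have hform : ∀ a : A, ∃ τ, Equiv.Perm.sign τ = 1 ∧ hact D (a : G) = iota (1, τ) := fun a => K2_form (hAK a.2)
  choose tf htf hact' using hform
  let χ : A →* Equiv.Perm (Fin 5) := MonoidHom.mk' tf fun c d => by
    have h := hact' (c * d)
    rw [show ((c * d : A) : G) = (c : G) * (d : G) from rfl, hact_mul (hAC c) (hAC d), hact', hact', ← map_mul,
      Prod.mk_mul_mk, one_mul] at h
    exact (congrArg Prod.snd (iota_injective h)).symm
  have hχa : ∀ a : A, hact D (a : G) = iota (1, χ a) := hact'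
  set xA : A := ⟨x, Subgroup.subset_closure (Or.inl rfl)⟩ with hxA
  set bA : A := ⟨b, Subgroup.subset_closure (Or.inr rfl)⟩ with hbA
  have hχx : χ xA = σ₀ := congrArg Prod.snd (iota_injective ((hχa xA).symm.trans S.act))
  have hχb : χ bA = β := congrArg Prod.snd (iota_injective ((hχa bA).symm.trans F.eq))
  have hr : χ.range = alternatingGroup (Fin 5) := by
    refine le_antisymm ?_ fun τ hτ => ?_
    · rintro _ ⟨m, rfl⟩
      exact Equiv.Perm.mem_alternatingGroup.2 (htf m)
    · obtain ⟨n, i, e⟩ := alt_word τ (Equiv.Perm.mem_alternatingGroup.1 hτ)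
      exact ⟨rep xA bA n * bA ^ i.val, by rw [map_mul, map_pow, map_rep, hχx, hχb, ← e]⟩
  have h60 : Nat.card A ≤ 60 := by
    have hs : Function.Surjective fun p : Idx × Fin 5 => (⟨rep x b p.1 * b ^ p.2.val,
        mul_mem (rep_mem x b p.1) (pow_mem bA.2 _)⟩ : A) := fun g => by
      obtain ⟨n, i, e⟩ := closure_le_sixty S.sq F.pow S.rel g g.2
      exact ⟨(n, i), Subtype.ext e.symm⟩
    refine (Nat.card_le_card_of_surjective _ hs).trans ?_
    simp [Nat.card_prod, Nat.card_sum]
  have hs : Function.Surjective χ.rangeRestrict := χ.rangeRestrict_surjective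
  have hcard : Nat.card χ.range = 60 := by
    rw [hr, Nat.card_eq_fintype_card]; decide
  have hbij : Function.Bijective χ.rangeRestrict :=
    hs.bijective_of_nat_card_le (h60.trans hcard.ge)
  exact ⟨(MulEquiv.ofBijective _ hbij).trans (MulEquiv.subgroupCongr hr)⟩

/-- The complement, the decomposition and the elements. -/
theorem exists_wit {D : Dat z} {g₀ : G} (h₀ : g₀ * z * g₀⁻¹ ∈ D.Q) (hne : g₀ * z * g₀⁻¹ ≠ z) {b x : G}
    (F : Five D b) (S : Split D b x) :
    Nonempty (↥(compl b x) ≃* ↥(alternatingGroup (Fin 5))) ∧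
      (∀ g ∈ centralizer ({b} : Set G), ∃ h ∈ centralizer (compl b x : Set G), ∃ i : ℤ, g = h * b ^ i) ∧
      ∃ w r r' a u v y : G, Wit D b x w r r' a u v y := by
  classical
  obtain ⟨hQ, hcard⟩ := Co1Suz.Q1_facts D
  obtain ⟨⟨eH⟩, hdec, hC⟩ := F.cent_data h₀ hne hQ hcard S
  refine ⟨compl_equiv_alt F S, hdec, ?_⟩
  set H := centralizer (compl b x : Set G) with hH
  have hzH : z ∈ H := mem_cent_compl.2 ⟨z_comm S.C, z_comm F.C⟩
  set zH : H := ⟨z, hzH⟩ with hzH'
  let e : H ≃* J2.Perm.P := eH.trans J2.eJ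
  obtain ⟨w, r, r', a, v, y, M⟩ := WitModel.exists_cfg
  have hz2 : zH * zH = 1 := Subtype.ext D.pre.gen.sq
  have hz1 : zH ≠ 1 := fun h => D.pre.gen.ne_one (congrArg Subtype.val h)
  -- the image of the central involution lies in the small class
  have hCP : Nat.card ↥(centralizer ({e zH} : Set J2.Perm.P)) = 1920 := by
    rw [← hC zH rfl, show centralizer ({e zH} : Set J2.Perm.P) = (centralizer ({zH} : Set H)).map e.toMonoidHom from ?_]
    · exact card_map_of_injective e.injective
    ext p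
    rw [mem_map_equiv, mem_centralizer_singleton_iff, mem_centralizer_singleton_iff]
    constructor
    · exact fun h => e.injective (by rw [map_mul, map_mul, e.apply_symm_apply, h])
    · intro h
      have h' := congrArg e h
      rwa [map_mul, map_mul, e.apply_symm_apply] at h'
  obtain ⟨k, hk⟩ := J2.Perm.conj_of_card (x := e zH) (by rw [← map_mul, hz2, map_one])
    ((MulEquiv.map_ne_one_iff e).2 hz1) hCP
  -- pulling back
  let ι : J2.Perm.P →* G := H.subtype.comp e.symm.toMonoidHom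
  have hι : Function.Injective ι := (Subtype.val_injective).comp e.symm.injective
  have hmem : ∀ p, ι p ∈ H := fun p => (e.symm p).2
  have hιe : ∀ h : H, ι (e h) = h := fun h => congrArg Subtype.val (e.symm_apply_apply h)
  have hιz : ι k * ι J2.Perm.z * (ι k)⁻¹ = z := by rw [← map_inv, ← map_mul, ← map_mul, ← hk, hιe]
  have hnc : ∀ h : H, (h : G) * z * (h : G)⁻¹ ≠ ι k * ι r * (ι k)⁻¹ := by
    intro h hh
    have h' : e h * e zH * (e h)⁻¹ = k * r * k⁻¹ := hι (by
      rw [← map_inv, ← map_mul, ← map_mul, hιe, map_mul, map_mul, map_inv]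
      exact hh)
    refine M.not_conj (isConj_iff.2 ⟨k⁻¹ * e h * k, ?_⟩)
    calc k⁻¹ * e h * k * J2.Perm.z * (k⁻¹ * e h * k)⁻¹ = k⁻¹ * (e h * (k * J2.Perm.z * k⁻¹) * (e h)⁻¹) * k := by group
      _ = k⁻¹ * (k * r * k⁻¹) * k := by rw [← hk, h']
      _ = r := by group
  -- the conjugate of the second involution
  set r₁ := ι k * ι r * (ι k)⁻¹ with hr₁
  have hr₁H : r₁ ∈ H := mul_mem (mul_mem (hmem _) (hmem _)) (inv_mem (hmem _))
  have hr₁C : r₁ ∈ centralizer ({z} : Set G) := mem_Cz.2 (by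
    rw [← hιz, hr₁, ← map_inv, ← map_mul, ← map_mul, ← map_mul, ← map_mul, ← map_mul, ← map_mul]
    congr 1
    calc k * r * k⁻¹ * (k * J2.Perm.z * k⁻¹) = k * (r * J2.Perm.z) * k⁻¹ := by group
      _ = k * (J2.Perm.z * r) * k⁻¹ := by rw [← M.comm_zr]
      _ = _ := by group)
  have hr₁o : orderOf r₁ = 2 := by
    have h := (MulAut.conj (ι k)).orderOf_eq (ι r)
    rw [MulAut.conj_apply] at h
    rw [hr₁, h, orderOf_injective ι hι, M.ordr]
  have hr₁2 : r₁ * r₁ = 1 := by rw [← pow_two, ← hr₁o, pow_orderOf_eq_one]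
  obtain ⟨-, σ, hσ, hσa⟩ := (F.cent_compl S hr₁C).1 hr₁H
  have hσ2 : σ * σ = 1 := by
    have h := hact_sq' D hr₁C (by rw [hr₁2]; exact one_mem _)
    rw [hσa, ← map_mul, Prod.mk_mul_mk, ← map_one iota] at h
    exact congrArg Prod.fst (iota_injective h)
  have hσ1 : σ ≠ 1 := by
    intro h1
    have hQ' : r₁ ∈ D.Q := mem_Q_of_hact hr₁C (by rw [hσa, h1]; exact map_one iota)
    have hQ1 : r₁ ∈ Q1 D := (F.mem_Q1 hQ').1 (mem_cent_compl.1 hr₁H).2.symm
    by_cases hs0 : D.π r₁ = 0
    · rcases (D.π_eq_zero r₁ hQ').1 hs0 with h' | h'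
      · rw [h', orderOf_one] at hr₁o; exact absurd hr₁o (by norm_num)
      · exact hnc 1 (by rw [h']; simp)
    · obtain ⟨h, hh, hhz⟩ := F.move_compl S h₀ hne hQ1 ((D.sq_iff r₁ hQ').1 hr₁2) hs0
      exact hnc ⟨h, hh⟩ hhz
  have hcj : ∀ {p q : J2.Perm.P}, (∃ h, h * p * h⁻¹ = q) → ∃ h ∈ H, h * ι p * h⁻¹ = ι q := by
    rintro p q ⟨h, rfl⟩
    exact ⟨ι h, hmem h, by rw [map_mul, map_mul, map_inv]⟩
  refine ⟨ι w, ι r, ι r', ι a, ι J2.Perm.z, ι v, ι y,
    { memw := hmem _, memr := hmem _, memr' := hmem _, mema := hmem _, memu := hmem _, memv := hmem _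
      memy := hmem _
      ordw := (orderOf_injective ι hι w).trans M.ordw
      orda := (orderOf_injective ι hι a).trans M.orda
      ordr := (orderOf_injective ι hι r).trans M.ordr
      ordr' := (orderOf_injective ι hι r').trans M.ordr'
      ordu := (orderOf_injective ι hι _).trans M.ordz
      ne := fun h => M.ne (hι h)
      comm_rr' := by rw [← map_mul, ← map_mul, M.comm_rr']
      cyc := by rw [← map_mul, ← map_inv, ← map_mul, M.cyc]
      cyc' := by rw [← map_mul, ← map_inv, ← map_mul, M.cyc', map_mul]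
      comm_wr := by rw [← map_mul, ← map_mul, M.comm_wr]
      comm_wr' := by rw [← map_mul, ← map_mul, M.comm_wr']
      comm_wa := by rw [← map_mul, ← map_mul, M.comm_wa]
      inv_uw := by rw [← map_mul, ← map_inv, ← map_mul, M.inv_zw, map_inv]
      comm_ur := by rw [← map_mul, ← map_mul, M.comm_zr]
      comm_ur' := by rw [← map_mul, ← map_mul, M.comm_zr']
      comm_ua := by rw [← map_mul, ← map_mul, M.comm_za]
      conj_wa := by rw [← map_mul]; exact hcj M.conj_wa
      conj_wa' := by rw [← map_inv, ← map_mul]; exact hcj M.conj_wa'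
      conj_r := ⟨ι k, hmem k, σ, ⟨hσ2, hσ1, hσ⟩, hr₁C, hσa⟩
      ordv := (orderOf_injective ι hι v).trans M.ordv
      ordy := (orderOf_injective ι hι y).trans M.ordy
      norm_v := by rw [← map_mul, ← map_inv, ← map_mul, M.norm_v, map_pow]
      cent_v := fun g hg hgv => ?_
      conj_y := hcj M.conj_y }⟩
  have hge : ι (e ⟨g, hg⟩) = g := hιe ⟨g, hg⟩
  obtain ⟨i, hi⟩ := mem_zpowers_iff.1 (M.cent_v (e ⟨g, hg⟩) (hι (by rw [map_mul, map_mul, hge, hgv])))
  exact mem_zpowers_iff.2 ⟨i, by rw [← map_zpow, hi, hge]⟩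

end CfsgLib.Co1Loc
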