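import Cfsg.Agent.Co1Loc.Cls
import Cfsg.Agent.Co1Loc.Wit

/-!
The two local subgroups, from the pieces.
-/

set_option autoImplicit false
set_option maxRecDepth 100000
set_option synthInstance.maxSize 4096
set_option linter.style.haveILetI false
set_option linter.unusedSectionVars false

namespace CfsgLib.Co1Loc

open CfsgLib CfsgLib.Quad CfsgLib.Co1Invol CfsgLib.Co1Five CfsgLib.Co1Golay Subgroup

variable {G : Type*} [Group G] [Finite G] {z : G}

theorem exists_five_of_dat (D : Dat z) : ∃ b, Five D b := by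
  obtain ⟨⟨c, hc⟩, e⟩ := D.act_surj _ iota_β_mem
  have hca : hact D c = iota (1, β) := (hact_eq hc).trans e
  have hp : ∀ n : ℕ, hact D (c ^ n) = iota (1, β ^ n) := fun n => by
    rw [hact_eq (pow_mem hc n), show (⟨c ^ n, pow_mem hc n⟩ : centralizer ({z} : Set G)) = ⟨c, hc⟩ ^ n from rfl,
      map_pow, ← hact_eq hc, hca, ← map_pow, Prod.pow_mk, one_pow]
  have hQ : c ^ 5 ∈ D.Q := mem_Q_of_hact (pow_mem hc 5) (by rw [hp, β_pow]; exact map_one iota)
  have h20 : c ^ 20 = 1 := by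
    rw [show (20 : ℕ) = 5 * (2 * 2) from rfl, pow_mul, pow_mul]
    rcases D.pre.gen.square _ hQ with h | h
    · rw [pow_two (c ^ 5), h, one_pow]
    · rw [pow_two (c ^ 5), h, pow_two, D.pre.gen.sq]
  refine ⟨c ^ 16, pow_mem hc _, ?_, ?_⟩
  · rw [← pow_mul, show 16 * 5 = 20 * 4 from rfl, pow_mul, h20, one_pow]
  · rw [hp, show (16 : ℕ) = 5 * 3 + 1 from rfl, pow_succ, pow_mul, β_pow, one_pow, one_mul]

/-- The subgroups of orders seven and three with the given centraliser and normaliser. -/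
theorem main_of (D : Dat z) {g₀ : G} (h₀ : g₀ * z * g₀⁻¹ ∈ D.Q) (hne : g₀ * z * g₀⁻¹ ≠ z)
    (hcl : ∀ {D' : Dat z} {B : Base D'} (_St : Pr B w2 v2) (_Su : Pr B x1 x2) (hB : Good B),
      ∀ e ∈ Ab B hB, e ≠ 1 → ¬ IsConj z e → centralizer ({e} : Set G) ≤ normalizer (Ab B hB : Set G))
    (hW : ∀ {b x : G} (_F : Five D b) (_S : Split D b x) {D' : Dat z} {B : Base D'} (_St : Pr B w2 v2)
      (_Su : Pr B x1 x2) (hB : Good B) {c t : G} (_hK : Nonempty (↥(compl b x) ≃* ↥(alternatingGroup (Fin 5))))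
      (_Cl : Cls D (Ab B hB) c t) {w r r' a u v y : G} (_W : Wit D b x w r r' a u v y),
      (∃ f : ↥(alternatingGroup (Fin 9)) →* G, Nine c t w a r (compl b x) f) ∧
        Nonempty (↥(normalizer (zpowers w : Set G)) ≃* Equiv.Perm (Fin 3) × alternatingGroup (Fin 9)))
    (hV : ∀ {b x : G} (_F : Five D b) (_S : Split D b x) {A : Subgroup G} {c t : G}
      (_hK : Nonempty (↥(compl b x) ≃* ↥(alternatingGroup (Fin 5))))
      (_hdec : ∀ g ∈ centralizer ({b} : Set G), ∃ h ∈ centralizer (compl b x : Set G), ∃ i : ℤ, g = h * b ^ i)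
      (_Cl : Cls D A c t) {w r r' a u v y : G} (_W : Wit D b x w r r' a u v y)
      {f : ↥(alternatingGroup (Fin 9)) →* G} (_N : Nine c t w a r (compl b x) f),
      Nonempty (↥(centralizer (zpowers v : Set G)) ≃* Multiplicative (ZMod 7) × alternatingGroup (Fin 7))) :
    (∃ V : Subgroup G, Nat.card V = 7 ∧
        Nonempty (↥(centralizer (V : Set G)) ≃* Multiplicative (ZMod 7) × alternatingGroup (Fin 7))) ∧
      ∃ W : Subgroup G, Nat.card W = 3 ∧
        Nonempty (↥(normalizer (W : Set G)) ≃* Equiv.Perm (Fin 3) × alternatingGroup (Fin 9)) := by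
  obtain ⟨b, F⟩ := exists_five_of_dat D
  obtain ⟨x, S⟩ := F.exists_split h₀ hne
  obtain ⟨B₀⟩ := exists_base D h₀ hne
  obtain ⟨D', hQ, B, hB⟩ := exists_good B₀
  obtain ⟨Su⟩ := B.exists_pr basis_mem.1 basis_mem.2.1
  obtain ⟨St⟩ := B.exists_pr basis_mem.2.2.2.2.2.2.1 basis_mem.2.2.2.2.2.2.2.1
  obtain ⟨hK, hdec, w, r, r', a, u, v, y, W⟩ := exists_wit h₀ hne F S
  have Cl := exists_cls hQ St Su hB (hcl St Su hB)
  obtain ⟨⟨f, N⟩, hN⟩ := hW F S St Su hB hK Cl W
  exact ⟨⟨zpowers v, (Nat.card_zpowers v).trans W.ordv, hV F S hK hdec Cl W N⟩,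
    zpowers w, (Nat.card_zpowers w).trans W.ordw, hN⟩

end CfsgLib.Co1Loc
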