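import Cfsg.Agent.Co1Loc.Local

/-!
The classes of involutions with a nonsingular displacement.
-/

set_option autoImplicit false
set_option maxRecDepth 100000
set_option synthInstance.maxSize 4096
set_option linter.style.haveILetI false
set_option linter.unusedSectionVars false

namespace CfsgLib.Co1Loc

open CfsgLib CfsgLib.Quad CfsgLib.Co1Invol CfsgLib.Co1Golay Subgroup

variable {G : Type*} [Group G] [Finite G] {z : G} {D : Dat z}

theorem not_nonTS_iff {x : G} : ¬ NonTS D x ↔ TS (hact D x) := by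
  constructor
  · intro h m
    exact (zmod2_cases _).resolve_right fun e => h ⟨m, e⟩
  · rintro h ⟨m, e⟩
    rw [disp_apply, h m] at e
    exact zero_ne_one e

theorem ts_hact_conj {c x : G} (hc : c ∈ centralizer ({z} : Set G)) (hx : x ∈ centralizer ({z} : Set G))
    (h : TS (hact D x)) : TS (hact D (c * x * c⁻¹)) := by
  rw [hact_mul (mul_mem hc hx) (inv_mem hc), hact_mul hc hx, hact_inv hc]
  exact ts_conj _ _ h

theorem NonTS.ne {x : G} (h : NonTS D x) : x ∉ D.Q := fun hQ => by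
  obtain ⟨m, e⟩ := h
  rw [disp_apply, hact_Q hQ, one_apply', add_self, qf_zero] at e
  exact zero_ne_one e

variable (B : Base D)

theorem pair_ts_iff {w v : M8} (S : Pr B w v) : TS (hact D S.el) ↔ qf w = 0 := by
  obtain ⟨hadm, hu⟩ := B.act_P S.hb
  have happ : ∀ m, (hact D S.el).1 m = uMap (B.wv S.b) m := fun m => by
    rw [Pr.el, hact_mul S.hb.2 (mem_C D S.ha.1), hact_Q S.ha.1, mul_one, hact_eq S.hb.2, hu]
  rw [ts_uMap hadm.1 happ, ← qf_red hadm.1, S.wb]

/-- An involution of rank two with nonsingular displacement. -/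
theorem isConj_of_two (St : Pr B w2 v2) (Su : Pr B x1 x2) {x : G} (hx : x ∈ centralizer ({z} : Set G))
    (hx2 : x * x = 1) (h2 : Module.finrank (ZMod 2) (LinearMap.range (disp (hact D x))) = 2)
    (hn : NonTS D x) : IsConj St.el x := by
  rcases B.classify_two St Su hx hn.ne hx2 h2 with h | ⟨c, hc, he⟩ | ⟨c, hc, he⟩
  · exfalso
    obtain ⟨m, e⟩ := hn
    have h' := B.ts_of_sing hx hx2 h m
    rw [← hact_eq hx] at h'
    rw [disp_apply, h'] at e
    exact zero_ne_one e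
  · exfalso
    refine not_nonTS_iff.2 ?_ hn
    rw [← he]
    exact ts_hact_conj hc Su.el_mem ((pair_ts_iff B Su).2 pair_facts.2.2.2.1)
  · exact isConj_iff.2 ⟨c, he⟩

/-- A twisted involution over the long root element is conjugate to one of rank two with singular
displacement and a twist of the kernel. -/
theorem reduce_root_ts {b a k : G} (hb : b ∈ B.P) (ha : a ∈ B.A) (hk : k ∈ B.N) (hka : hact D k = root)
    (t1 : B.τ * k = k * B.τ) (t2 : B.τ' * k = k * B.τ') (hsq : b * a * k * (b * a * k) = 1) :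
    ∃ c : G, c * (b * a * k) * c⁻¹ ∈ centralizer ({z} : Set G) ∧ c * (b * a * k) * c⁻¹ ∉ D.Q ∧
      Module.finrank (ZMod 2) (LinearMap.range (disp (hact D (c * (b * a * k) * c⁻¹)))) = 2 ∧
      TS (hact D (c * (b * a * k) * c⁻¹)) := by
  obtain ⟨hwp, hvp, i, h1, h2, -⟩ := B.root_equations hb ha hk hka t1 t2 hsq
  obtain ⟨-, hq1⟩ := mu_facts i _ hwp _ hvp h1 h2
  have fin : ∀ {c b' a' : G}, b' ∈ B.P → a' ∈ B.A → c * (b * a * k) * c⁻¹ = b' * a' * k →
      red (B.wv b') ∈ perp12 → bar (red (B.wv b')) = 0 →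
      ∃ c : G, c * (b * a * k) * c⁻¹ ∈ centralizer ({z} : Set G) ∧ c * (b * a * k) * c⁻¹ ∉ D.Q ∧
        Module.finrank (ZMod 2) (LinearMap.range (disp (hact D (c * (b * a * k) * c⁻¹)))) = 2 ∧
        TS (hact D (c * (b * a * k) * c⁻¹)) := by
    intro c b' a' hb' ha' he hwp' hbar
    have hC : b' * a' * k ∈ centralizer ({z} : Set G) :=
      mul_mem (mul_mem hb'.2 (mem_C D ha'.1)) (B.N_C hk)
    have hnQ := B.not_mem_Q_root hb' ha' hk hka
    have hx2 : b' * a' * k * (b' * a' * k) = 1 := by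
      rw [← he, show c * (b * a * k) * c⁻¹ * (c * (b * a * k) * c⁻¹) =
        c * (b * a * k * (b * a * k)) * c⁻¹ by group, hsq]
      group
    have hq : qf (red (B.wv b')) = 0 := by
      rw [((perp12_bar _ hwp').1 hbar).2, qf_add, bf_smul_left, bf_smul_right, pair_facts.2.2.2.2.2.1,
        mul_zero, mul_zero, add_zero]
      rcases zmod2_cases (bf (red (B.wv b')) y1) with e | e <;>
        rcases zmod2_cases (bf (red (B.wv b')) y2) with f | f <;> rw [e, f] <;>
        simp [qf_zero, pair_facts.2.2.2.1, pair_facts.2.2.2.2.1]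
    refine ⟨c, he ▸ hC, he ▸ hnQ, ?_, ?_⟩
    · rw [he]
      rcases rank_cases (hact_sq hC hx2) (hact_mem _) (fun e => hnQ (mem_Q_of_hact hC e)) with h | ⟨h, -⟩
      · exact h
      · have := B.rank_le_three hb' ha' hk hka hwp' hbar; omega
    · rw [he]
      intro m
      rw [← disp_apply]
      exact B.ts_of_singular hb' ha' hk hka hwp' hq m
  have conjk : ∀ {c : G}, c * k = k * c → ∀ y, c * (y * k) * c⁻¹ = c * y * c⁻¹ * k := by
    intro c hc y
    have hc' : k * c⁻¹ = c⁻¹ * k := ((show Commute c k from hc).inv_left).eq.symm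
    calc c * (y * k) * c⁻¹ = c * y * (k * c⁻¹) := by group
      _ = c * y * c⁻¹ * k := by rw [hc']; group
  by_cases hw0 : bar (red (B.wv b)) = 0
  · exact fin (c := 1) hb ha (by group) hwp hw0
  by_cases hv0 : bar (red (D.π a)) = 0
  · obtain ⟨a', ha', e1, hv'⟩ := B.τ_pair hb ha
    obtain ⟨b', hb', e2, hw'⟩ := B.τ'_pair hb ha'
    rw [hv', ← add_assoc, add_comm (red (B.wv b)), add_assoc, add_self, add_zero] at hw'
    refine fin (c := B.τ' * B.τ) hb' ha' ?_ (hw' ▸ hvp) (hw' ▸ hv0)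
    rw [conjk ((show Commute B.τ' k from t2).mul_left t1).eq,
      show B.τ' * B.τ * (b * a) * (B.τ' * B.τ)⁻¹ = B.τ' * (B.τ * (b * a) * B.τ⁻¹) * B.τ'⁻¹ by group, e1, e2]
  · have hwv : bar (red (B.wv b)) = bar (red (D.π a)) := by
      obtain ⟨hcases, -⟩ := mu_facts i _ hwp _ hvp h1 h2
      tauto
    obtain ⟨b', hb', e2, hw'⟩ := B.τ'_pair hb ha
    exact fin (c := B.τ') hb' ha (by rw [conjk t2, e2]) (hw' ▸ (perp12_add _ hwp _ hvp).1)
      (by rw [hw', (perp12_add _ hwp _ hvp).2, hwv, (by decide : ∀ p : ZMod 2 × ZMod 2, p + p = 0)])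

/-- An involution of rank four with nonsingular displacement. -/
theorem isConj_of_four (St : Pr B w2 v2) (Su : Pr B x1 x2) {x : G} (hx : x ∈ centralizer ({z} : Set G))
    (hx2 : x * x = 1) (h4 : Module.finrank (ZMod 2) (LinearMap.range (disp (hact D x))) = 4)
    (hn : NonTS D x) : IsConj Su.el x := by
  have hg : hact D x * hact D x = 1 := hact_sq hx hx2
  have hker : LinearMap.range (disp (hact D x)) = LinearMap.ker (disp (hact D x)) := by
    rcases rank_cases hg (hact_mem _) (fun e => hn.ne (mem_Q_of_hact hx e)) with h | h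
    · omega
    · exact h.2
  obtain ⟨n₀, hn₀⟩ := hn
  refine ((B.classify_four St Su hx hx2 h4 hker).2 ⟨n₀, hn₀⟩).resolve_right fun hSt => ?_
  obtain ⟨e, ⟨m, hm⟩, he0, hqe, hts⟩ := exists_good_point hg h4 hker
  obtain ⟨q, hq, hqe'⟩ := D.π_surj e
  have hxq : x * q * x⁻¹ = q := by
    rw [conj_lift hx hx2 hq (hqe'.trans hm.symm), hqe', if_pos hqe, mul_one]
  obtain ⟨c, hc, hcs⟩ := exists_conj_C D hq B.sQ (by rw [hqe']; exact hqe) (by rw [B.πs]; exact q_e0)
    (by rw [hqe']; exact he0) (by rw [B.πs]; exact e0_ne)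
  have hce : (hact D c).1 e = e0 := by rw [← hqe', ← (π_conj hc hq).2, hcs, B.πs]
  obtain ⟨y, hyd⟩ : ∃ y, y = c * x * c⁻¹ := ⟨_, rfl⟩
  have hyN : y ∈ B.N := by
    refine B.mem_N.2 ⟨mem_centralizer_singleton_iff.1 (hyd ▸ mul_mem (mul_mem hc hx) (inv_mem hc)),
      mul_inv_eq_iff_eq_mul.1 ?_⟩
    conv_rhs => rw [← hcs, ← hxq]
    rw [hyd, ← hcs]; group
  have hy2 : y * y = 1 := by
    rw [hyd, show c * x * c⁻¹ * (c * x * c⁻¹) = c * (x * x) * c⁻¹ by group, hx2]; group
  obtain ⟨c', hc', b, hb, a, ha, k, hk, hka, t1, t2, he⟩ := B.to_root hyN hy2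
    (by rw [hyd, finrank_conj hc hx, h4]) ⟨(hact D c).1 m, by rw [hyd, disp_conj hc hx, hm, hce]⟩
    (fun n hn => by
      obtain ⟨n, rfl⟩ : ∃ n', (hact D c).1 n' = n := ⟨_, (hact D c).1.apply_symm_apply n⟩
      rw [hyd, disp_conj hc hx, qf_oGroup]
      refine hts n ?_
      rw [← hce, bf_oGroup] at hn
      exact hn)
  have hsq : b * a * k * (b * a * k) = 1 := by
    rw [← he, show c' * y * c'⁻¹ * (c' * y * c'⁻¹) = c' * (y * y) * c'⁻¹ by group, hy2]
    group
  obtain ⟨d, hdC, hdQ, hd2, hdts⟩ := reduce_root_ts B hb ha hk hka t1 t2 hsq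
  obtain ⟨x', hx'⟩ : ∃ x', x' = d * (b * a * k) * d⁻¹ := ⟨_, rfl⟩
  rw [← hx'] at hdC hdQ hd2 hdts
  have hxx : IsConj x x' := isConj_iff.2 ⟨d * c' * c, by rw [hx', ← he, hyd]; group⟩
  have hx'2 : x' * x' = 1 := by
    rw [hx', show d * (b * a * k) * d⁻¹ * (d * (b * a * k) * d⁻¹) = d * (b * a * k * (b * a * k)) * d⁻¹ by group,
      hsq]
    group
  rcases B.classify_two St Su hdC hdQ hx'2 hd2 with h | ⟨u, -, hu⟩ | ⟨u, hu', hu⟩
  · exact B.not_conj_z St Su (B.t_obstruction St)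
      ((B.isConj_of_sing h hx'2 (fun e => hdQ (e ▸ one_mem _))).trans (hSt.trans hxx).symm)
  · exact B.not_conj_tu St Su ((isConj_iff.2 ⟨u, hu⟩).trans (hSt.trans hxx).symm)
  · have h := ts_hact_conj (inv_mem hu') hdC hdts
    rw [show u⁻¹ * x' * u⁻¹⁻¹ = St.el by rw [← hu]; group] at h
    have h' := (pair_ts_iff B St).1 h
    rw [pair_facts.1] at h'
    exact one_ne_zero h'

end CfsgLib.Co1Loc
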