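import Cfsg.Agent.Co1Loc.CodeData
import Cfsg.Agent.Co1Golay.Main
import Cfsg.Agent.Golay.InvCount

/-!
Finite facts on one, two and three masks of weight twelve and their stabilisers in the Mathieu group.
-/

set_option autoImplicit false
set_option maxRecDepth 100000
set_option synthInstance.maxSize 4096
set_option linter.style.haveILetI false
set_option linter.unusedSectionVars false

namespace CfsgLib.Co1Loc

open Cfsg CfsgLib.Golay CfsgLib.Golay.Cert
open CfsgLib.Co1Golay (cWord dodSet octSet two_level)
open scoped Pointwise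

/-- A position list from its code. -/
def decL (n : ℕ) : List ℕ := (List.range 24).map fun i => (n >>> (5 * i)) &&& 31

/-- The full word. -/
def fullW : ℕ := 16777215

/-- The word of a mask and its complement, increasing. -/
def pairL (m : ℕ) : List ℕ :=
  if cWord m < cWord m ^^^ fullW then [cWord m, cWord m ^^^ fullW] else [cWord m ^^^ fullW, cWord m]

/-- A mask as an object. -/
def oM (m : ℕ) : Obj := toObj (pairL m)

theorem pairL_canon : ∀ a < 64, ∀ b < 32, canonL (pairL (32 * a + b)) = true := by decide +kernel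

theorem pairL_ok {m : ℕ} (hm : m < 2048) : canonL (pairL m) = true :=
  two_level (P := fun m => canonL (pairL m) = true) pairL_canon hm

theorem mem_pairL {m x : ℕ} : x ∈ pairL m ↔ x = cWord m ∨ x = cWord m ^^^ fullW := by
  rw [pairL]; split_ifs <;> simp [or_comm]

theorem cWord_lt {m : ℕ} (hm : m < 2048) : cWord m < 2 ^ 24 ∧ cWord m ^^^ fullW < 2 ^ 24 :=
  ⟨(canonL_spec (pairL_ok hm)).2 _ (mem_pairL.2 (Or.inl rfl)),
    (canonL_spec (pairL_ok hm)).2 _ (mem_pairL.2 (Or.inr rfl))⟩

theorem vec_full : vec fullW = fun _ => 1 := by decide +kernel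

theorem pts_full (c : ℕ) : pts (c ^^^ fullW) = (pts c)ᶜ := by
  ext p
  rw [Finset.mem_compl, ← support_vec, ← support_vec, vec_xor, vec_full]
  simp only [support₂, Finset.mem_filter, Finset.mem_univ, true_and, Pi.add_apply]
  rcases (by decide : ∀ a : ZMod 2, a = 0 ∨ a = 1) (vec c p) with e | e <;> rw [e] <;> decide

theorem mem_oM {m : ℕ} {s : Finset GolayPt} : s ∈ oM m ↔ s = pts (cWord m) ∨ s = (pts (cWord m))ᶜ := by
  rw [oM, mem_toObj, ← pts_full]
  constructor
  · rintro ⟨x, hx, rfl⟩
    rcases mem_pairL.1 hx with rfl | rfl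
    exacts [Or.inl rfl, Or.inr rfl]
  · rintro (rfl | rfl)
    exacts [⟨_, mem_pairL.2 (Or.inl rfl), rfl⟩, ⟨_, mem_pairL.2 (Or.inr rfl), rfl⟩]

theorem oM_inj {a b : ℕ} (ha : a < 2048) (hb : b < 2048) (h : oM a = oM b) : a = b := by
  have hm : pts (cWord a) ∈ oM b := h ▸ mem_oM.2 (Or.inl rfl)
  rcases mem_oM.1 hm with e | e
  · refine (CfsgLib.Co1Golay.V_inj ha hb (k := 0) fun p => ?_).1
    rw [add_zero, CfsgLib.Co1Golay.V, CfsgLib.Co1Golay.V, pts_inj (cWord_lt ha).1 (cWord_lt hb).1 e]
  · rw [← pts_full] at e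
    refine (CfsgLib.Co1Golay.V_inj ha hb (k := 1) fun p => ?_).1
    rw [CfsgLib.Co1Golay.V, CfsgLib.Co1Golay.V, pts_inj (cWord_lt ha).1 (cWord_lt hb).2 e, vec_xor, vec_full]
    rfl

/-- The list carries one mask to the other. -/
def imgB (L : List ℕ) (m m' : ℕ) : Bool := same L (pairL m) (pairL m')

theorem smul_oM {g : M24} {L : List ℕ} (hg : toList (g : Equiv.Perm GolayPt) = L) {m m' : ℕ} (hm : m < 2048)
    (h : imgB L m m' = true) : g • oM m = oM m' := same_spec hg (pairL_ok hm) h

/-- The stabiliser of the first mask. -/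
def stabOne : Subgroup M24 := MulAction.stabilizer M24 (oM 40)

/-- The stabiliser of the first two masks. -/
def stabTwo : Subgroup M24 := stabOne ⊓ MulAction.stabilizer M24 (oM mTwo)

theorem forty_dod : dodSet.testBit 40 = true ∧ dodSet.testBit mTwo = true ∧ dodSet.testBit (40 ^^^ mTwo) = true ∧
    mTwo < 2048 ∧ wt 24 (cWord 40) = 12 := by decide +kernel

theorem forty_mem : pts (cWord 40) ∈ Cfsg.dodecads :=
  ⟨⟨CfsgLib.Co1Golay.V 40, CfsgLib.Co1Golay.V_mem 40, support_vec _⟩, by
    rw [card_pts]; exact forty_dod.2.2.2.2⟩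

/-- The order of the stabiliser of one mask. -/
theorem card_stabOne : Nat.card stabOne = 95040 ∨ Nat.card stabOne = 2 * 95040 := by
  classical
  set d := pts (cWord 40) with hd
  have hle : MulAction.stabilizer M24 d ≤ stabOne := by
    intro g hg
    have h1 : g • d = d := hg
    show g • oM 40 = oM 40
    refine Finset.eq_of_subset_of_card_le (fun s hs => ?_) (le_of_eq (Finset.card_smul_finset _ _).symm)
    obtain ⟨u, hu, rfl⟩ := Finset.mem_smul_finset.1 hs
    rcases mem_oM.1 hu with rfl | rfl
    · exact mem_oM.2 (Or.inl h1)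
    · refine mem_oM.2 (Or.inr ?_)
      rw [smul_finset_eq_image, Finset.compl_eq_univ_sdiff, Finset.image_sdiff _ _ (g : Equiv.Perm GolayPt).injective,
        Finset.image_univ_of_surjective (g : Equiv.Perm GolayPt).surjective, ← smul_finset_eq_image]
      exact congrArg (Finset.univ \ ·) h1
  have hst : Nat.card (MulAction.stabilizer stabOne d) = 95040 := by
    rw [← card_dodecad_stabilizer forty_mem]
    exact Nat.card_congr ⟨fun g => ⟨g.1.1, g.2⟩, fun g => ⟨⟨g.1, hle g.2⟩, g.2⟩, fun _ => rfl, fun _ => rfl⟩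
  have horb : Nat.card (MulAction.orbit stabOne d) ≤ 2 := by
    refine (Nat.card_le_card_of_injective (β := {s // s ∈ oM 40}) (fun s => ⟨s.1, ?_⟩)
      fun a b e => Subtype.ext (Subtype.mk.inj e)).trans ?_
    · obtain ⟨_, g, rfl⟩ := s
      have h := Finset.smul_mem_smul_finset (a := (g : M24)) (mem_oM.2 (Or.inl rfl) : d ∈ oM 40)
      rw [show (g : M24) • oM 40 = oM 40 from g.2] at h
      exact h
    · rw [Nat.card_eq_fintype_card, Fintype.card_coe]
      exact (List.toFinset_card_le _).trans (by rw [List.length_map, pairL]; split_ifs <;> simp)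
  have hpos : 0 < Nat.card (MulAction.orbit stabOne d) :=
    Nat.card_pos_iff.2 ⟨⟨⟨d, MulAction.mem_orbit_self d⟩⟩, inferInstance⟩
  have e : Nat.card (MulAction.orbit stabOne d) * Nat.card (MulAction.stabilizer stabOne d) = Nat.card stabOne := by
    rw [← Nat.card_prod]
    exact Nat.card_congr (MulAction.orbitProdStabilizerEquivGroup stabOne d)
  rw [hst] at e
  rcases (show Nat.card (MulAction.orbit stabOne d) = 1 ∨ Nat.card (MulAction.orbit stabOne d) = 2 by omega) with
    h | h <;> rw [h] at e <;> omega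

theorem stabGens_ok : stabGens.all (fun n => genOK (decL n) && imgB (decL n) 40 40) = true := by decide +kernel

theorem exists_stabGen {n : ℕ} (hn : n ∈ stabGens) : ∃ g ∈ stabOne, toList (g : Equiv.Perm GolayPt) = decL n := by
  have h := List.all_eq_true.1 stabGens_ok n hn
  rw [Bool.and_eq_true] at h
  obtain ⟨g, hg⟩ := genOK_spec h.1
  exact ⟨g, smul_oM hg (by norm_num) h.2, hg⟩

/-- The orbit certificate. -/
def orbitOK : Bool :=
  (orbitTwo.head? == some mTwo) && (orbitTwo.length == 792) && (orbitPar.length == 791) &&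
    (orbitTwo.all fun m => decide (m < 2048)) &&
    ((List.range 791).all fun i => match orbitPar.getD i (0, 0) with
      | (p, j) => decide (p ≤ i) && decide (j < 3) &&
        imgB (decL (stabGens.getD j 0)) (orbitTwo.getD p 0) (orbitTwo.getD (i + 1) 0))

theorem orbitOK_eq : orbitOK = true := by decide +kernel

theorem orbitTwo_reach : ∀ i < 792, ∃ g ∈ stabOne, g • oM mTwo = oM (orbitTwo.getD i 0) := by
  have h := orbitOK_eq
  simp only [orbitOK, Bool.and_eq_true, beq_iff_eq, List.all_eq_true, decide_eq_true_eq, List.mem_range] at h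
  obtain ⟨⟨⟨⟨h0, hl⟩, -⟩, hlt⟩, hstep⟩ := h
  intro i
  induction i using Nat.strong_induction_on with
  | _ i ih =>
    intro hi
    rcases i with _ | i
    · refine ⟨1, one_mem _, ?_⟩
      rw [one_smul]
      rfl
    · have hs := hstep i (by omega)
      revert hs
      rcases orbitPar.getD i (0, 0) with ⟨p, j⟩
      intro hs
      simp only [Bool.and_eq_true, decide_eq_true_eq] at hs
      obtain ⟨⟨hp, hj⟩, himg⟩ := hs
      obtain ⟨g, hg, hge⟩ := ih p (by omega) (by omega)
      obtain ⟨k, hk, hkl⟩ := exists_stabGen (n := stabGens.getD j 0)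
        (by rw [List.getD_eq_getElem _ _ (by simpa [stabGens] using hj)]; exact List.getElem_mem _)
      refine ⟨k * g, mul_mem hk hg, ?_⟩
      rw [mul_smul, hge]
      refine smul_oM hkl (hlt _ ?_) himg
      rw [List.getD_eq_getElem _ _ (by omega)]
      exact List.getElem_mem _

theorem orbitSet_eq : CfsgLib.Co1Golay.ofList orbitTwo = orbitSet := by decide +kernel

/-- The partners of the first mask are in the orbit. -/
theorem partners_listed : ∀ a < 64, ∀ b < 32, dodSet.testBit (32 * a + b) = true →
    dodSet.testBit ((32 * a + b) ^^^ 40) = true →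
    orbitSet.testBit (32 * a + b) = true := by decide +kernel

theorem exists_move_two {m : ℕ} (hm : m < 2048) (h1 : dodSet.testBit m = true)
    (h2 : dodSet.testBit (m ^^^ 40) = true) : ∃ g ∈ stabOne, g • oM m = oM mTwo := by
  have h := two_level (P := fun m => dodSet.testBit m = true → dodSet.testBit (m ^^^ 40) = true →
    orbitSet.testBit m = true) partners_listed hm h1 h2
  rw [← orbitSet_eq] at h
  obtain ⟨i, hi, rfl⟩ := List.mem_iff_getElem.1 (CfsgLib.Co1Golay.ofList_spec _ _ h)
  have hl : orbitTwo.length = 792 := by decide +kernel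
  obtain ⟨g, hg, he⟩ := orbitTwo_reach i (hl ▸ hi)
  rw [List.getD_eq_getElem _ _ hi] at he
  exact ⟨g⁻¹, inv_mem hg, by rw [← he, inv_smul_smul]⟩

theorem pairGens_ok : pairGens.all (fun n => genOK (decL n) && imgB (decL n) 40 40 && imgB (decL n) mTwo mTwo) = true := by
  decide +kernel

/-- The certificate for the stabiliser of two masks. -/
def pairOK : Bool :=
  ((pairStab.map decL).head? == some (List.range 24)) && (pairStab.length == 240) && (pairPar.length == 239) &&
    ((List.range 239).all fun i => match pairPar.getD i (0, 0) with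
      | (p, j) => decide (p ≤ i) && decide (j < pairGens.length) &&
        (compL (decL (pairGens.getD j 0)) (decL (pairStab.getD p 0)) == decL (pairStab.getD (i + 1) 0)))

theorem pairOK_eq : pairOK = true := by decide +kernel

/-- The code of a position list. -/
def encL : List ℕ → ℕ
  | [] => 0
  | x :: L => x + 32 * encL L

theorem pairStab_nodup : (pairStab.map decL).Nodup ∧ pairStab.length = 240 := by
  have h1 : pairStab.Nodup ∧ pairStab.map (fun n => encL (decL n)) = pairStab ∧ pairStab.length = 240 := by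
    decide +kernel
  refine ⟨List.Nodup.of_map encL ?_, h1.2.2⟩
  rw [List.map_map]
  exact h1.2.1.symm ▸ h1.1

theorem pairStab_mem : ∀ i < 240, ∃ g ∈ stabTwo, toList (g : Equiv.Perm GolayPt) = decL (pairStab.getD i 0) := by
  have hok := pairOK_eq
  simp only [pairOK, Bool.and_eq_true, beq_iff_eq, List.all_eq_true, decide_eq_true_eq, List.mem_range] at hok
  obtain ⟨⟨⟨h0, hl⟩, -⟩, hstep⟩ := hok
  intro i
  induction i using Nat.strong_induction_on with
  | _ i ih =>
    intro hi
    rcases i with _ | i
    · refine ⟨1, one_mem _, ?_⟩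
      show toList 1 = _
      rw [toList_one]
      cases ho : pairStab with
      | nil => rw [ho] at h0; simp at h0
      | cons a l => rw [ho] at h0; simpa using (Option.some.inj h0).symm
    · have hs := hstep i (by omega)
      revert hs
      rcases pairPar.getD i (0, 0) with ⟨p, j⟩
      intro hs
      simp only [Bool.and_eq_true, decide_eq_true_eq, beq_iff_eq] at hs
      obtain ⟨⟨hp, hj⟩, he⟩ := hs
      obtain ⟨g, hg, hge⟩ := ih p (by omega) (by omega)
      have hn : pairGens.getD j 0 ∈ pairGens := by rw [List.getD_eq_getElem _ _ hj]; exact List.getElem_mem _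
      have h := List.all_eq_true.1 pairGens_ok _ hn
      rw [Bool.and_eq_true, Bool.and_eq_true] at h
      obtain ⟨k, hk⟩ := genOK_spec h.1.1
      refine ⟨k * g, mul_mem ⟨smul_oM hk (by norm_num) h.1.2, smul_oM hk forty_dod.2.2.2.1 h.2⟩ hg, ?_⟩
      show toList ((k : Equiv.Perm GolayPt) * (g : Equiv.Perm GolayPt)) = _
      rw [toList_mul, hk, hge, he]

theorem partners_count : ((List.range 2048).filter fun m => dodSet.testBit m && dodSet.testBit (m ^^^ 40)).length = 792 := by
  decide +kernel

/-- The elements fixing two masks are listed. -/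
theorem stabTwo_listed {g : M24} (hg : g ∈ stabTwo) : toList (g : Equiv.Perm GolayPt) ∈ pairStab.map decL := by
  classical
  have horb : 792 ≤ Nat.card (MulAction.orbit stabOne (oM mTwo)) := by
    let F := ((List.range 2048).filter fun m => dodSet.testBit m && dodSet.testBit (m ^^^ 40)).toFinset
    have hF : ∀ m : F, (m : ℕ) < 2048 ∧ dodSet.testBit m.1 = true ∧ dodSet.testBit (m.1 ^^^ 40) = true := by
      rintro ⟨m, hm⟩
      simpa [F] using hm
    rw [← partners_count, ← List.toFinset_card_of_nodup (List.Nodup.filter _ List.nodup_range),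
      ← Fintype.card_coe, ← Nat.card_eq_fintype_card]
    refine Nat.card_le_card_of_injective (α := F) (fun m => ⟨oM m.1, ?_⟩) fun i j e => ?_
    · obtain ⟨g, hg, he⟩ := exists_move_two (hF m).1 (hF m).2.1 (hF m).2.2
      exact ⟨⟨g⁻¹, inv_mem hg⟩, show g⁻¹ • oM mTwo = oM m.1 by rw [← he, inv_smul_smul]⟩
    · exact Subtype.ext (oM_inj (hF i).1 (hF j).1 (congrArg Subtype.val e))
  have e : Nat.card (MulAction.orbit stabOne (oM mTwo)) * Nat.card (MulAction.stabilizer stabOne (oM mTwo)) =
      Nat.card stabOne := by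
    rw [← Nat.card_prod]
    exact Nat.card_congr (MulAction.orbitProdStabilizerEquivGroup stabOne (oM mTwo))
  have hst : Nat.card stabTwo = Nat.card (MulAction.stabilizer stabOne (oM mTwo)) :=
    Nat.card_congr ⟨fun g => ⟨⟨g.1, g.2.1⟩, g.2.2⟩, fun g => ⟨g.1.1, g.1.2, g.2⟩, fun _ => rfl, fun _ => rfl⟩
  have hK : Nat.card stabTwo ≤ 240 := by
    rw [hst]
    rcases card_stabOne with h | h <;> nlinarith
  have hin : ∀ L ∈ pairStab.map decL, ∃ g ∈ stabTwo, toList (g : Equiv.Perm GolayPt) = L := by
    intro L hL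
    obtain ⟨i, hi, rfl⟩ := List.mem_iff_getElem.1 hL
    rw [List.length_map] at hi
    obtain ⟨g, hg, he⟩ := pairStab_mem i (pairStab_nodup.2 ▸ hi)
    exact ⟨g, hg, by rw [he, List.getD_eq_getElem _ _ hi, List.getElem_map]⟩
  by_contra hno
  have hsub : (pairStab.map decL).toFinset ⊂
      (Finset.univ : Finset stabTwo).image (fun g : stabTwo => toList ((g : M24) : Equiv.Perm GolayPt)) := by
    refine Finset.ssubset_iff_of_subset (fun L hL => ?_) |>.2
      ⟨_, Finset.mem_image.2 ⟨⟨g, hg⟩, Finset.mem_univ _, rfl⟩, fun h => hno (List.mem_toFinset.1 h)⟩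
    obtain ⟨k, hk, rfl⟩ := hin L (List.mem_toFinset.1 hL)
    exact Finset.mem_image.2 ⟨⟨k, hk⟩, Finset.mem_univ _, rfl⟩
  have := Finset.card_lt_card hsub
  rw [List.toFinset_card_of_nodup pairStab_nodup.1, List.length_map, pairStab_nodup.2] at this
  have h2 := Finset.card_image_le (s := (Finset.univ : Finset stabTwo))
    (f := fun g : stabTwo => toList ((g : M24) : Equiv.Perm GolayPt))
  rw [Finset.card_univ, ← Nat.card_eq_fintype_card] at h2
  omega

end CfsgLib.Co1Loc
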