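import Cfsg.Agent.Co1Five.Compl

/-!
The data from which the two local subgroups with alternating sections are built.
-/

set_option autoImplicit false
set_option maxRecDepth 100000
set_option synthInstance.maxSize 4096
set_option linter.style.haveILetI false

namespace CfsgLib.Co1Loc

open CfsgLib CfsgLib.Quad CfsgLib.Co1Invol CfsgLib.Co1Five Subgroup
open CfsgLib.HJT (IsInv5)

variable {G : Type*} [Group G] [Finite G] {z : G}

/-- Elements of the centraliser of the complement used for the two local subgroups. -/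
structure Wit (D : Dat z) (b x w r r' a u v y : G) : Prop where
  memw : w ∈ centralizer (compl b x : Set G)
  memr : r ∈ centralizer (compl b x : Set G)
  memr' : r' ∈ centralizer (compl b x : Set G)
  mema : a ∈ centralizer (compl b x : Set G)
  memu : u ∈ centralizer (compl b x : Set G)
  memv : v ∈ centralizer (compl b x : Set G)
  memy : y ∈ centralizer (compl b x : Set G)
  ordw : orderOf w = 3
  orda : orderOf a = 3
  ordr : orderOf r = 2
  ordr' : orderOf r' = 2
  ordu : orderOf u = 2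
  ne : r ≠ r'
  comm_rr' : r * r' = r' * r
  cyc : a * r * a⁻¹ = r'
  cyc' : a * r' * a⁻¹ = r * r'
  comm_wr : w * r = r * w
  comm_wr' : w * r' = r' * w
  comm_wa : w * a = a * w
  inv_uw : u * w * u⁻¹ = w⁻¹
  comm_ur : u * r = r * u
  comm_ur' : u * r' = r' * u
  comm_ua : u * a = a * u
  conj_wa : ∃ h ∈ centralizer (compl b x : Set G), h * (w * a) * h⁻¹ = w
  conj_wa' : ∃ h ∈ centralizer (compl b x : Set G), h * (w * a⁻¹) * h⁻¹ = w
  conj_r : ∃ h ∈ centralizer (compl b x : Set G), ∃ σ : Equiv.Perm (Fin 5), IsInv5 σ ∧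
    h * r * h⁻¹ ∈ centralizer ({z} : Set G) ∧ hact D (h * r * h⁻¹) = iota (σ, 1)
  ordv : orderOf v = 7
  ordy : orderOf y = 3
  norm_v : y * v * y⁻¹ = v ^ 2
  cent_v : ∀ g ∈ centralizer (compl b x : Set G), g * v = v * g → g ∈ zpowers v
  conj_y : ∃ h ∈ centralizer (compl b x : Set G), h * y * h⁻¹ = w

/-- The classes of involutions: the central one, the one in the elementary subgroup, and the third. -/
structure Cls (D : Dat z) (A : Subgroup G) (c t : G) : Prop where
  memA : c ∈ A
  ne_one : c ≠ 1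
  not_zc : ¬ IsConj z c
  not_zt : ¬ IsConj z t
  not_ct : ¬ IsConj c t
  ord_t : orderOf t = 2
  ord_c : orderOf c = 2
  cases : ∀ g : G, orderOf g = 2 → IsConj z g ∨ IsConj c g ∨ IsConj t g
  orbit : ∀ e ∈ A, e ≠ 1 → ¬ IsConj z e → IsConj c e
  cent : ∀ e ∈ A, e ≠ 1 → ¬ IsConj z e → centralizer ({e} : Set G) ≤ normalizer (A : Set G)
  seven : ¬ 7 ∣ Nat.card ↥(centralizer ({c} : Set G))
  single : ∀ g ∈ centralizer ({z} : Set G), g * g = 1 → ∀ σ : Equiv.Perm (Fin 5), IsInv5 σ →
    hact D g = iota (σ, 1) ∨ hact D g = iota (1, σ) → IsConj t g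
  double : ∀ g ∈ centralizer ({z} : Set G), g * g = 1 → ∀ σ τ : Equiv.Perm (Fin 5), IsInv5 σ → IsInv5 τ →
    hact D g = iota (σ, τ) → IsConj c g

/-- A complement to the element of order three in its centraliser, with the positions of the known subgroups. -/
structure Nine (c t w a r : G) (K : Subgroup G) (f : ↥(alternatingGroup (Fin 9)) →* G) : Prop where
  inj : Function.Injective f
  comm : ∀ p, f p * w = w * f p
  meet : ∀ p, f p ∈ zpowers w → p = 1
  decomp : ∀ g : G, g * w = w * g → ∃ p, ∃ i : ℕ, g = f p * w ^ i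
  five : ∀ k ∈ K, ∃ p : ↥(alternatingGroup (Fin 9)), f p = k ∧ ∀ i : Fin 9, 5 ≤ i → (p : Equiv.Perm (Fin 9)) i = i
  four_a : ∃ p : ↥(alternatingGroup (Fin 9)), f p = a ∧ ∀ i : Fin 9, i < 5 → (p : Equiv.Perm (Fin 9)) i = i
  four_r : ∃ p : ↥(alternatingGroup (Fin 9)), f p = r ∧ ∀ i : Fin 9, i < 5 → (p : Equiv.Perm (Fin 9)) i = i
  dbl : ∀ p : ↥(alternatingGroup (Fin 9)), p * p = 1 → (p : Equiv.Perm (Fin 9)).support.card = 4 → IsConj t (f p)
  quad : ∀ p : ↥(alternatingGroup (Fin 9)), p * p = 1 → (p : Equiv.Perm (Fin 9)).support.card = 8 → IsConj c (f p)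

end CfsgLib.Co1Loc
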