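import Cfsg.Agent.Co1Loc.Classes
import Cfsg.Agent.Co1Loc.Defs
import Cfsg.Agent.Co1Loc.Code

/-!
The three classes of involutions, seen from the coordinates of an element of order five.
-/

set_option autoImplicit false
set_option maxRecDepth 100000
set_option synthInstance.maxSize 4096
set_option linter.style.haveILetI false
set_option linter.unusedSectionVars false

namespace CfsgLib.Co1Loc

open CfsgLib CfsgLib.Quad CfsgLib.Co1Invol CfsgLib.Co1Golay Subgroup
open CfsgLib.Co1Five (enc iota iota_enc enc_inj enc_zero enc_add ev_zero qf_enc dec2)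
open CfsgLib.HJT (V5 Ev wt IsInv5)
open scoped Pointwise

local notation "pa" => CfsgLib.HJT.act

variable {G : Type*} [Group G] [Finite G] {z : G}

/-- Two coordinate maps on the same extraspecial group differ by an isometry commuting with the actions. -/
theorem exists_transfer {D D' : Dat z} (hQ : D'.Q = D.Q) :
    ∃ ψ : M8 ≃ₗ[ZMod 2] M8, (∀ m, qf (ψ m) = qf m) ∧
      ∀ g ∈ centralizer ({z} : Set G), ∀ m, disp (hact D' g) (ψ m) = ψ (disp (hact D g) m) := by
  choose l hl hlπ using D.π_surj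
  have hl' : ∀ m, l m ∈ D'.Q := fun m => hQ.symm ▸ hl m
  have key : ∀ q ∈ D.Q, D'.π (l (D.π q)) = D'.π q := by
    intro q hq
    rcases eq_of_π D hq (hl _) (hlπ (D.π q)).symm with e | e <;> rw [e]
    rw [D'.π_mul q (hQ.symm ▸ hq) z D'.pre.gen.mem, π_z, add_zero]
  have hadd : ∀ m n, D'.π (l (m + n)) = D'.π (l m) + D'.π (l n) := by
    intro m n
    rw [← D'.π_mul _ (hl' m) _ (hl' n), ← key _ (mul_mem (hl m) (hl n)), D.π_mul _ (hl m) _ (hl n), hlπ, hlπ]
  let ψ₀ : M8 →ₗ[ZMod 2] M8 := (AddMonoidHom.mk' (fun m => D'.π (l m)) hadd).toZModLinearMap 2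
  have hψ : ∀ m, ψ₀ m = D'.π (l m) := fun _ => rfl
  have hbij : Function.Bijective ψ₀ := by
    refine ⟨(injective_iff_map_eq_zero ψ₀).2 fun m hm => ?_, fun m => ?_⟩
    · rw [← hlπ m]
      exact (D.π_eq_zero _ (hl m)).2 ((D'.π_eq_zero _ (hl' m)).1 hm)
    · obtain ⟨q, hq, e⟩ := D'.π_surj m
      exact ⟨D.π q, by rw [hψ, key q (hQ ▸ hq), e]⟩
  let ψ : M8 ≃ₗ[ZMod 2] M8 := LinearEquiv.ofBijective ψ₀ hbij
  have hψ' : ∀ m, ψ m = D'.π (l m) := fun _ => rfl
  refine ⟨ψ, fun m => ?_, fun g hg m => ?_⟩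
  · have h : qf (D'.π (l m)) = 0 ↔ qf m = 0 := by
      rw [← D'.sq_iff _ (hl' m), D.sq_iff _ (hl m), hlπ]
    rw [hψ']
    rcases zmod2_cases (qf (D'.π (l m))) with e | e <;> rcases zmod2_cases (qf m) with f | f <;> rw [e, f] at h ⊢
    · exact absurd (h.1 rfl) one_ne_zero
    · exact absurd (h.2 rfl) one_ne_zero
  · obtain ⟨c1, c2⟩ := π_conj (D := D) hg (hl m)
    obtain ⟨-, d2⟩ := π_conj (D := D') hg (hl' m)
    have e : (hact D' g).1 (ψ m) = ψ ((hact D g).1 m) := by
      rw [hψ', hψ', ← d2]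
      conv_rhs => rw [← hlπ m, ← c2, key _ c1]
    rw [disp_apply, disp_apply, e, map_add]

theorem NonTS.transfer {D D' : Dat z} (hQ : D'.Q = D.Q) {g : G} (hg : g ∈ centralizer ({z} : Set G))
    (h : NonTS D g) : NonTS D' g := by
  obtain ⟨ψ, hqf, hψ⟩ := exists_transfer hQ
  obtain ⟨m, hm⟩ := h
  exact ⟨ψ m, by rw [hψ g hg, hqf, hm]⟩

theorem finrank_transfer {D D' : Dat z} (hQ : D'.Q = D.Q) {g : G} (hg : g ∈ centralizer ({z} : Set G)) :
    Module.finrank (ZMod 2) (LinearMap.range (disp (hact D' g))) =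
      Module.finrank (ZMod 2) (LinearMap.range (disp (hact D g))) := by
  obtain ⟨ψ, -, hψ⟩ := exists_transfer hQ
  have h : LinearMap.range (disp (hact D' g)) =
      (LinearMap.range (disp (hact D g))).map (ψ : M8 →ₗ[ZMod 2] M8) := by
    ext v
    simp only [Submodule.mem_map, LinearMap.mem_range]
    constructor
    · rintro ⟨m, rfl⟩
      exact ⟨_, ⟨ψ.symm m, rfl⟩, by rw [LinearEquiv.coe_coe, ← hψ g hg, LinearEquiv.apply_symm_apply]⟩
    · rintro ⟨_, ⟨m, rfl⟩, rfl⟩
      exact ⟨ψ m, hψ g hg m⟩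
  rw [h]
  exact LinearEquiv.finrank_map_eq ψ _

theorem inv5_moves : ∀ σ : Equiv.Perm (Fin 5), IsInv5 σ → ∃ v v' : V5, Ev v ∧ Ev v' ∧ pa σ v + v ≠ 0 ∧
    pa σ v' + v' ≠ 0 ∧ pa σ v + v ≠ pa σ v' + v' := by decide +kernel

theorem inv5_witness : ∃ w : V5, Ev w ∧ w ≠ 0 := by decide +kernel

theorem disp_iota {σ τ : Equiv.Perm (Fin 5)} {v w : V5} (hv : Ev v) (hw : Ev w) :
    disp (iota (σ, τ)) (enc v w) = enc (pa σ v + v) (pa τ w + w) := by
  rw [disp_apply, iota_enc _ _ hv hw, enc_add]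

variable {D : Dat z} {g : G}

theorem nonTS_iota_left {σ τ : Equiv.Perm (Fin 5)} (hσ : IsInv5 σ) (h : hact D g = iota (σ, τ)) : NonTS D g := by
  obtain ⟨v, hv, hwt⟩ := Co1Five.inv5_wt σ hσ
  refine ⟨enc v 0, ?_⟩
  rw [h, disp_iota hv ev_zero, qf_enc _ _ (Co1Five.ev_add _ _ (Co1Five.ev_pa _ hv) hv)
    (Co1Five.ev_add _ _ (Co1Five.ev_pa _ ev_zero) ev_zero), Co1Five.pa_zero, add_zero, CfsgLib.HJT.wt_zero,
    add_zero, hwt]

theorem nonTS_iota_right {σ τ : Equiv.Perm (Fin 5)} (hτ : IsInv5 τ) (h : hact D g = iota (σ, τ)) : NonTS D g := by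
  obtain ⟨v, hv, hwt⟩ := Co1Five.inv5_wt τ hτ
  refine ⟨enc 0 v, ?_⟩
  rw [h, disp_iota ev_zero hv, qf_enc _ _ (Co1Five.ev_add _ _ (Co1Five.ev_pa _ ev_zero) ev_zero)
    (Co1Five.ev_add _ _ (Co1Five.ev_pa _ hv) hv), Co1Five.pa_zero, zero_add, CfsgLib.HJT.wt_zero, zero_add, hwt]

/-- A permutation on one block gives rank two. -/
theorem rank_one_block (hg : g ∈ centralizer ({z} : Set G)) (hg2 : g * g = 1) (hn : NonTS D g) {k : M8 → V5}
    (hk : ∀ m, k (disp (hact D g) m) = 0) {m₀ : M8} (hm₀ : k m₀ ≠ 0) (hfix : disp (hact D g) m₀ = 0) :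
    Module.finrank (ZMod 2) (LinearMap.range (disp (hact D g))) = 2 := by
  refine (rank_cases (hact_sq hg hg2) (hact_mem _) (fun e => hn.ne (mem_Q_of_hact hg e))).resolve_right ?_
  rintro ⟨-, hker⟩
  have : m₀ ∈ LinearMap.range (disp (hact D g)) := hker ▸ LinearMap.mem_ker.2 hfix
  obtain ⟨m, rfl⟩ := this
  exact hm₀ (hk m)

theorem rank_two_blocks (hg : g ∈ centralizer ({z} : Set G)) (hg2 : g * g = 1) {σ τ : Equiv.Perm (Fin 5)}
    (hσ : IsInv5 σ) (hτ : IsInv5 τ) (h : hact D g = iota (σ, τ)) :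
    Module.finrank (ZMod 2) (LinearMap.range (disp (hact D g))) = 4 := by
  refine ((rank_cases (hact_sq hg hg2) (hact_mem _)
    (fun e => (nonTS_iota_left hσ h).ne (mem_Q_of_hact hg e))).resolve_left fun h2 => ?_).1
  obtain ⟨v, v', hv, hv', ha, ha', hne⟩ := inv5_moves σ hσ
  obtain ⟨w, -, hw, -, hb, -, -⟩ := inv5_moves τ hτ
  have hev : ∀ (ρ : Equiv.Perm (Fin 5)) {t : V5}, Ev t → Ev (pa ρ t + t) := fun ρ _ ht =>
    Co1Five.ev_add _ _ (Co1Five.ev_pa _ ht) ht
  have hz0 : ∀ ρ : Equiv.Perm (Fin 5), pa ρ (0 : V5) + 0 = 0 := fun ρ => by rw [Co1Five.pa_zero, add_zero]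
  set R := LinearMap.range (disp (hact D g)) with hR
  obtain ⟨a, hav⟩ : ∃ a, a = pa σ v + v := ⟨_, rfl⟩
  obtain ⟨a', hav'⟩ : ∃ a, a = pa σ v' + v' := ⟨_, rfl⟩
  obtain ⟨b, hbw⟩ : ∃ b, b = pa τ w + w := ⟨_, rfl⟩
  rw [← hav] at ha hne
  rw [← hav'] at ha' hne
  rw [← hbw] at hb
  have hmem : ∀ {s t : V5}, Ev s → Ev t → enc (pa σ s + s) (pa τ t + t) ∈ R := fun {s t} hs ht =>
    ⟨enc s t, by rw [h]; exact disp_iota hs ht⟩
  let A : Fin 5 → V5 × V5 := ![(0, 0), (a, 0), (a', 0), (0, b), (a, b)]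
  have hAev : ∀ i, Ev (A i).1 ∧ Ev (A i).2 := by
    have h1 : Ev a := hav ▸ hev σ hv
    have h2 : Ev a' := hav' ▸ hev σ hv'
    have h3 : Ev b := hbw ▸ hev τ hw
    intro i
    fin_cases i
    exacts [⟨ev_zero, ev_zero⟩, ⟨h1, ev_zero⟩, ⟨h2, ev_zero⟩, ⟨ev_zero, h3⟩, ⟨h1, h3⟩]
  have hAmem : ∀ i, enc (A i).1 (A i).2 ∈ R := by
    have z0 := hz0 σ
    have z1 := hz0 τ
    intro i
    fin_cases i
    · have := hmem ev_zero ev_zero; rwa [z0, z1] at this
    · have := hmem hv ev_zero; rwa [z1, ← hav] at this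
    · have := hmem hv' ev_zero; rwa [z1, ← hav'] at this
    · have := hmem ev_zero hw; rwa [z0, ← hbw] at this
    · have := hmem hv hw; rwa [← hav, ← hbw] at this
  have hA : Function.Injective A := by
    intro i j e
    fin_cases i <;> fin_cases j <;>
      simp [A, Prod.ext_iff, ha, ha', hb, hne, Ne.symm ha, Ne.symm ha', Ne.symm hb, Ne.symm hne] at e ⊢
  let F : Fin 5 → R := fun i => ⟨_, hAmem i⟩
  have hF : Function.Injective F := fun i j e => hA (by
    obtain ⟨e1, e2⟩ := enc_inj (hAev i).1 (hAev i).2 (hAev j).1 (hAev j).2 (congrArg Subtype.val e)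
    exact Prod.ext e1 e2)
  have hle := Nat.card_le_card_of_injective F hF
  rw [Nat.card_fin, Module.natCard_eq_pow_finrank (K := ZMod 2), h2, Nat.card_zmod] at hle
  norm_num at hle

variable {D' : Dat z} {B : Base D'}

theorem rank_two_iota_left (hg : g ∈ centralizer ({z} : Set G)) (hg2 : g * g = 1) {σ : Equiv.Perm (Fin 5)}
    (hσ : IsInv5 σ) (h : hact D g = iota (σ, 1)) :
    Module.finrank (ZMod 2) (LinearMap.range (disp (hact D g))) = 2 := by
  obtain ⟨w, hw, hw0⟩ := inv5_witness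
  refine rank_one_block hg hg2 (nonTS_iota_left hσ h) (k := dec2) (fun m => ?_) (m₀ := enc 0 w) ?_ ?_
  · obtain ⟨a, b, ha, hb, rfl⟩ := Co1Five.exists_enc m
    rw [h, disp_iota ha hb, (Co1Five.dec_enc _ _ (Co1Five.ev_add _ _ (Co1Five.ev_pa _ ha) ha)
      (Co1Five.ev_add _ _ (Co1Five.ev_pa _ hb) hb)).2, CfsgLib.HJT.act_one, Co1Five.self_eq_zero]
  · rw [(Co1Five.dec_enc _ _ ev_zero hw).2]; exact hw0
  · rw [h, disp_iota ev_zero hw, Co1Five.pa_zero, CfsgLib.HJT.act_one, add_zero, Co1Five.self_eq_zero, enc_zero]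

theorem rank_two_iota_right (hg : g ∈ centralizer ({z} : Set G)) (hg2 : g * g = 1) {σ : Equiv.Perm (Fin 5)}
    (hσ : IsInv5 σ) (h : hact D g = iota (1, σ)) :
    Module.finrank (ZMod 2) (LinearMap.range (disp (hact D g))) = 2 := by
  obtain ⟨w, hw, hw0⟩ := inv5_witness
  refine rank_one_block hg hg2 (nonTS_iota_right hσ h) (k := Co1Five.dec1) (fun m => ?_) (m₀ := enc w 0) ?_ ?_
  · obtain ⟨a, b, ha, hb, rfl⟩ := Co1Five.exists_enc m
    rw [h, disp_iota ha hb, (Co1Five.dec_enc _ _ (Co1Five.ev_add _ _ (Co1Five.ev_pa _ ha) ha)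
      (Co1Five.ev_add _ _ (Co1Five.ev_pa _ hb) hb)).1, CfsgLib.HJT.act_one, Co1Five.self_eq_zero]
  · rw [(Co1Five.dec_enc _ _ hw ev_zero).1]; exact hw0
  · rw [h, disp_iota hw ev_zero, Co1Five.pa_zero, CfsgLib.HJT.act_one, add_zero, Co1Five.self_eq_zero, enc_zero]

/-- An element fixing the standard mask fixes its object. -/
theorem rel_fix_forty {n : G} {σ : Cfsg.M24} (hr : Rel B n (σ : Equiv.Perm Cfsg.GolayPt))
    (he : n * phi B 40 * n⁻¹ = phi B 40) : σ ∈ stabOne := by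
  classical
  obtain ⟨k, hk⟩ := hr 40 (by norm_num) 40 (by norm_num) he
  set d := CfsgLib.Golay.pts (cWord 40) with hd
  have hpt : ∀ p, p ∈ d ↔ CfsgLib.Co1Golay.V 40 p = 1 := fun p => by
    rw [hd, ← CfsgLib.Golay.support_vec]
    simp only [Cfsg.support₂, Finset.mem_filter, Finset.mem_univ, true_and]
    exact ⟨fun h => (zmod2_cases _).resolve_left h, fun h => by
      show CfsgLib.Co1Golay.V 40 p ≠ 0
      rw [h]; exact one_ne_zero⟩
  have hiff : ∀ p, (σ : Equiv.Perm Cfsg.GolayPt).symm p ∈ d ↔ (p ∈ d ↔ k = 0) := fun p => by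
    rw [hpt, hpt, hk p]
    rcases zmod2_cases k with e | e <;> rcases zmod2_cases (CfsgLib.Co1Golay.V 40 ((σ : Equiv.Perm _).symm p)) with
      f | f <;> rw [e, f] <;> decide
  have hmap : σ • d = d ∨ σ • d = dᶜ := by
    rcases zmod2_cases k with e | e
    · refine Or.inl (Finset.ext fun p => ?_)
      rw [← Finset.inv_smul_mem_iff]
      exact (hiff p).trans (by simp [e])
    · refine Or.inr (Finset.ext fun p => ?_)
      rw [← Finset.inv_smul_mem_iff, Finset.mem_compl]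
      exact (hiff p).trans (by simp [e])
  show σ • oM 40 = oM 40
  refine Finset.eq_of_subset_of_card_le (fun s hs => ?_) (le_of_eq (Finset.card_smul_finset _ _).symm)
  obtain ⟨u, hu, rfl⟩ := Finset.mem_smul_finset.1 hs
  have hcompl : σ • dᶜ = (σ • d)ᶜ := Finset.ext fun p => by
    rw [← Finset.inv_smul_mem_iff, Finset.mem_compl, Finset.mem_compl, ← Finset.inv_smul_mem_iff]
  rcases mem_oM.1 hu with rfl | rfl <;> rw [mem_oM, ← hd]
  · exact hmap
  · rw [hcompl]
    rcases hmap with e | e <;> rw [e]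
    · exact Or.inr rfl
    · exact Or.inl (compl_compl d)

/-- E: the classes, seen from the coordinates of an element of order five. -/
theorem exists_cls {D D' : Dat z} (hQ : D'.Q = D.Q) {B : Base D'} (St : Pr B w2 v2) (Su : Pr B x1 x2) (hB : Good B)
    (hc : ∀ e ∈ Ab B hB, e ≠ 1 → ¬ IsConj z e → centralizer ({e} : Set G) ≤ normalizer (Ab B hB : Set G)) :
    Cls D (Ab B hB) (phi B 40) St.el := by
  classical
  haveI : Fact (Nat.Prime 2) := ⟨Nat.prime_two⟩
  obtain ⟨S, hS⟩ := exists_pr40 (B := B) hB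
  have hc1 : phi B 40 ≠ 1 := fun h => absurd (phi_eq_one hB (by norm_num) h) (by norm_num)
  have hcz : ¬ IsConj z (phi B 40) := fun h => by
    have := (bit_iff St Su hB (m := 40) (by norm_num) (by norm_num)).1.2 h
    rw [small_forty.2.2.2] at this
    exact Bool.false_ne_true this
  have hc2 : phi B 40 * phi B 40 = 1 := ev_sq (invList_gens B hB) _
  have hco : orderOf (phi B 40) = 2 := orderOf_eq_prime (by rw [pow_two]; exact hc2) hc1
  have hobs := B.t_obstruction St
  have ht2 : St.el * St.el = 1 := (B.pair_sq_iff St.hb St.ha).2 (by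
    rw [St.wb, St.πa, pair_facts.1, pair_facts.2.1, pair_facts.2.2.1]; exact ⟨rfl, rfl⟩)
  have hto : orderOf St.el = 2 :=
    orderOf_eq_prime (by rw [pow_two]; exact ht2) (fun e => hobs.notQ (e ▸ one_mem _))
  have hzt : ¬ IsConj z St.el := B.not_conj_z St Su hobs
  have hct : ¬ IsConj (phi B 40) St.el := hS ▸ B.not_conj_tu St S
  have hsingle : ∀ g ∈ centralizer ({z} : Set G), g * g = 1 → ∀ σ : Equiv.Perm (Fin 5), IsInv5 σ →
      hact D g = iota (σ, 1) ∨ hact D g = iota (1, σ) → IsConj St.el g := by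
    rintro g hg hg2 σ hσ (h | h)
    · exact isConj_of_two B St Su hg hg2 ((finrank_transfer hQ hg).trans (rank_two_iota_left hg hg2 hσ h))
        ((nonTS_iota_left hσ h).transfer hQ hg)
    · exact isConj_of_two B St Su hg hg2 ((finrank_transfer hQ hg).trans (rank_two_iota_right hg hg2 hσ h))
        ((nonTS_iota_right hσ h).transfer hQ hg)
  refine
    { memA := phi_mem hB 40
      ne_one := hc1
      not_zc := hcz
      not_zt := hzt
      not_ct := hct
      ord_t := hto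
      ord_c := hco
      cases := ?_
      orbit := fun e he he1 hez => ?_
      cent := hc
      seven := ?_
      single := hsingle
      double := fun g hg hg2 σ τ hσ hτ h => hS ▸ isConj_of_four B St S hg hg2
        ((finrank_transfer hQ hg).trans (rank_two_blocks hg hg2 hσ hτ h)) ((nonTS_iota_left hσ h).transfer hQ hg) }
  · obtain ⟨a, b, c, -, -, -, -, -, -, hall⟩ := Co1Invol.main (D := D') (g₀ := B.g) (B.gz.symm ▸ B.sQ)
      (fun e => B.ne (B.gz.symm.trans e))
    intro g hg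
    let e : Fin 3 → G := ![a, b, c]
    have hrep : ∀ x : G, orderOf x = 2 → ∃ i, IsConj x (e i) := fun x hx => by
      rcases hall x hx with h | h | h
      exacts [⟨0, h⟩, ⟨1, h⟩, ⟨2, h⟩]
    have ho : ∀ i : Fin 3, orderOf (![z, phi B 40, St.el] i) = 2 := by
      intro i; fin_cases i
      exacts [Extra2.orderOf_gen D.pre.gen, hco, hto]
    choose f hf using fun i : Fin 3 => hrep _ (ho i)
    have hfi : Function.Injective f := by
      intro i j hij
      have h : IsConj (![z, phi B 40, St.el] i) (![z, phi B 40, St.el] j) := (hf i).trans (hij ▸ (hf j).symm)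
      fin_cases i <;> fin_cases j <;> first
        | rfl
        | exact absurd h hcz
        | exact absurd h.symm hcz
        | exact absurd h hzt
        | exact absurd h.symm hzt
        | exact absurd h hct
        | exact absurd h.symm hct
    obtain ⟨i, hi⟩ := hrep g hg
    obtain ⟨j, rfl⟩ := (Finite.injective_iff_surjective.1 hfi) i
    have h : IsConj (![z, phi B 40, St.el] j) g := (hf j).trans hi.symm
    fin_cases j
    exacts [Or.inl h, Or.inr (Or.inl h), Or.inr (Or.inr h)]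
  · obtain ⟨n, -, hn⟩ := orbit_dod St Su hB he he1 hez
    exact (isConj_iff.2 ⟨n, hn⟩).symm
  · intro h7
    obtain ⟨θ, hθ, hker, -, -⟩ := exists_iso St Su hB
    set C := centralizer ({phi B 40} : Set G) with hC
    have hle : C ≤ normalizer (Ab B hB : Set G) := hc _ (phi_mem hB 40) hc1 hcz
    let χ : C →* Cfsg.M24 := θ.comp (inclusion hle)
    have hr : χ.range ≤ stabOne := by
      rintro _ ⟨n, rfl⟩
      exact rel_fix_forty (hθ (inclusion hle n))
        (mul_inv_eq_iff_eq_mul.2 (mem_centralizer_singleton_iff.1 n.2))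
    have hk : χ.ker ≤ (Ab B hB).subgroupOf C := fun n hn => by
      have : inclusion hle n ∈ θ.ker := hn
      rw [hker, mem_subgroupOf] at this
      exact mem_subgroupOf.2 this
    have hkc : Nat.card χ.ker ∣ 2 ^ 11 := by
      refine (card_dvd_of_le hk).trans ?_
      rw [← card_Ab hB]
      exact card_comap_dvd_of_injective (Ab B hB) C.subtype (subtype_injective C)
    have hrc : Nat.card χ.range ∣ 2 * 95040 := (card_dvd_of_le hr).trans (card_stabOne.elim
      (fun e => e.symm ▸ Dvd.intro_left 2 rfl) (fun e => e.symm ▸ dvd_rfl))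
    have h : Nat.card C ∣ 2 ^ 11 * (2 * 95040) := by
      rw [← χ.ker.card_mul_index, index_ker]
      exact mul_dvd_mul hkc hrc
    exact absurd (h7.trans h) (by norm_num)

end CfsgLib.Co1Loc
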