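import Cfsg.Agent.Co1Loc.CodeSylow

/-!
Elementary abelian two-subgroups of the stabilisers of one, two and three masks, and the finite facts on
spaces of masks free of octads.
-/

set_option autoImplicit false
set_option maxRecDepth 100000
set_option synthInstance.maxSize 4096
set_option linter.style.haveILetI false
set_option linter.unusedSectionVars false

namespace CfsgLib.Co1Loc

open Cfsg CfsgLib.Golay CfsgLib.Golay.Cert
open CfsgLib.Co1Golay (dodSet octSet two_level)
open Subgroup
open scoped Pointwise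

/-- The involutions of a list. -/
def invs (l : List (List ℕ)) : List (List ℕ) :=
  l.filter fun L => (compL L L == List.range 24) && !(L == List.range 24)

/-- The members of a list commuting with one of them. -/
def commW (l : List (List ℕ)) (L : List ℕ) : List (List ℕ) := l.filter fun M => compL L M == compL M L

/-- The members with many partners. -/
def busy (l : List (List ℕ)) (k : ℕ) : List (List ℕ) := l.filter fun L => decide (k ≤ (commW l L).length)

/-- Has a fixed position. -/
def hasFix (L : List ℕ) : Bool := (List.range 24).any fun i => L.getD i 0 == i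

/-- The involutions fixing two masks. -/
def pairInv : List (List ℕ) := invs (pairStab.map decL)

/-- Those without fixed positions. -/
def pairFree : List (List ℕ) := pairInv.filter fun L => !hasFix L

/-- Those with fixed positions. -/
def pairFix : List (List ℕ) := pairInv.filter hasFix

theorem syl_busy : (busy (invs (sylList.map decL)) 31).length < 31 := by decide +kernel

theorem pair_busy : (busy pairInv 31).length < 31 := by decide +kernel

theorem pairFree_busy : (busy pairFree 14).length < 14 := by decide +kernel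

theorem pairFix_closed : pairFix.all (fun L => pairFix.all fun M =>
    !(compL L M == compL M L) || (L == M) || pairFix.contains (compL L M)) = true := by decide +kernel

theorem third_comm : thirds.all (fun t =>
    let F := pairInv.filter fun L => imgB L t t
    F.all fun L => decide ((commW F L).length ≤ 1)) = true := by decide +kernel

/-- A set of pairwise commuting elements inside a list. -/
theorem card_le_busy {l : List (List ℕ)} {S : Finset M24} {k : ℕ} (hk : k ≤ S.card)
    (hmem : ∀ g ∈ S, toList (g : Equiv.Perm GolayPt) ∈ l) (hcomm : ∀ g ∈ S, ∀ h ∈ S, g * h = h * g) :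
    S.card ≤ (busy l k).length := by
  classical
  have hdeg : ∀ g ∈ S, S.card ≤ (commW l (toList (g : Equiv.Perm GolayPt))).length := fun g hg => by
    refine le_trans ?_ (List.toFinset_card_le _)
    refine Finset.card_le_card_of_injOn (fun h => toList (h : Equiv.Perm GolayPt)) (fun h hh => ?_)
      toList_coe_injective.injOn
    rw [Finset.mem_coe, List.mem_toFinset, commW, List.mem_filter]
    refine ⟨hmem h hh, ?_⟩
    rw [beq_iff_eq, ← toList_mul, ← toList_mul, ← Subgroup.coe_mul, ← Subgroup.coe_mul, hcomm g hg h hh]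
  refine le_trans ?_ (List.toFinset_card_le _)
  refine Finset.card_le_card_of_injOn (fun h => toList (h : Equiv.Perm GolayPt)) (fun h hh => ?_)
    toList_coe_injective.injOn
  rw [Finset.mem_coe, List.mem_toFinset, busy, List.mem_filter]
  exact ⟨hmem h hh, decide_eq_true (hk.trans (hdeg h hh))⟩

theorem mem_invs {l : List (List ℕ)} {g : M24} (hg : toList (g : Equiv.Perm GolayPt) ∈ l) (h2 : g * g = 1)
    (h1 : g ≠ 1) : toList (g : Equiv.Perm GolayPt) ∈ invs l := by
  rw [invs, List.mem_filter]
  refine ⟨hg, ?_⟩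
  rw [Bool.and_eq_true, beq_iff_eq, ← toList_mul, ← Subgroup.coe_mul, h2, Subgroup.coe_one, toList_one]
  refine ⟨rfl, ?_⟩
  rw [Bool.not_eq_true', beq_eq_false_iff_ne]
  exact fun e => h1 (toList_coe_injective (e.trans toList_one.symm))

theorem hasFix_iff (g : M24) : hasFix (toList (g : Equiv.Perm GolayPt)) = true ↔
    ∃ p, (g : Equiv.Perm GolayPt) p = p := by
  simp only [hasFix, List.any_eq_true, List.mem_range, beq_iff_eq]
  constructor
  · rintro ⟨i, hi, he⟩
    refine ⟨pt i, idx_injective ?_⟩
    rw [← toList_getD _ hi, he, idx_pt i hi]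
  · rintro ⟨p, hp⟩
    exact ⟨idx p, idx_lt p, by rw [toList_getD_idx, hp]⟩

theorem comm_of_sq {H : Type*} [Group H] {E : Subgroup H} (h : ∀ g ∈ E, g * g = 1) {a b : H} (ha : a ∈ E)
    (hb : b ∈ E) : a * b = b * a := by
  rw [← inv_eq_of_mul_eq_one_right (h _ (mul_mem ha hb)), mul_inv_rev, inv_eq_of_mul_eq_one_right (h a ha),
    inv_eq_of_mul_eq_one_right (h b hb)]

theorem two_pow_of_sq {H : Type*} [Group H] [Finite H] {E : Subgroup H} (h : ∀ g ∈ E, g * g = 1) :
    ∃ n, Nat.card E = 2 ^ n := by
  haveI : Fact (Nat.Prime 2) := ⟨Nat.prime_two⟩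
  exact IsPGroup.iff_card.1 fun g => ⟨1, Subtype.ext (by
    show (g : H) ^ (2 ^ 1) = 1
    rw [pow_one, pow_two, h g g.2])⟩

open Classical in
/-- The nontrivial elements. -/
noncomputable def sharp (E : Subgroup M24) : Finset M24 := (Finset.univ.filter fun g => g ∈ E).erase 1

theorem mem_sharp {E : Subgroup M24} {g : M24} : g ∈ sharp E ↔ g ∈ E ∧ g ≠ 1 := by
  simp [sharp, and_comm]

theorem card_sharp (E : Subgroup M24) : (sharp E).card + 1 = Nat.card E := by
  classical
  rw [sharp, Finset.card_erase_add_one (by simp [E.one_mem]), Nat.card_eq_fintype_card]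
  exact (Fintype.card_subtype _).symm

/-- Elementary subgroups of the stabiliser of one mask. -/
theorem elem_stabOne {E : Subgroup M24} (hE : E ≤ stabOne) (h2 : ∀ g ∈ E, g * g = 1) : Nat.card E ≤ 16 := by
  classical
  haveI : Fact (Nat.Prime 2) := ⟨Nat.prime_two⟩
  obtain ⟨n, hn⟩ := two_pow_of_sq h2
  by_contra hlt
  have h32 : 32 ≤ Nat.card E := by
    rw [hn] at hlt ⊢
    have h5 : 5 ≤ n := by
      by_contra h5
      exact hlt ((Nat.pow_le_pow_right (by norm_num) (show n ≤ 4 by omega)).trans (by norm_num))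
    exact (Nat.pow_le_pow_right (by norm_num) h5 : 2 ^ 5 ≤ 2 ^ n)
  obtain ⟨P, hP⟩ := exists_sylow
  obtain ⟨Q, hQ⟩ := (IsPGroup.of_card ((Nat.card_congr (subgroupOfEquivOfLe hE).toEquiv).trans hn) :
    IsPGroup 2 (E.subgroupOf stabOne)).exists_le_sylow
  obtain ⟨k, hk⟩ := MulAction.exists_smul_eq stabOne Q P
  let E' : Subgroup M24 := E.map (MulAut.conj (k : M24)).toMonoidHom
  have hc : Nat.card E' = Nat.card E := Subgroup.card_map_of_injective (MulEquiv.injective _)
  have hmem : ∀ g ∈ sharp E', toList (g : Equiv.Perm GolayPt) ∈ invs (sylList.map decL) := by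
    intro g hg
    obtain ⟨⟨e, he, rfl⟩, hne⟩ := mem_sharp.1 hg
    refine mem_invs ?_ (by rw [← map_mul, h2 e he, map_one]) hne
    have h : k * ⟨e, hE he⟩ * k⁻¹ ∈ P := by
      show _ ∈ (P : Subgroup stabOne)
      rw [← hk, Sylow.coe_subgroup_smul]
      exact Subgroup.mem_map_of_mem (MulAut.conj k).toMonoidHom (hQ (mem_subgroupOf.2 he))
    exact hP _ h
  have h := card_le_busy (k := 31) (by have := card_sharp E'; omega) hmem (by
    intro g hg g' hg'
    refine comm_of_sq ?_ (mem_sharp.1 hg).1 (mem_sharp.1 hg').1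
    rintro _ ⟨e, he, rfl⟩
    rw [← map_mul, h2 e he, map_one])
  have := card_sharp E'
  have := syl_busy
  omega

/-- Elementary subgroups of the stabiliser of two masks. -/
theorem elem_stabTwo {E : Subgroup M24} (hE : E ≤ stabTwo) (h2 : ∀ g ∈ E, g * g = 1) :
    Nat.card E ≤ 16 ∧ (Nat.card E = 16 → ∃ E0 : Subgroup M24, E0 ≤ E ∧ 4 ≤ Nat.card E0 ∧
      ∀ g ∈ E0, g ≠ 1 → ∃ p, (g : Equiv.Perm GolayPt) p = p) := by
  classical
  have hmem : ∀ g ∈ sharp E, toList (g : Equiv.Perm GolayPt) ∈ pairInv := fun g hg =>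
    mem_invs (stabTwo_listed (hE (mem_sharp.1 hg).1)) (h2 g (mem_sharp.1 hg).1) (mem_sharp.1 hg).2
  have hcomm : ∀ g ∈ sharp E, ∀ h ∈ sharp E, g * h = h * g := fun g hg h hh =>
    comm_of_sq h2 (mem_sharp.1 hg).1 (mem_sharp.1 hh).1
  have hcs := card_sharp E
  obtain ⟨n, hn⟩ := two_pow_of_sq h2
  refine ⟨?_, fun h16 => ?_⟩
  · by_contra hlt
    have h32 : 32 ≤ Nat.card E := by
      rw [hn] at hlt ⊢
      have h5 : 5 ≤ n := by
        by_contra h5
        exact hlt ((Nat.pow_le_pow_right (by norm_num) (show n ≤ 4 by omega)).trans (by norm_num))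
      exact (Nat.pow_le_pow_right (by norm_num) h5 : 2 ^ 5 ≤ 2 ^ n)
    have := card_le_busy (k := 31) (by omega) hmem hcomm
    have := pair_busy
    omega
  let E0 : Subgroup M24 :=
    { carrier := {g | g ∈ E ∧ (g ≠ 1 → ∃ p, (g : Equiv.Perm GolayPt) p = p)}
      one_mem' := ⟨one_mem _, fun h => absurd rfl h⟩
      mul_mem' := by
        rintro a b ⟨ha, ha'⟩ ⟨hb, hb'⟩
        refine ⟨mul_mem ha hb, fun hne => ?_⟩
        rcases eq_or_ne a 1 with rfl | ha1
        · rw [one_mul] at hne ⊢; exact hb' hne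
        rcases eq_or_ne b 1 with rfl | hb1
        · rw [mul_one] at hne ⊢; exact ha' hne
        have hab : a ≠ b := fun e => hne (by rw [e, h2 b hb])
        have hf : ∀ {g}, g ∈ E → g ≠ 1 → (∃ p, (g : Equiv.Perm GolayPt) p = p) →
            toList (g : Equiv.Perm GolayPt) ∈ pairFix := fun {g} hg h1 hp =>
          List.mem_filter.2 ⟨hmem g (mem_sharp.2 ⟨hg, h1⟩), (hasFix_iff g).2 hp⟩
        have h := List.all_eq_true.1 (List.all_eq_true.1 pairFix_closed _ (hf ha ha1 (ha' ha1))) _
          (hf hb hb1 (hb' hb1))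
        simp only [Bool.or_eq_true, Bool.not_eq_true', beq_eq_false_iff_ne, beq_iff_eq,
          List.contains_iff_mem] at h
        rcases h with (h | h) | h
        · exact absurd (by rw [← toList_mul, ← toList_mul, ← Subgroup.coe_mul, ← Subgroup.coe_mul,
            comm_of_sq h2 ha hb]) h
        · exact absurd (toList_coe_injective h) hab
        · rw [← toList_mul, ← Subgroup.coe_mul] at h
          exact (hasFix_iff _).1 (List.mem_filter.1 h).2
      inv_mem' := by
        rintro a ⟨ha, ha'⟩
        rw [inv_eq_of_mul_eq_one_right (h2 a ha)]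
        exact ⟨ha, ha'⟩ }
  refine ⟨E0, fun g hg => hg.1, ?_, fun g hg h1 => hg.2 h1⟩
  obtain ⟨k, hk⟩ := two_pow_of_sq (E := E0) fun g hg => h2 g hg.1
  suffices 3 ≤ Nat.card E0 by
    rw [hk] at this ⊢
    rcases k with _ | _ | k
    · norm_num at this
    · norm_num at this
    · exact (Nat.pow_le_pow_right (by norm_num) (show 2 ≤ k + 1 + 1 by omega) : 2 ^ 2 ≤ _)
  have hc0 := card_sharp E0
  let F := (sharp E).filter fun g : M24 => ¬ ∃ p, (g : Equiv.Perm GolayPt) p = p
  have hF : F.card < 14 := by
    by_contra hge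
    have := card_le_busy (l := pairFree) (S := F) (k := 14) (by omega)
      (fun g hg => by
        obtain ⟨hg, hno⟩ := Finset.mem_filter.1 hg
        refine List.mem_filter.2 ⟨hmem g hg, ?_⟩
        rw [Bool.not_eq_true', Bool.eq_false_iff]
        exact fun h => hno ((hasFix_iff g).1 h))
      (fun g hg h hh => hcomm g (Finset.mem_filter.1 hg).1 h (Finset.mem_filter.1 hh).1)
    have := pairFree_busy
    omega
  have hsub : (sharp E).card ≤ F.card + (sharp E0).card := by
    refine (Finset.card_le_card (t := F ∪ sharp E0) fun g hg => ?_).trans (Finset.card_union_le _ _)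
    by_cases hp : ∃ p, (g : Equiv.Perm GolayPt) p = p
    · exact Finset.mem_union_right _ (mem_sharp.2 ⟨⟨(mem_sharp.1 hg).1, fun _ => hp⟩, (mem_sharp.1 hg).2⟩)
    · exact Finset.mem_union_left _ (Finset.mem_filter.2 ⟨hg, hp⟩)
  omega

/-- Elementary subgroups of the stabiliser of three masks. -/
theorem elem_stabThree {E : Subgroup M24} {t : ℕ} (ht : t ∈ thirds) (hlt : t < 2048) (hE : E ≤ stabTwo)
    (hfix : ∀ g ∈ E, g • oM t = oM t) (h2 : ∀ g ∈ E, g * g = 1) : Nat.card E ≤ 2 := by
  classical
  have h := List.all_eq_true.1 third_comm t ht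
  simp only [List.all_eq_true, decide_eq_true_eq] at h
  have hmem : ∀ g ∈ sharp E, toList (g : Equiv.Perm GolayPt) ∈ pairInv.filter fun L => imgB L t t := by
    intro g hg
    refine List.mem_filter.2
      ⟨mem_invs (stabTwo_listed (hE (mem_sharp.1 hg).1)) (h2 g (mem_sharp.1 hg).1) (mem_sharp.1 hg).2, ?_⟩
    simp only [imgB, same, Bool.and_eq_true, beq_iff_eq, List.all_eq_true, List.contains_iff_mem, true_and]
    intro x hx
    have hx' : pts (permF (toList (g : Equiv.Perm GolayPt)) x) ∈ oM t := by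
      rw [← hfix g (mem_sharp.1 hg).1, oM, smul_toObj]
      exact mem_toObj.2 ⟨_, List.mem_map_of_mem hx, rfl⟩
    rw [oM] at hx'
    obtain ⟨x', hx'm, he⟩ := mem_toObj.1 hx'
    rwa [← pts_inj ((canonL_spec (pairL_ok hlt)).2 _ hx'm) (permF_lt _ _) he]
  have hcs := card_sharp E
  by_contra hlt'
  obtain ⟨a, ha⟩ : (sharp E).Nonempty := Finset.card_pos.1 (by omega)
  have := h _ (hmem a ha)
  have h1 : (sharp E).card ≤
      (commW (pairInv.filter fun L => imgB L t t) (toList (a : Equiv.Perm GolayPt))).length := by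
    refine le_trans ?_ (List.toFinset_card_le _)
    refine Finset.card_le_card_of_injOn (fun g => toList (g : Equiv.Perm GolayPt)) (fun g hg => ?_)
      toList_coe_injective.injOn
    rw [Finset.mem_coe, List.mem_toFinset, commW, List.mem_filter]
    refine ⟨hmem g hg, ?_⟩
    rw [beq_iff_eq, ← toList_mul, ← toList_mul, ← Subgroup.coe_mul, ← Subgroup.coe_mul,
      comm_of_sq h2 (mem_sharp.1 ha).1 (mem_sharp.1 hg).1]
  omega

/-! ### Spaces of masks free of octads -/

/-- The members of the space of the first two masks. -/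
def spanTwo : List ℕ := [0, 40, mTwo, 40 ^^^ mTwo]

theorem thirds_listed : ∀ a < 64, ∀ b < 32, ¬ (32 * a + b) ∈ spanTwo →
    (spanTwo.all fun e => dodSet.testBit ((32 * a + b) ^^^ e)) = true →
    (CfsgLib.Co1Golay.ofList thirds).testBit (32 * a + b) = true := by decide +kernel

theorem mem_thirds {m : ℕ} (hm : m < 2048) (hns : m ∉ spanTwo)
    (hd : ∀ e ∈ spanTwo, dodSet.testBit (m ^^^ e) = true) : m ∈ thirds :=
  CfsgLib.Co1Golay.ofList_spec _ _ (two_level (P := fun m => ¬ m ∈ spanTwo →
    (spanTwo.all fun e => dodSet.testBit (m ^^^ e)) = true →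
    (CfsgLib.Co1Golay.ofList thirds).testBit m = true) thirds_listed hm hns (List.all_eq_true.2 hd))

theorem thirds_lt : ∀ t ∈ thirds, t < 2048 := by decide +kernel

theorem no_sixteen : thirds.all (fun a => thirds.all fun b =>
    spanTwo.contains (a ^^^ b) || !(spanTwo.all fun e => dodSet.testBit (a ^^^ b ^^^ e))) = true := by
  decide +kernel

theorem wit_one : witOne < 2048 ∧ witPair < 2048 ∧ octSet.testBit witOne = true ∧ octSet.testBit witPair = true ∧
    dodSet.testBit (witOne ^^^ 40) = true ∧ octSet.testBit (witPair ^^^ 40) = true := by decide +kernel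

theorem wit_two : witTwo < 2048 ∧ octSet.testBit witTwo = true ∧
    ∀ e ∈ [40, mTwo, 40 ^^^ mTwo], dodSet.testBit (witTwo ^^^ e) = true := by decide +kernel

theorem wit_three : thirdWit.length = thirds.length ∧ ((thirds.zip thirdWit).all fun x =>
    decide (x.2 < 2048) && octSet.testBit x.2 && ([40, mTwo, 40 ^^^ mTwo].all fun e => dodSet.testBit (x.2 ^^^ e)) &&
      (spanTwo.all fun e => dodSet.testBit (x.2 ^^^ (x.1 ^^^ e)))) = true := by
  decide +kernel

theorem exists_wit_three {t : ℕ} (ht : t ∈ thirds) : ∃ p < 2048, octSet.testBit p = true ∧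
    (∀ e ∈ [40, mTwo, 40 ^^^ mTwo], dodSet.testBit (p ^^^ e) = true) ∧
    ∀ e ∈ spanTwo, dodSet.testBit (p ^^^ (t ^^^ e)) = true := by
  obtain ⟨hl, hall⟩ := wit_three
  obtain ⟨i, hi, rfl⟩ := List.mem_iff_getElem.1 ht
  have h := List.all_eq_true.1 hall (thirds[i], thirdWit[i]'(hl ▸ hi))
    (List.mem_iff_getElem.2 ⟨i, by rw [List.length_zip, hl, min_self]; exact hi, List.getElem_zip⟩)
  simp only [Bool.and_eq_true, decide_eq_true_eq, List.all_eq_true] at h
  exact ⟨_, h.1.1.1, h.1.1.2, h.1.2, h.2⟩

end CfsgLib.Co1Loc
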