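import Cfsg.Agent.Co1Loc.Code

/-!
A Sylow two-subgroup of the stabiliser of one mask of weight twelve.
-/

set_option autoImplicit false
set_option maxRecDepth 100000
set_option synthInstance.maxSize 4096
set_option linter.style.haveILetI false
set_option linter.unusedSectionVars false

namespace CfsgLib.Co1Loc

open Cfsg CfsgLib.Golay CfsgLib.Golay.Cert
open CfsgLib.Co1Golay (cWord dodSet octSet two_level)
open scoped Pointwise

/-! ### The Sylow two-subgroup of the stabiliser of one mask -/

theorem sylGens_ok : sylGens.all (fun n => genOK (decL n) && imgB (decL n) 40 40) = true := by decide +kernel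

/-- The certificate of the Sylow subgroup. -/
def sylOK : Bool :=
  ((sylList.map decL).head? == some (List.range 24)) && (sylList.length == 128) &&
    ((List.range 127).all fun i => match sylPar.getD i (0, 0) with
      | (p, j) => decide (p ≤ i) && decide (j < sylGens.length) &&
        (compL (decL (sylGens.getD j 0)) (decL (sylList.getD p 0)) == decL (sylList.getD (i + 1) 0))) &&
    (sylList.all fun n => sylGens.all fun k => (sylList.map decL).contains (compL (decL k) (decL n)))

theorem sylOK_eq : sylOK = true := by decide +kernel

theorem sylList_nodup : (sylList.map decL).Nodup := by decide +kernel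

/-- A Sylow two-subgroup of the stabiliser of the first mask lies in the list. -/
theorem exists_sylow : ∃ P : Sylow 2 stabOne, ∀ g : stabOne, g ∈ P →
    toList ((g : M24) : Equiv.Perm GolayPt) ∈ sylList.map decL := by
  classical
  haveI : Fact (Nat.Prime 2) := ⟨Nat.prime_two⟩
  have hok := sylOK_eq
  simp only [sylOK, Bool.and_eq_true, beq_iff_eq, List.all_eq_true, decide_eq_true_eq, List.mem_range,
    List.contains_iff_mem] at hok
  obtain ⟨⟨⟨h0, hl⟩, hstep⟩, hclosed⟩ := hok
  let S : Set stabOne := {g | toList ((g : M24) : Equiv.Perm GolayPt) ∈ sylGens.map decL}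
  let H := Subgroup.closure S
  have hH : ∀ g ∈ H, toList ((g : M24) : Equiv.Perm GolayPt) ∈ sylList.map decL := by
    intro g hg
    rw [← Subgroup.mem_toSubmonoid, Subgroup.closure_toSubmonoid_of_finite] at hg
    refine Submonoid.closure_induction_left (motive := fun (g : stabOne) _ => toList ((g : M24) : Equiv.Perm GolayPt) ∈
      sylList.map decL) ?_ (fun x hx y _ ih => ?_) hg
    · show toList 1 ∈ _
      rw [toList_one]
      exact List.mem_of_mem_head? h0
    · obtain ⟨k, hk, hke⟩ := List.mem_map.1 hx
      obtain ⟨n, hn, hne⟩ := List.mem_map.1 ih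
      show toList ((((x : M24) : Equiv.Perm GolayPt)) * ((y : M24) : Equiv.Perm GolayPt)) ∈ _
      rw [toList_mul, ← hke, ← hne]
      exact hclosed n hn k hk
  have hmem : ∀ i < 128, ∃ g ∈ H, toList ((g : M24) : Equiv.Perm GolayPt) = decL (sylList.getD i 0) := by
    intro i
    induction i using Nat.strong_induction_on with
    | _ i ih =>
      intro hi
      rcases i with _ | i
      · refine ⟨1, one_mem _, ?_⟩
        show toList 1 = _
        rw [toList_one]
        cases ho : sylList with
        | nil => rw [ho] at h0; simp at h0
        | cons a l => rw [ho] at h0; simpa using (Option.some.inj h0).symm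
      · have hs := hstep i (by omega)
        revert hs
        rcases sylPar.getD i (0, 0) with ⟨p, j⟩
        intro hs
        simp only [Bool.and_eq_true, decide_eq_true_eq, beq_iff_eq] at hs
        obtain ⟨⟨hp, hj⟩, he⟩ := hs
        obtain ⟨g, hg, hge⟩ := ih p (by omega) (by omega)
        have hn : sylGens.getD j 0 ∈ sylGens := by rw [List.getD_eq_getElem _ _ hj]; exact List.getElem_mem _
        have h := List.all_eq_true.1 sylGens_ok _ hn
        rw [Bool.and_eq_true] at h
        obtain ⟨k, hk⟩ := genOK_spec h.1
        refine ⟨⟨k, smul_oM hk (by norm_num) h.2⟩ * g, mul_mem (Subgroup.subset_closure ?_) hg, ?_⟩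
        · show toList _ ∈ sylGens.map decL
          rw [hk]; exact List.mem_map_of_mem hn
        · show toList ((k : Equiv.Perm GolayPt) * ((g : M24) : Equiv.Perm GolayPt)) = _
          rw [toList_mul, hk, hge, he]
  have hcard : Nat.card H = 128 := by
    refine le_antisymm ?_ ?_
    · rw [show (128 : ℕ) = Fintype.card {L // L ∈ (sylList.map decL).toFinset} by
        rw [Fintype.card_coe, List.toFinset_card_of_nodup sylList_nodup, List.length_map, hl],
        ← Nat.card_eq_fintype_card]
      exact Nat.card_le_card_of_injective (fun g => ⟨_, List.mem_toFinset.2 (hH g.1 g.2)⟩) fun a b e =>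
        Subtype.ext (Subtype.ext (toList_coe_injective (congrArg Subtype.val e)))
    · choose f hf hfe using hmem
      rw [← Nat.card_fin 128]
      refine Nat.card_le_card_of_injective (fun i => (⟨f i.val i.2, hf i.val i.2⟩ : H)) fun i j e => ?_
      have h := (hfe i.val i.2).symm.trans
        ((congrArg (fun g : H => toList (((g : stabOne) : M24) : Equiv.Perm GolayPt)) e).trans (hfe j.val j.2))
      rw [List.getD_eq_getElem _ _ (show i.val < _ by rw [hl]; exact i.2),
        List.getD_eq_getElem _ _ (show j.val < _ by rw [hl]; exact j.2)] at h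
      refine Fin.ext ((sylList_nodup.getElem_inj_iff (i := i.val) (j := j.val)
        (hi := by simp [hl]) (hj := by simp [hl])).1 ?_)
      rw [List.getElem_map, List.getElem_map]; exact h
  obtain ⟨P, hP⟩ := (IsPGroup.of_card (p := 2) (n := 7) (G := H) (hcard.trans (by norm_num))).exists_le_sylow
  refine ⟨P, fun g hg => hH g ?_⟩
  have h7 : Nat.card P ≤ 128 := by
    rw [P.card_eq_multiplicity]
    refine (Nat.pow_le_pow_right (by norm_num) (show (Nat.card stabOne).factorization 2 ≤ 7 from ?_)).trans (by norm_num)
    by_contra hlt
    have hd : 2 ^ 8 ∣ Nat.card stabOne :=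
      (pow_dvd_pow 2 (by omega)).trans (Nat.ordProj_dvd (Nat.card stabOne) 2)
    rcases card_stabOne with h | h <;> rw [h] at hd <;> norm_num at hd
  have he : H = (P : Subgroup stabOne) := Subgroup.eq_of_le_of_card_ge hP (by rw [hcard]; exact h7)
  rw [he]; exact hg

end CfsgLib.Co1Loc
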