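import Cfsg.Agent.Co1Loc.Subspace
import Cfsg.Agent.Co1Golay.Main

/-!
An element of the elementary subgroup outside the class of the central involution: the part of its
centraliser inside the involution centraliser normalises the elementary subgroup.
-/

set_option autoImplicit false
set_option maxRecDepth 100000
set_option synthInstance.maxSize 4096
set_option linter.style.haveILetI false
set_option linter.unusedSectionVars false

namespace CfsgLib.Co1Loc

open CfsgLib CfsgLib.Quad CfsgLib.Co1Invol CfsgLib.Co1Golay Subgroup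

variable {G : Type*} [Group G] [Finite G] {z : G} {D : Dat z} {B : Base D}

/-- Some displacement is nonsingular. -/
def NonTS (D : Dat z) (x : G) : Prop := ∃ m, qf (disp (hact D x) m) = 1

theorem small_forty : (40 : ℕ) < 256 ∧ xsum (40 / 32) = x1 ∧ red (piSel lowT (40 % 32)) = x2 ∧
    octSet.testBit 40 = false := by decide +kernel

/-- The standard mask gives a singular pair. -/
theorem exists_pr40 (hB : Good B) : ∃ S : Pr B x1 x2, S.el = phi B 40 := by
  obtain ⟨hsp, hP, hA, hw, hv, -⟩ := split_small hB (m := 40) small_forty.1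
  exact ⟨⟨_, _, hP, hA, hw.trans small_forty.2.1, hv.trans small_forty.2.2.1⟩, hsp.symm⟩

/-- Every element of the subgroup outside the class of the central involution is conjugate to the standard one. -/
theorem orbit_dod (St : Pr B w2 v2) (Su : Pr B x1 x2) (hB : Good B) {c : G} (hc : c ∈ Ab B hB) (hc1 : c ≠ 1)
    (hcz : ¬ IsConj z c) : ∃ n ∈ normalizer (Ab B hB : Set G), n * c * n⁻¹ = phi B 40 := by
  obtain ⟨a, -, b, -, -, -, -, horb⟩ := two_orbits St Su hB
  have hzA : z ∈ Ab B hB := gens_mem hB ((mem_gens B).2 (Or.inl rfl))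
  have h40z : ¬ IsConj z (phi B 40) := fun h => by
    have := (bit_iff St Su hB (m := 40) (by norm_num) (by norm_num)).1.2 h
    rw [small_forty.2.2.2] at this
    exact Bool.false_ne_true this
  have h40 : phi B 40 ≠ 1 := fun h => absurd (phi_eq_one hB (by norm_num) h) (by norm_num)
  obtain ⟨nz, hnz, hz'⟩ := horb z hzA D.pre.gen.ne_one
  obtain ⟨nc, hnc, hc'⟩ := horb c hc hc1
  obtain ⟨nf, hnf, hf'⟩ := horb _ (phi_mem hB 40) h40
  have hjoin : ∀ {x y n m t : G}, n * x * n⁻¹ = t → m * y * m⁻¹ = t → m⁻¹ * n * x * (m⁻¹ * n)⁻¹ = y := by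
    intro x y n m t h h'
    rw [show m⁻¹ * n * x * (m⁻¹ * n)⁻¹ = m⁻¹ * (n * x * n⁻¹) * m by group, h, ← h']
    group
  rcases hc' with hc' | hc' <;> rcases hf' with hf' | hf' <;> rcases hz' with hz' | hz'
  all_goals first
    | exact absurd (isConj_iff.2 ⟨_, hjoin hz' hc'⟩) hcz
    | exact absurd (isConj_iff.2 ⟨_, hjoin hz' hf'⟩) h40z
    | exact ⟨nf⁻¹ * nc, mul_mem (inv_mem hnf) hnc, hjoin hc' hf'⟩

/-- The kernel of the alternating matrix of a mask. -/
abbrev Null (k : ℕ) (a : Fin 4 → ZMod 2) : Prop := ∀ j, ∑ i, a i * (mBit k i j : ZMod 2) = 0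

instance (k : ℕ) (a : Fin 4 → ZMod 2) : Decidable (Null k a) := Fintype.decidableForallFintype

/-- Three vectors of the kernel are dependent. -/
abbrev Pinch (k : ℕ) (a b c : Fin 4 → ZMod 2) : Prop :=
  a ≠ 0 → b ≠ 0 → b ≠ a → c = 0 ∨ c = a ∨ c = b ∨ c = a + b

/-- The kernel of the alternating matrix of a mask has at most four elements. -/
abbrev KerOK (k : ℕ) : Prop :=
  k ≠ 0 → ∀ a, Null k a → ∀ b, Null k b → ∀ c, Null k c → Pinch k a b c

instance (k : ℕ) : Decidable (KerOK k) := inferInstance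

theorem phi_ker : ∀ k < 64, KerOK k := by
  decide +kernel

theorem inW_bf_yb : ∀ u : M8, inW u → (∀ j, bf u (yb j) = 0) → u = 0 := fun u hu h => by
  rw [inW_span hu]
  exact Finset.sum_eq_zero fun i _ => by rw [h i, zero_smul]

theorem phi_disp {m : ℕ} (hm : m < 2048) (u : M8) (j : Fin 4) :
    bf (disp (hact D (phi B m)) u) (yb j) = ∑ i, yPart u i * (mBit (m / 32) i j : ZMod 2) := by
  set g := disp (hact D (phi B m)) with hg
  have hx : ∀ i, g (xb i) = 0 := fun i => by rw [hg, disp_apply, phi_fix B hm, add_self]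
  have hy : ∀ i, bf (g (yb i)) (yb j) = (mBit (m / 32) i j : ZMod 2) := fun i => by
    rw [hg, disp_apply, bf_add_left, phi_matrix B hm, (yb_facts i j).1, add_zero]
  have hu : g u = ∑ i, yPart u i • g (yb i) := by
    conv_lhs => rw [expand4 u]
    simp only [map_sum, map_add, map_smul, hx, smul_zero, zero_add, yPart]
  rw [hu, Fin.sum_univ_four, Fin.sum_univ_four]
  simp only [bf_add_left, bf_smul_left, hy]

theorem phi_range {m : ℕ} (hm : m < 2048) (u : M8) : inW (disp (hact D (phi B m)) u) :=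
  inW_of_fix (phi_fix B hm) u

theorem phi_null {m : ℕ} (hm : m < 2048) {u : M8} (h : disp (hact D (phi B m)) u = 0) (j : Fin 4) :
    ∑ i, yPart u i * (mBit (m / 32) i j : ZMod 2) = 0 := by rw [← phi_disp (B := B) hm, h, bf_zero_left]

/-- A mask outside the class of the central involution with a kernel beyond the subspace twists the kernel. -/
theorem phi_hasZ (St : Pr B w2 v2) (Su : Pr B x1 x2) (hB : Good B) {m : ℕ} (hm : m < 2048) (h0 : m / 32 ≠ 0)
    (hcz : ¬ IsConj z (phi B m)) {u : M8} (hu : disp (hact D (phi B m)) u = 0) (hun : ¬ inW u) :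
    HasZ D (phi B m) := by
  obtain ⟨hpC, -⟩ := hact_phi B m
  have hsq : phi B m * phi B m = 1 := ev_sq (invList_gens B hB) _
  have hnQ := phi_notQ (B := B) hm h0
  have hne : phi B m ≠ 1 := fun e => hnQ (e ▸ one_mem _)
  have h2 : Module.finrank (ZMod 2) (LinearMap.range (disp (hact D (phi B m)))) = 2 := by
    refine (rank_cases (hact_sq hpC hsq) (hact_mem _) (fun e => hnQ (mem_Q_of_hact hpC e))).resolve_right ?_
    rintro ⟨-, hker⟩
    have : u ∈ LinearMap.range (disp (hact D (phi B m))) := hker ▸ LinearMap.mem_ker.2 hu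
    obtain ⟨v, rfl⟩ := this
    exact hun (phi_range hm v)
  rcases B.classify_two St Su hpC hnQ hsq h2 with h | ⟨c, hc, he⟩ | ⟨c, hc, he⟩
  · exact absurd (B.isConj_of_sing h hsq hne) hcz
  · rw [← he]
    refine HasZ.conj (B.hasZ_pair Su.hb Su.ha ?_ ?_ ?_) hc
    · rw [Su.wb]; exact pair_facts.2.2.2.2.2.2.1
    · rw [Su.πa]; exact pair_facts.2.2.2.2.2.2.2.1
    · rw [Su.wb, Su.πa]; exact pair_facts.2.2.2.2.2.2.2.2.1
  · exfalso
    obtain ⟨hadm, hu'⟩ := B.act_P St.hb
    have hts : TS (hact D St.el) := by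
      intro v
      obtain ⟨w, rfl⟩ : ∃ w, (hact D c⁻¹).1 w = v := ⟨_, (hact D c⁻¹).1.apply_symm_apply v⟩
      have hel : St.el = c⁻¹ * phi B m * c⁻¹⁻¹ := by rw [← he]; group
      rw [hel, ← disp_apply, disp_conj (inv_mem hc) hpC, qf_oGroup]
      exact inW_sing _ (phi_range hm w)
    have happ : ∀ v, (hact D St.el).1 v = uMap (B.wv St.b) v := fun v => by
      rw [Pr.el, hact_mul St.hb.2 (mem_C D St.ha.1), hact_Q St.ha.1, mul_one, hact_eq St.hb.2, hu']
    have h := (ts_uMap hadm.1 happ).1 hts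
    rw [← qf_red hadm.1, St.wb, pair_facts.1] at h
    exact one_ne_zero h

theorem conj_fix_iff {x q c : G} : c * q = q * c ↔ x * c * x⁻¹ * (x * q * x⁻¹) = x * q * x⁻¹ * (x * c * x⁻¹) := by
  rw [show x * c * x⁻¹ * (x * q * x⁻¹) = x * (c * q) * x⁻¹ by group,
    show x * q * x⁻¹ * (x * c * x⁻¹) = x * (q * c) * x⁻¹ by group]
  exact ⟨fun h => by rw [h], fun h => mul_left_cancel (mul_right_cancel h)⟩

/-- The local step. -/
theorem local_step (St : Pr B w2 v2) (Su : Pr B x1 x2) (hB : Good B) {c : G} (hcA : c ∈ Ab B hB) (hc1 : c ≠ 1)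
    (hcz : ¬ IsConj z c) {x : G} (hx : x ∈ centralizer ({z} : Set G)) (hxc : x * c = c * x) :
    x ∈ normalizer (Ab B hB : Set G) := by
  obtain ⟨m, hm, rfl⟩ := mem_Ab.1 hcA
  have h0 : m / 32 ≠ 0 := by
    intro h
    have hq := phi_low B (m := m) (by omega)
    have hsq : phi B m * phi B m = 1 := ev_sq (invList_gens B hB) _
    rcases eq_or_ne (phi B m) z with e | e
    · exact hcz (by rw [e])
    obtain ⟨d, -, hd⟩ := exists_conj_C D B.sQ hq.1 (by rw [B.πs]; exact q_e0) ((D.sq_iff _ hq.1).1 hsq)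
      (by rw [B.πs]; exact e0_ne) (fun h' => ((D.π_eq_zero _ hq.1).1 h').elim hc1 e)
    exact hcz ((isConj_iff.2 ⟨B.g, B.gz⟩).trans (isConj_iff.2 ⟨d, hd⟩))
  obtain ⟨hpC, -⟩ := hact_phi B m
  set c := phi B m with hcd
  set g := hact D c with hg
  set h := hact D x with hh
  have hcomm : ∀ u, disp g (h.1 u) = h.1 (disp g u) := fun u => by
    rw [disp_apply, disp_apply, map_add]
    show (g * h).1 u + _ = (h * g).1 u + _
    rw [hg, hh, ← hact_mul hpC hx, ← hxc, hact_mul hx hpC]
  have hkerW : ∀ w, inW w → disp g w = 0 := fun w hw => by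
    rw [inW_span hw, map_sum]
    exact Finset.sum_eq_zero fun i _ => by
      rw [map_smul, disp_apply, hg, hcd, phi_fix B hm, add_self, smul_zero]
  have hker : ∀ w, inW w → disp g (h.1 w) = 0 := fun w hw => by rw [hcomm, hkerW w hw, map_zero]
  -- the vectors whose lifts commute with the element
  have hK : ∀ {q q' : G}, q ∈ D.Q → q' ∈ D.Q → D.π q = D.π q' → c * q = q * c → c * q' = q' * c := by
    intro q q' hq hq' he hcq
    rcases eq_of_π D hq hq' he with e | e <;> rw [e]
    · exact hcq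
    · exact ((show Commute c q from hcq).mul_right (show Commute c z from mem_centralizer_singleton_iff.1 hpC)).eq
  have hWq : ∀ {q : G}, q ∈ D.Q → inW (D.π q) → c * q = q * c := fun {q} hq hw => by
    obtain ⟨r, -, hr⟩ := phi_inW B hq hw
    exact hr ▸ Ab_comm hB hcA (phi_mem hB r)
  refine mem_normalizer_of_W hB hx (omega_inW (hact_mem x) fun w hw => ?_)
  by_cases hhw : inW (h.1 w)
  · exact Or.inl hhw
  refine Or.inr fun w' hw' hhw' => ?_
  by_contra hne
  have hya : yPart (h.1 w) ≠ 0 := fun e => hhw ((inW_iff_yPart _).2 e)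
  have hyb : yPart (h.1 w') ≠ 0 := fun e => hhw' ((inW_iff_yPart _).2 e)
  have hyab : yPart (h.1 w') ≠ yPart (h.1 w) := fun e => hne ((inW_iff_yPart _).2 (by
    rw [yPart_add, e]; exact funext fun i => by rw [Pi.add_apply]; exact CharTwo.add_self_eq_zero _))
  -- lifts of the images commute with the element
  have him : ∀ v, inW v → ∀ {q : G}, q ∈ D.Q → yPart (D.π q) = yPart (h.1 v) → c * q = q * c := by
    intro v hv q hq he
    obtain ⟨p, hp, hpπ⟩ := D.π_surj v
    obtain ⟨h1, h2⟩ := π_conj (D := D) hx hp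
    rw [hpπ, ← hh] at h2
    have hxcq : c * (x * p * x⁻¹) = x * p * x⁻¹ * c := by
      have := (conj_fix_iff (x := x)).1 (hWq hp (hpπ ▸ hv))
      rwa [hxc, mul_inv_cancel_right] at this
    obtain ⟨r, hr⟩ : ∃ r, r = (x * p * x⁻¹)⁻¹ * q := ⟨_, rfl⟩
    have hrQ : r ∈ D.Q := hr ▸ mul_mem (inv_mem h1) hq
    have hrW : inW (D.π r) := (inW_iff_yPart _).2 (by
      rw [hr, D.π_mul _ (inv_mem h1) _ hq, π_inv D h1, h2, yPart_add, he]
      exact funext fun i => by rw [Pi.add_apply]; exact CharTwo.add_self_eq_zero _)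
    rw [show q = x * p * x⁻¹ * r by rw [hr, mul_inv_cancel_left]]
    exact ((show Commute c (x * p * x⁻¹) from hxcq).mul_right (show Commute c r from hWq hrQ hrW)).eq
  obtain ⟨q, hq, hqe⟩ := phi_hasZ St Su hB hm h0 hcz (hker w hw) hhw
  have hqnc : ¬ c * q = q * c := fun e => by
    refine D.pre.gen.ne_one ?_
    rw [← e, mul_inv_cancel_right] at hqe
    exact mul_eq_right.1 hqe.symm
  have hqk : disp g (D.π q) = 0 := by
    obtain ⟨-, h2⟩ := π_commutator (D := D) hpC hq
    rw [show c * q * c⁻¹ * q⁻¹ = z by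
      have hzc := mem_centralizer_singleton_iff.1 hpC
      have h4 : q * c = z * c * q := mul_inv_eq_iff_eq_mul.1 hqe
      have h5 : c * q = z * (q * c) := by rw [h4, ← mul_assoc, ← mul_assoc, D.pre.gen.sq, one_mul]
      rw [h5]; group, π_z] at h2
    rw [disp_apply, hg]
    exact h2.symm
  have hyq := phi_null hm hqk
  have hna := phi_null hm (hker w hw)
  have hnb := phi_null hm (hker w' hw')
  rcases phi_ker _ (div32_lt hm) h0 _ hna _ hnb _ hyq hya hyb hyab with e | e | e | e
  · exact hqnc (hWq hq ((inW_iff_yPart _).2 e))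
  · exact hqnc (him w hw hq e)
  · exact hqnc (him w' hw' hq e)
  · exact hqnc (him (w + w') (inW_add hw hw') hq (by rw [e, map_add, yPart_add]))

end CfsgLib.Co1Loc
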