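import Cfsg.Agent.Co1Loc.Local
import Cfsg.Agent.Co1Loc.CodeFacts

/-!
The normaliser of the elementary subgroup acting on masks, and the centralisers in that subgroup of the
involutions of the normaliser.
-/

set_option autoImplicit false
set_option maxRecDepth 100000
set_option synthInstance.maxSize 4096
set_option linter.style.haveILetI false
set_option linter.unusedSectionVars false

namespace CfsgLib.Co1Loc

open CfsgLib CfsgLib.Quad CfsgLib.Co1Invol CfsgLib.Co1Golay Subgroup
open CfsgLib.Golay (toList pts support_vec)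
open scoped Pointwise

variable {G : Type*} [Group G] [Finite G] {z : G} {D : Dat z} {B : Base D}

/-- An element of the normaliser inside the involution centraliser preserves the subspace. -/
theorem norm_inW (hB : Good B) {c : G} (hc : c ∈ centralizer ({z} : Set G))
    (hN : c ∈ normalizer (Ab B hB : Set G)) {w : M8} (hw : inW w) : inW ((hact D c).1 w) := by
  obtain ⟨m, hm, he⟩ := piSel_surj w hw
  obtain ⟨hq, hqπ⟩ := phi_low B (m := 2 * m) (by omega)
  obtain ⟨h1, h2⟩ := π_conj (D := D) hc hq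
  obtain ⟨m', hm', he'⟩ := mem_Ab.1 ((mem_normalizer_iff.1 hN _).1 (phi_mem hB (2 * m)))
  rw [← he'] at h1 h2
  have h0 : m' / 32 = 0 := by_contra fun h => phi_notQ (B := B) hm' h h1
  have hlow := (phi_low B (m := m') (by omega)).2
  rw [hlow, hqπ, he] at h2
  rw [← h2]
  exact (by decide +kernel : ∀ r < 32, inW (piSel lowT r)) m' (by omega)

/-- The pairing of two vectors by the alternating matrix of a mask. -/
abbrev altPair (k : ℕ) (a b : Fin 4 → ZMod 2) : ZMod 2 := ∑ j, (∑ i, a i * (mBit k i j : ZMod 2)) * b j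

set_option synthInstance.maxHeartbeats 400000 in
theorem alt_sep : ∀ a b : Fin 4 → ZMod 2, a ≠ 0 → b ≠ 0 → a ≠ b → ∃ k : Fin 64, altPair k.val a b ≠ 0 := by
  decide +kernel

/-- A conjugate of the elementary subgroup inside its normaliser and containing the central involution. -/
theorem conj_le (hB : Good B) {g : G} (hg : g ∈ centralizer ({z} : Set G))
    (h : ∀ x ∈ Ab B hB, g * x * g⁻¹ ∈ normalizer (Ab B hB : Set G)) : g ∈ normalizer (Ab B hB : Set G) := by
  suffices g⁻¹ ∈ normalizer (Ab B hB : Set G) by simpa using inv_mem this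
  refine mem_normalizer_of_W hB (inv_mem hg) (omega_inW (hact_mem _) fun w hw => ?_)
  set f := hact D g⁻¹ with hfd
  by_cases hfw : inW (f.1 w)
  · exact Or.inl hfw
  refine Or.inr fun w' hw' hfw' => ?_
  have hgf : ∀ m, (hact D g).1 (f.1 m) = m := fun m => by
    show (hact D g * f).1 m = m
    rw [hfd, hact_inv hg, mul_inv_cancel]; rfl
  have key : ∀ k < 64, altPair k (yPart (f.1 w)) (yPart (f.1 w')) = 0 := by
    intro k hk
    have hm : 32 * k < 2048 := by omega
    obtain ⟨hpC, -⟩ := hact_phi B (32 * k)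
    have hxC : g * phi B (32 * k) * g⁻¹ ∈ centralizer ({z} : Set G) := mul_mem (mul_mem hg hpC) (inv_mem hg)
    set d := disp (hact D (phi B (32 * k))) (f.1 w) with hdd
    obtain ⟨w2, hw2, hd⟩ : ∃ w2, inW w2 ∧ d = f.1 w2 := by
      refine ⟨(hact D (g * phi B (32 * k) * g⁻¹)).1 w + w, inW_add (norm_inW hB hxC (h _ (phi_mem hB _)) hw) hw, ?_⟩
      have he : (hact D (g * phi B (32 * k) * g⁻¹)).1 w = (hact D g).1 ((hact D (phi B (32 * k))).1 (f.1 w)) := by
        rw [hact_mul (mul_mem hg hpC) (inv_mem hg), hact_mul hg hpC]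
        rfl
      rw [map_add, he, hdd, disp_apply]
      congr 1
      show _ = (hact D g⁻¹ * hact D g).1 _
      rw [hact_inv hg, inv_mul_cancel]; rfl
    have h0 : bf d (f.1 w') = 0 := by rw [hd, bf_oGroup, inW_perp hw2 hw']
    have hdW : inW d := phi_range hm _
    rw [inW_span hdW, Fin.sum_univ_four] at h0
    simp only [bf_add_left, bf_smul_left] at h0
    rw [hdd] at h0
    simp only [phi_disp hm, Nat.mul_div_cancel_left k (by norm_num : 0 < 32), bf_comm (xb _) (f.1 w')] at h0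
    rw [altPair, Fin.sum_univ_four]
    exact h0
  by_contra hne
  have hyab : yPart (f.1 w) ≠ yPart (f.1 w') := fun e => hne ((inW_iff_yPart _).2 (by
    rw [yPart_add, e]; exact funext fun i => by rw [Pi.add_apply]; exact CharTwo.add_self_eq_zero _))
  obtain ⟨k, hk⟩ := alt_sep _ _ (fun e => hfw ((inW_iff_yPart _).2 e)) (fun e => hfw' ((inW_iff_yPart _).2 e)) hyab
  exact hk (key k.val k.2)

/-- The homomorphism onto the Mathieu group. -/
structure Act (B : Base D) (hB : Good B) (θ : ↥(normalizer (Ab B hB : Set G)) →* ↥Cfsg.M24) : Prop where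
  rel : ∀ n : ↥(normalizer (Ab B hB : Set G)), Rel B (n : G) ((θ n : Cfsg.M24) : Equiv.Perm Cfsg.GolayPt)
  ker : ∀ n : ↥(normalizer (Ab B hB : Set G)), θ n = 1 ↔ (n : G) ∈ Ab B hB
  surj : Function.Surjective θ

theorem exists_act (St : Pr B w2 v2) (Su : Pr B x1 x2) (hB : Good B) : ∃ θ, Act B hB θ := by
  obtain ⟨θ, h1, h2, h3, -⟩ := exists_iso St Su hB
  refine ⟨θ, h1, fun n => ?_, h3⟩
  rw [← MonoidHom.mem_ker, h2, mem_subgroupOf]

variable {hB : Good B} {θ : ↥(normalizer (Ab B hB : Set G)) →* ↥Cfsg.M24}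

/-- Conjugation is the action on masks. -/
theorem Act.smul_oM (T : Act B hB θ) (n : ↥(normalizer (Ab B hB : Set G))) {m m' : ℕ} (hm : m < 2048)
    (hm' : m' < 2048) (he : (n : G) * phi B m * (n : G)⁻¹ = phi B m') : θ n • oM m = oM m' := by
  classical
  obtain ⟨k, hk⟩ := T.rel n m hm m' hm' he
  set σ := ((θ n : Cfsg.M24) : Equiv.Perm Cfsg.GolayPt) with hσ
  have hpts : pts (cWord m') = θ n • pts (cWord m) ∨ pts (cWord m') = (θ n • pts (cWord m))ᶜ := by
    have hmem : ∀ q, q ∈ θ n • pts (cWord m) ↔ V m (σ.symm q) ≠ 0 := fun q => by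
      rw [CfsgLib.Golay.smul_finset_eq_image, ← support_vec]
      simp only [Cfsg.support₂, Finset.mem_image, Finset.mem_filter, Finset.mem_univ, true_and]
      exact ⟨fun ⟨p, hp, hpq⟩ => by rw [← hpq, hσ]; simpa [CfsgLib.Co1Golay.V] using hp,
        fun hq => ⟨σ.symm q, hq, σ.apply_symm_apply q⟩⟩
    rcases zmod2_cases k with rfl | rfl
    · left
      ext q
      rw [hmem, ← support_vec]
      simp only [Cfsg.support₂, Finset.mem_filter, Finset.mem_univ, true_and]
      rw [← show V m' q = V m (σ.symm q) by rw [hk q, add_zero]]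
      rfl
    · right
      ext q
      rw [Finset.mem_compl, hmem, ← support_vec]
      simp only [Cfsg.support₂, Finset.mem_filter, Finset.mem_univ, true_and]
      show V m' q ≠ 0 ↔ _
      rw [hk q]
      revert q
      intro q
      generalize V m (σ.symm q) = a
      revert a; decide
  refine Finset.eq_of_subset_of_card_le (fun s hs => ?_) ?_
  · obtain ⟨u, hu, rfl⟩ := Finset.mem_smul_finset.1 hs
    have hcompl : θ n • (pts (cWord m))ᶜ = (θ n • pts (cWord m))ᶜ := by
      rw [CfsgLib.Golay.smul_finset_eq_image, CfsgLib.Golay.smul_finset_eq_image,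
        Finset.compl_eq_univ_sdiff, Finset.compl_eq_univ_sdiff,
        Finset.image_sdiff _ _ σ.injective, Finset.image_univ_of_surjective σ.surjective]
    rcases mem_oM.1 hu with rfl | rfl <;> rcases hpts with e | e
    · exact mem_oM.2 (Or.inl e.symm)
    · exact mem_oM.2 (Or.inr (by rw [e, compl_compl]))
    · exact mem_oM.2 (Or.inr (by rw [hcompl, e]))
    · exact mem_oM.2 (Or.inl (by rw [hcompl, e]))
  · rw [Finset.card_smul_finset, oM, oM, CfsgLib.Golay.Cert.toObj, CfsgLib.Golay.Cert.toObj,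
      List.toFinset_card_of_nodup (CfsgLib.Golay.Cert.nodup_pts (pairL_ok hm))]
    refine (List.toFinset_card_le _).trans (le_of_eq ?_)
    simp only [List.length_map, pairL]
    split_ifs <;> rfl

/-- An element of the normaliser commuting with a mask fixes it. -/
theorem Act.fix (T : Act B hB θ) (n : ↥(normalizer (Ab B hB : Set G))) {m : ℕ} (hm : m < 2048)
    (h : (n : G) * phi B m = phi B m * n) : θ n • oM m = oM m :=
  T.smul_oM n hm hm (by rw [h, mul_inv_cancel_right])

/-- The conjugate of a mask is determined by the action. -/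
theorem Act.conj_eq (T : Act B hB θ) (n : ↥(normalizer (Ab B hB : Set G))) {m m' : ℕ} (hm : m < 2048)
    (hm' : m' < 2048) (h : θ n • oM m = oM m') : (n : G) * phi B m * (n : G)⁻¹ = phi B m' := by
  obtain ⟨m'', hm'', he⟩ := conj_phi hB n.2 m
  rw [he, oM_inj hm'' hm' ((T.smul_oM n hm hm'' he).symm.trans h)]

theorem phi_oct (St : Pr B w2 v2) (Su : Pr B x1 x2) (hB : Good B) {m : ℕ} (hm : m < 2048)
    (h : octSet.testBit m = true) : phi B m ∈ Ab B hB ∧ IsConj z (phi B m) := by
  have hm0 : m ≠ 0 := fun e => by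
    have := (two_level (P := fun m => ¬ (octSet.testBit m = true ∧ dodSet.testBit m = true) ∧
      (m = 0 → octSet.testBit m = false)) disjoint_sets hm).2 e
    rw [h] at this; exact Bool.false_ne_true this.symm
  exact ⟨phi_mem hB m, (bit_iff St Su hB hm hm0).1.1 h⟩

theorem phi_dod (St : Pr B w2 v2) (Su : Pr B x1 x2) (hB : Good B) {m : ℕ} (hm : m < 2048) :
    dodSet.testBit m = true ↔ phi B m ≠ 1 ∧ ¬ IsConj z (phi B m) := by
  obtain ⟨hd, -⟩ := two_level (P := fun m => ¬ (octSet.testBit m = true ∧ dodSet.testBit m = true) ∧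
      (m = 0 → octSet.testBit m = false)) disjoint_sets hm
  constructor
  · intro h
    have hm0 : m ≠ 0 := fun e => by rw [e] at h; revert h; decide +kernel
    exact ⟨fun e => hm0 (phi_eq_one hB hm e), fun hz => hd ⟨(bit_iff St Su hB hm hm0).1.2 hz, h⟩⟩
  · rintro ⟨h1, h2⟩
    have hm0 : m ≠ 0 := fun e => h1 (by rw [e]; exact ev_zero _)
    refine (bit_iff St Su hB hm hm0).2 ?_
    rw [Bool.eq_false_iff]
    exact fun h => h2 ((bit_iff St Su hB hm hm0).1.1 h)

/-- An involution of the normaliser centralises at least sixty-four elements of the subgroup. -/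
theorem sixtyFour_le (hB : Good B) {u : G} (hu : u ∈ normalizer (Ab B hB : Set G)) (hu2 : u * u = 1) :
    64 ≤ Nat.card ↥(Ab B hB ⊓ centralizer ({u} : Set G)) := by
  have hui : u⁻¹ = u := inv_eq_of_mul_eq_one_right hu2
  have hmem : ∀ a ∈ Ab B hB, u * a * u⁻¹ ∈ Ab B hB := fun a ha => (mem_normalizer_iff.1 hu a).1 ha
  let F : ↥(Ab B hB) →* ↥(Ab B hB) := MonoidHom.mk' (fun a => ⟨a * (u * a * u⁻¹), mul_mem a.2 (hmem a a.2)⟩)
    fun a b => Subtype.ext (by
      show (a : G) * b * (u * ((a : G) * b) * u⁻¹) = (a : G) * (u * a * u⁻¹) * ((b : G) * (u * b * u⁻¹))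
      calc (a : G) * b * (u * ((a : G) * b) * u⁻¹) = (a : G) * ((b : G) * (u * a * u⁻¹)) * (u * b * u⁻¹) := by group
        _ = (a : G) * ((u * a * u⁻¹) * b) * (u * b * u⁻¹) := by rw [Ab_comm hB b.2 (hmem a a.2)]
        _ = _ := by group)
  have hsq : ∀ a ∈ Ab B hB, a * a = 1 := fun a ha => by
    obtain ⟨m, -, rfl⟩ := mem_Ab.1 ha
    exact ev_sq (invList_gens B hB) m
  have hfix : ∀ x ∈ F.ker, u * (x : G) = x * u := by
    intro x hx
    have h : (x : G) * (u * x * u⁻¹) = 1 := congrArg Subtype.val hx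
    have h' : u * x * u⁻¹ = (x : G) := by
      rw [← one_mul (u * (x : G) * u⁻¹), ← hsq x x.2, mul_assoc, h, mul_one]
    exact mul_inv_eq_iff_eq_mul.1 h'
  have hle : F.range ≤ F.ker := by
    rintro _ ⟨a, rfl⟩
    refine Subtype.ext ?_
    show (a : G) * (u * a * u⁻¹) * (u * ((a : G) * (u * a * u⁻¹)) * u⁻¹) = 1
    rw [show u * ((a : G) * (u * a * u⁻¹)) * u⁻¹ = u * a * u⁻¹ * (u * u * a * (u * u)⁻¹) by group, hu2,
      inv_one, mul_one, one_mul, ← mul_assoc, mul_assoc (a : G), hsq _ (hmem a a.2), mul_one, hsq a a.2]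
  have hprod : Nat.card F.range * Nat.card F.ker = 2048 := by
    rw [← Subgroup.index_ker, mul_comm, Subgroup.card_mul_index, card_Ab hB]; norm_num
  have hge : Nat.card F.range ≤ Nat.card F.ker := Subgroup.card_le_of_le hle
  obtain ⟨k, hk⟩ : ∃ k, Nat.card F.ker = 2 ^ k := by
    obtain ⟨k, -, hk⟩ := (Nat.dvd_prime_pow Nat.prime_two).1
      (show Nat.card F.ker ∣ 2 ^ 11 from card_Ab hB ▸ Subgroup.card_subgroup_dvd_card _)
    exact ⟨k, hk⟩
  have h6 : 6 ≤ k := by
    by_contra h6
    have h5 : (2 : ℕ) ^ k ≤ 2 ^ 5 := Nat.pow_le_pow_right (by norm_num) (by omega)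
    nlinarith
  have h64 : 64 ≤ Nat.card F.ker := hk ▸ (Nat.pow_le_pow_right (by norm_num) h6 : 2 ^ 6 ≤ 2 ^ k)
  refine h64.trans (Nat.card_le_card_of_injective
    (fun x => (⟨(x.1 : G), x.1.2, mem_centralizer_singleton_iff.2 (hfix x.1 x.2).symm⟩ :
      ↥(Ab B hB ⊓ centralizer ({u} : Set G)))) fun a b e => Subtype.ext (Subtype.ext (congrArg Subtype.val e :))) 

theorem rep2A_masks : 128 ≤ ((List.range 2048).filter fun m => imgB CfsgLib.Golay.Cert.rep2A m m).length := by
  decide +kernel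

/-- An involution with fixed points centralises at least 128 elements of the subgroup. -/
theorem Act.bigFix (T : Act B hB θ) (n : ↥(normalizer (Ab B hB : Set G))) (h2 : θ n * θ n = 1) (h1 : θ n ≠ 1)
    (hp : ∃ p, ((θ n : Cfsg.M24) : Equiv.Perm Cfsg.GolayPt) p = p) :
    128 ≤ Nat.card ↥(Ab B hB ⊓ centralizer ({(n : G)} : Set G)) := by
  classical
  obtain ⟨k, hk⟩ := CfsgLib.Golay.Cert.two_cases (g := θ n) (orderOf_eq_prime (by rw [pow_two, h2]) h1)
  have hk' : toList ((k * θ n * k⁻¹ : Cfsg.M24) : Equiv.Perm Cfsg.GolayPt) = CfsgLib.Golay.Cert.rep2A := by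
    rcases hk with h | h
    · exact h.1
    · obtain ⟨p, hp⟩ := hp
      exact absurd h.2 (Finset.card_ne_zero.2 ⟨p, by simp [CfsgLib.Golay.Cert.fixedPts, hp]⟩)
  obtain ⟨g, rfl⟩ := T.surj k
  rw [← map_inv, ← map_mul, ← map_mul] at hk'
  let F := ((List.range 2048).filter fun m => imgB CfsgLib.Golay.Cert.rep2A m m).toFinset
  have hF : ∀ m : F, (m : ℕ) < 2048 ∧ imgB CfsgLib.Golay.Cert.rep2A m.1 m.1 = true := by
    rintro ⟨m, hm⟩
    simpa [F] using hm
  refine (rep2A_masks.trans (le_of_eq ?_)).trans (Nat.card_le_card_of_injective (α := F)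
    (fun m => ⟨(g : G)⁻¹ * phi B m.1 * g, ?_, ?_⟩) fun a b e => ?_)
  · rw [Nat.card_eq_fintype_card, Fintype.card_coe,
      List.toFinset_card_of_nodup (List.Nodup.filter _ List.nodup_range)]
  · have h := (mem_normalizer_iff.1 (inv_mem g.2) _).1 (phi_mem hB m.1)
    rwa [inv_inv] at h
  · have he := T.conj_eq (g * n * g⁻¹) (hF m).1 (hF m).1 (Co1Loc.smul_oM hk' (hF m).1 (hF m).2)
    have h' : (g : G) * n * (g : G)⁻¹ * phi B m.1 = phi B m.1 * ((g : G) * n * (g : G)⁻¹) :=
      mul_inv_eq_iff_eq_mul.1 he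
    refine mem_centralizer_singleton_iff.2 ?_
    calc (g : G)⁻¹ * phi B m.1 * g * n = (g : G)⁻¹ * (phi B m.1 * ((g : G) * n * (g : G)⁻¹)) * g := by group
      _ = (g : G)⁻¹ * ((g : G) * n * (g : G)⁻¹ * phi B m.1) * g := by rw [h']
      _ = n * ((g : G)⁻¹ * phi B m.1 * g) := by group
  · exact Subtype.ext (phi_inj hB (hF a).1 (hF b).1 (mul_left_cancel (mul_right_cancel (congrArg Subtype.val e :))))

end CfsgLib.Co1Loc
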