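import Cfsg.Agent.Co1Loc.Pure

/-!
An element of the centraliser of an involution of the elementary subgroup outside the class of the central
involution that moves a conjugate of the central involution into the normaliser lies in the normaliser.
-/

set_option autoImplicit false
set_option maxRecDepth 100000
set_option synthInstance.maxSize 4096
set_option linter.style.haveILetI false
set_option linter.unusedSectionVars false

namespace CfsgLib.Co1Loc

open CfsgLib CfsgLib.Quad CfsgLib.Co1Invol CfsgLib.Co1Golay Subgroup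
open scoped Pointwise

variable {G : Type*} [Group G] [Finite G] {z : G} {D : Dat z} {B : Base D} {hB : Good B}
  (St : Pr B w2 v2) (Su : Pr B x1 x2)

include St Su

/-- A conjugate of the central involution inside the subgroup is one by the normaliser. -/
theorem z_move {v : G} (hv : v ∈ Ab B hB) (hzv : IsConj z v) :
    ∃ m ∈ normalizer (Ab B hB : Set G), m * z * m⁻¹ = v := by
  obtain ⟨k, hk, rfl⟩ := mem_Ab.1 hv
  have hk0 : k ≠ 0 := fun e => by
    rw [e, show phi B 0 = 1 from ev_zero _] at hzv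
    exact D.pre.gen.ne_one (isConj_one_left.1 hzv)
  rcases classify St Su hB hk hk0 with h | h
  · exact h.2
  · exact absurd hzv h.2

/-- The centralisers of two suitable elements meet inside the normaliser. -/
theorem local_conj {e v : G} (he : e ∈ Ab B hB) (he1 : e ≠ 1) (hez : ¬ IsConj z e) (hv : v ∈ Ab B hB)
    (hzv : IsConj z v) : centralizer ({e} : Set G) ⊓ centralizer ({v} : Set G) ≤ normalizer (Ab B hB : Set G) := by
  obtain ⟨m, hm, rfl⟩ := z_move St Su hv hzv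
  intro x hx
  have hxe := mem_centralizer_singleton_iff.1 (Subgroup.mem_inf.1 hx).1
  have hxv := mem_centralizer_singleton_iff.1 (Subgroup.mem_inf.1 hx).2
  have he' : m⁻¹ * e * m ∈ Ab B hB := by
    have h := (mem_normalizer_iff.1 (inv_mem hm) e).1 he
    rwa [inv_inv] at h
  have h1 : m⁻¹ * x * m ∈ normalizer (Ab B hB : Set G) := by
    refine local_step St Su hB he' (fun e' => he1 ?_) (fun hz => hez ?_)
      (mem_centralizer_singleton_iff.2 ?_) ?_
    · rw [show e = m * (m⁻¹ * e * m) * m⁻¹ by group, e']; group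
    · rw [show e = m * (m⁻¹ * e * m) * m⁻¹ by group, conj_z_iff]; exact hz
    · calc m⁻¹ * x * m * z = m⁻¹ * (x * (m * z * m⁻¹)) * m := by group
        _ = m⁻¹ * (m * z * m⁻¹ * x) * m := by rw [hxv]
        _ = z * (m⁻¹ * x * m) := by group
    · calc m⁻¹ * x * m * (m⁻¹ * e * m) = m⁻¹ * (x * e) * m := by group
        _ = m⁻¹ * (e * x) * m := by rw [hxe]
        _ = m⁻¹ * e * m * (m⁻¹ * x * m) := by group
  rw [show x = m * (m⁻¹ * x * m) * m⁻¹ by group]
  exact mul_mem (mul_mem hm h1) (inv_mem hm)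

omit St Su

/-- The meet of the subgroup with a conjugate. -/
noncomputable def meetS (B : Base D) (hB : Good B) (g : G) : Subgroup G := Ab B hB ⊓ cj g (Ab B hB)

/-- The part of the subgroup normalising a conjugate. -/
noncomputable def normS (B : Base D) (hB : Good B) (g : G) : Subgroup G := Ab B hB ⊓ cj g (normalizer (Ab B hB : Set G))

theorem card_meetS_inv (g : G) : Nat.card (meetS B hB g⁻¹) = Nat.card (meetS B hB g) := by
  rw [← card_cj g (meetS B hB g⁻¹),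
    show cj g (meetS B hB g⁻¹) = meetS B hB g from Subgroup.ext fun x => ?_]
  simp only [mem_cj, meetS, Subgroup.mem_inf, inv_inv]
  constructor
  · rintro ⟨h1, h2⟩
    exact ⟨by rwa [show g * (g⁻¹ * x * g) * g⁻¹ = x by group] at h2, h1⟩
  · rintro ⟨h1, h2⟩
    exact ⟨h2, by rwa [show g * (g⁻¹ * x * g) * g⁻¹ = x by group]⟩

include St Su

/-- The meet of the subgroup with a moved conjugate is free of conjugates of the central involution. -/
theorem meet_pure {c g : G} (hc : c ∈ Ab B hB) (hc1 : c ≠ 1) (hcz : ¬ IsConj z c) (hg : g * c = c * g)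
    (hgN : g ∉ normalizer (Ab B hB : Set G)) : Pure B hB (meetS B hB g) := by
  refine ⟨inf_le_left, fun x hx _ hxz => hgN ?_⟩
  obtain ⟨hxA, hxg⟩ := Subgroup.mem_inf.1 hx
  rw [mem_cj] at hxg
  have hW : ∀ a ∈ Ab B hB, g * a * g⁻¹ ∈ normalizer (Ab B hB : Set G) := by
    intro a ha
    refine local_conj St Su hc hc1 hcz hxA hxz ⟨mem_centralizer_singleton_iff.2 ?_,
      mem_centralizer_singleton_iff.2 ?_⟩
    · calc g * a * g⁻¹ * c = g * (a * (g⁻¹ * c * g)) * g⁻¹ := by group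
        _ = g * (a * c) * g⁻¹ := by rw [show g⁻¹ * c * g = c by rw [mul_assoc, ← hg, inv_mul_cancel_left]]
        _ = g * (c * a) * g⁻¹ := by rw [Ab_comm hB ha hc]
        _ = g * c * a * g⁻¹ := by group
        _ = c * (g * a * g⁻¹) := by rw [hg]; group
    · calc g * a * g⁻¹ * x = g * (a * (g⁻¹ * x * g)) * g⁻¹ := by group
        _ = g * (g⁻¹ * x * g * a) * g⁻¹ := by rw [Ab_comm hB ha hxg]
        _ = x * (g * a * g⁻¹) := by group
  obtain ⟨n, hn, hnx⟩ := z_move St Su hxA hxz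
  obtain ⟨m, hm, hmx⟩ := z_move St Su hxg
    (by rw [← conj_z_iff g, show g * (g⁻¹ * x * g) * g⁻¹ = x by group]; exact hxz)
  have hC : n⁻¹ * g * m ∈ centralizer ({z} : Set G) := by
    refine mem_centralizer_singleton_iff.2 (mul_inv_eq_iff_eq_mul.1 ?_)
    rw [show n⁻¹ * g * m * z * (n⁻¹ * g * m)⁻¹ = n⁻¹ * (g * (m * z * m⁻¹) * g⁻¹) * n by group, hmx, ← hnx]
    group
  have h' : n⁻¹ * g * m ∈ normalizer (Ab B hB : Set G) := by
    refine conj_le hB hC fun a ha => ?_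
    rw [show n⁻¹ * g * m * a * (n⁻¹ * g * m)⁻¹ = n⁻¹ * (g * (m * a * m⁻¹) * g⁻¹) * n by group]
    exact mul_mem (mul_mem (inv_mem hn) (hW _ ((mem_normalizer_iff.1 hm a).1 ha))) hn
  rw [show g = n * (n⁻¹ * g * m) * m⁻¹ by group]
  exact mul_mem (mul_mem hn h') (inv_mem hm)

/-- The lower bound. -/
theorem le_normS {c g v : G} (hc : c ∈ Ab B hB) (hc1 : c ≠ 1) (hcz : ¬ IsConj z c) (hg : g * c = c * g)
    (hv : v ∈ Ab B hB) (hzv : IsConj z v) :
    Ab B hB ⊓ centralizer ({g * v * g⁻¹} : Set G) ≤ normS B hB g := by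
  intro x hx
  obtain ⟨hxA, hxu⟩ := Subgroup.mem_inf.1 hx
  refine Subgroup.mem_inf.2 ⟨hxA, mem_cj.2 (local_conj St Su hc hc1 hcz hv hzv
    ⟨mem_centralizer_singleton_iff.2 ?_, mem_centralizer_singleton_iff.2 ?_⟩)⟩
  · calc g⁻¹ * x * g * c = g⁻¹ * x * (g * c) := by group
      _ = g⁻¹ * (x * c) * g := by rw [hg]; group
      _ = g⁻¹ * (c * x) * g := by rw [Ab_comm hB hxA hc]
      _ = g⁻¹ * c * g * (g⁻¹ * x * g) := by group
      _ = c * (g⁻¹ * x * g) := by rw [show g⁻¹ * c * g = c by rw [mul_assoc, ← hg, inv_mul_cancel_left]]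
  · calc g⁻¹ * x * g * v = g⁻¹ * (x * (g * v * g⁻¹)) * g := by group
      _ = g⁻¹ * (g * v * g⁻¹ * x) * g := by rw [mem_centralizer_singleton_iff.1 hxu]
      _ = v * (g⁻¹ * x * g) := by group

omit St Su

variable {θ : ↥(normalizer (Ab B hB : Set G)) →* ↥Cfsg.M24}

/-- The action of the part normalising a conjugate. -/
noncomputable def toM24 (θ : ↥(normalizer (Ab B hB : Set G)) →* ↥Cfsg.M24) (g : G) :
    ↥(normS B hB g) →* ↥Cfsg.M24 :=
  θ.comp (MonoidHom.mk' (fun x => (⟨g⁻¹ * x * g, mem_cj.1 (Subgroup.mem_inf.1 x.2).2⟩ :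
    ↥(normalizer (Ab B hB : Set G)))) fun x y => Subtype.ext (show g⁻¹ * ((x : G) * y) * g =
      g⁻¹ * x * g * (g⁻¹ * y * g) by group))

theorem ker_toM24 (T : Act B hB θ) (g : G) : Nat.card (toM24 θ g).ker = Nat.card (meetS B hB g) :=
  Nat.card_congr
    { toFun := fun x => ⟨x.1.1, Subgroup.mem_inf.2 ⟨(Subgroup.mem_inf.1 x.1.2).1, mem_cj.2 ((T.ker _).1 x.2)⟩⟩
      invFun := fun x => ⟨⟨x.1, Subgroup.mem_inf.2 ⟨(Subgroup.mem_inf.1 x.2).1,
        mem_cj.2 (le_normalizer (mem_cj.1 (Subgroup.mem_inf.1 x.2).2))⟩⟩,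
        (T.ker _).2 (mem_cj.1 (Subgroup.mem_inf.1 x.2).2)⟩
      left_inv := fun _ => rfl
      right_inv := fun _ => rfl }

/-- The order of the part normalising a conjugate. -/
theorem card_normS (T : Act B hB θ) (g : G) :
    Nat.card (normS B hB g) = Nat.card (meetS B hB g) * Nat.card (toM24 θ g).range := by
  rw [← ker_toM24 T g, ← Subgroup.index_ker, Subgroup.card_mul_index]

theorem range_sq (g : G) : ∀ y ∈ (toM24 θ g).range, y * y = 1 := by
  rintro _ ⟨x, rfl⟩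
  obtain ⟨m, -, hm⟩ := mem_Ab.1 (Subgroup.mem_inf.1 x.2).1
  rw [← map_mul, show x * x = 1 from Subtype.ext (by
    show (x : G) * x = 1
    rw [← hm]; exact ev_sq (invList_gens B hB) m), map_one]

/-- The image moved by the normaliser fixes the masks in the moved meet. -/
theorem range_fix (T : Act B hB θ) (g : G) (n : ↥(normalizer (Ab B hB : Set G))) {m : ℕ} (hm : m < 2048)
    (h : phi B m ∈ cj (n : G) (meetS B hB g⁻¹)) :
    ∀ y ∈ cj (θ n) (toM24 θ g).range, y • oM m = oM m := by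
  rintro _ ⟨_, ⟨x, rfl⟩, rfl⟩
  have hd := Subgroup.mem_inf.1 (mem_cj.1 h)
  rw [mem_cj, inv_inv] at hd
  obtain ⟨d, hdd⟩ : ∃ d, d = (n : G)⁻¹ * phi B m * n := ⟨_, rfl⟩
  rw [← hdd] at hd
  let k : ↥(normalizer (Ab B hB : Set G)) := ⟨g⁻¹ * x * g, mem_cj.1 (Subgroup.mem_inf.1 x.2).2⟩
  have hk : (k : G) * d = d * k := by
    show g⁻¹ * (x : G) * g * d = d * (g⁻¹ * x * g)
    calc g⁻¹ * (x : G) * g * d = g⁻¹ * ((x : G) * (g * d * g⁻¹)) * g := by group
      _ = g⁻¹ * (g * d * g⁻¹ * x) * g := by rw [Ab_comm hB (Subgroup.mem_inf.1 x.2).1 hd.2]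
      _ = d * (g⁻¹ * x * g) := by group
  show (θ n * θ k * (θ n)⁻¹) • oM m = oM m
  rw [← map_inv, ← map_mul, ← map_mul]
  refine T.fix _ hm ?_
  show (n : G) * k * (n : G)⁻¹ * phi B m = phi B m * ((n : G) * k * (n : G)⁻¹)
  calc (n : G) * k * (n : G)⁻¹ * phi B m = (n : G) * ((k : G) * d) * (n : G)⁻¹ := by rw [hdd]; group
    _ = (n : G) * (d * k) * (n : G)⁻¹ := by rw [hk]
    _ = phi B m * ((n : G) * k * (n : G)⁻¹) := by rw [hdd]; group

include St Su

/-- The bounds. -/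
theorem range_bound (T : Act B hB θ) {c g : G} (hcS : c ∈ meetS B hB g⁻¹) (hc1 : c ≠ 1)
    (hP : Pure B hB (meetS B hB g⁻¹)) (h64 : 64 ≤ Nat.card (normS B hB g)) :
    Nat.card (meetS B hB g) = 4 ∧ Nat.card (normS B hB g) = 64 ∧
      ∃ n : ↥(normalizer (Ab B hB : Set G)), phi B 40 ∈ cj (n : G) (meetS B hB g⁻¹) ∧
        phi B mTwo ∈ cj (n : G) (meetS B hB g⁻¹) ∧ cj (θ n) (toM24 θ g).range ≤ stabTwo ∧
        Nat.card (cj (θ n) (toM24 θ g).range) = 16 := by
  classical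
  have hcard := card_normS T g
  have hinv := card_meetS_inv (hB := hB) g
  have h8 := hP.card_le_eight St Su T
  rw [hinv] at h8
  obtain ⟨k, hk⟩ := two_pow_of_sq (E := meetS B hB g) fun x hx => by
    obtain ⟨m, -, rfl⟩ := mem_Ab.1 (Subgroup.mem_inf.1 hx).1
    exact ev_sq (invList_gens B hB) m
  have hsq : ∀ n : ↥(normalizer (Ab B hB : Set G)), ∀ y ∈ cj (θ n) (toM24 θ g).range, y * y = 1 := by
    rintro n _ ⟨y, hy, rfl⟩
    rw [← map_mul, range_sq g y hy, map_one]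
  have hone : Nat.card (toM24 θ g).range ≤ 16 := by
    obtain ⟨n₁, hn₁, he⟩ := orbit_dod St Su hB (hP.1 hcS) hc1 (hP.2 c hcS hc1)
    rw [← card_cj (θ ⟨n₁, hn₁⟩) (toM24 θ g).range]
    refine elem_stabOne (fun y hy => ?_) (hsq _)
    exact range_fix T g ⟨n₁, hn₁⟩ (m := 40) (by norm_num) (he ▸ conj_mem_cj hcS) y hy
  have h4 : 4 ≤ Nat.card (meetS B hB g) := by
    by_contra h4
    have : Nat.card (meetS B hB g) * Nat.card (toM24 θ g).range ≤ 3 * 16 := Nat.mul_le_mul (by omega) hone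
    omega
  obtain ⟨n, h40, h2⟩ := hP.normal_two St Su T hcS hc1 (by rw [hinv]; exact h4)
  have hle : cj (θ n) (toM24 θ g).range ≤ stabTwo := fun y hy =>
    Subgroup.mem_inf.2 ⟨range_fix T g n (m := 40) (by norm_num) h40 y hy,
      range_fix T g n forty_dod.2.2.2.1 h2 y hy⟩
  have hR := (elem_stabTwo hle (hsq n)).1
  rw [card_cj] at hR
  have h7 : Nat.card (meetS B hB g) ≠ 8 := fun h8' => by
    obtain ⟨t, ht, hts, htn⟩ := exists_third (S := cj (n : G) (meetS B hB g⁻¹)) (hP.conj n).1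
      (by rw [card_cj, hinv, h8'])
    have htT := (hP.conj n).third St Su h40 h2 ht hts htn
    have h := elem_stabThree htT ht hle (range_fix T g n ht hts) (hsq n)
    rw [card_cj] at h
    rw [hcard, h8'] at h64
    omega
  have hd : Nat.card (meetS B hB g) = 4 := by
    have : k ≤ 3 := by
      by_contra hk3
      have : (2 : ℕ) ^ 4 ≤ 2 ^ k := Nat.pow_le_pow_right (by norm_num) (by omega)
      omega
    interval_cases k <;> omega
  have he : Nat.card (normS B hB g) = 4 * Nat.card (toM24 θ g).range := by rw [hcard, hd]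
  exact ⟨hd, by omega, n, h40, h2, hle, by rw [card_cj]; omega⟩

/-- Closure. -/
theorem closure_mem (T : Act B hB θ) {c g v : G} (hc : c ∈ Ab B hB) (hc1 : c ≠ 1) (hcz : ¬ IsConj z c)
    (hg : g * c = c * g) (hv : v ∈ Ab B hB) (hzv : IsConj z v)
    (hu : g * v * g⁻¹ ∈ normalizer (Ab B hB : Set G)) : g ∈ normalizer (Ab B hB : Set G) := by
  classical
  by_contra hgN
  have hgi : g⁻¹ * c = c * g⁻¹ := ((show Commute g c from hg).inv_left).eq
  have hginN : g⁻¹ ∉ normalizer (Ab B hB : Set G) := fun h => hgN (by simpa using inv_mem h)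
  have hP := meet_pure St Su hc hc1 hcz hg hgN
  have hPi := meet_pure St Su hc hc1 hcz hgi hginN
  have hcS : ∀ {k : G}, k * c = c * k → c ∈ meetS B hB k := fun {k} hk =>
    Subgroup.mem_inf.2 ⟨hc, mem_cj.2 (by rwa [mul_assoc, ← hk, inv_mul_cancel_left])⟩
  have hsq : ∀ a ∈ Ab B hB, a * a = 1 := fun a ha => by
    obtain ⟨m, -, rfl⟩ := mem_Ab.1 ha
    exact ev_sq (invList_gens B hB) m
  have hB0 := sixtyFour_le hB hu (by
    rw [show g * v * g⁻¹ * (g * v * g⁻¹) = g * (v * v) * g⁻¹ by group, hsq v hv]; group)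
  have hle := le_normS St Su hc hc1 hcz hg hv hzv
  have h64 : 64 ≤ Nat.card (normS B hB g) := hB0.trans (Subgroup.card_le_of_le hle)
  obtain ⟨y, hy, hzy⟩ : ∃ y ∈ Ab B hB ⊓ centralizer ({g * v * g⁻¹} : Set G), IsConj z y := by
    by_contra hno
    push Not at hno
    have := Pure.card_le_eight St Su T (S := Ab B hB ⊓ centralizer ({g * v * g⁻¹} : Set G))
      ⟨inf_le_left, fun x hx _ => hno x hx⟩
    omega
  have hyA := (Subgroup.mem_inf.1 hy).1
  have hyN : g⁻¹ * y * g⁻¹⁻¹ ∈ normalizer (Ab B hB : Set G) := by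
    rw [inv_inv]; exact mem_cj.1 (Subgroup.mem_inf.1 (hle hy)).2
  have h64' : 64 ≤ Nat.card (normS B hB g⁻¹) :=
    (sixtyFour_le hB hyN (by
      rw [show g⁻¹ * y * g⁻¹⁻¹ * (g⁻¹ * y * g⁻¹⁻¹) = g⁻¹ * (y * y) * g⁻¹⁻¹ by group, hsq y hyA]; group)).trans
      (Subgroup.card_le_of_le (le_normS St Su hc hc1 hcz hgi hyA hzy))
  obtain ⟨-, hN64, -⟩ := range_bound St Su T (g := g) (hcS hgi) hc1 hPi h64
  obtain ⟨hd, -, n, -, -, hst, h16⟩ := range_bound St Su T (g := g⁻¹) (by rw [inv_inv]; exact hcS hg) hc1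
    (by rw [inv_inv]; exact hP) h64'
  obtain ⟨E0, hE0le, hE04, hfix⟩ := (elem_stabTwo hst (by
    rintro _ ⟨w, hw, rfl⟩
    rw [← map_mul, range_sq g⁻¹ w hw, map_one])).2 h16
  set ψ := toM24 θ g⁻¹ with hψ
  set K := cj (θ n)⁻¹ E0 with hK
  have hKle : K ≤ ψ.range := fun w hw => by
    rw [hK, mem_cj, inv_inv] at hw
    have h := mem_cj.1 (hE0le hw)
    rwa [show (θ n)⁻¹ * (θ n * w * (θ n)⁻¹) * θ n = w by group] at h
  have hcardP : Nat.card (K.comap ψ) = Nat.card K * Nat.card ψ.ker := by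
    let r : ↥(K.comap ψ) →* ↥K := MonoidHom.mk' (fun a => ⟨ψ a.1, a.2⟩) fun a b => Subtype.ext (map_mul ψ a.1 b.1)
    have hr : Function.Surjective r := fun ⟨w, hw⟩ => by
      obtain ⟨a, rfl⟩ := hKle hw
      exact ⟨⟨a, hw⟩, rfl⟩
    rw [← Subgroup.card_mul_index r.ker, Subgroup.index_ker, MonoidHom.range_eq_top.2 hr, Subgroup.card_top,
      mul_comm]
    congr 1
    exact Nat.card_congr
      { toFun := fun a => ⟨a.1.1, congrArg Subtype.val (show r a.1 = 1 from a.2)⟩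
        invFun := fun a => ⟨⟨a.1, show ψ a.1 ∈ K by rw [show ψ a.1 = 1 from a.2]; exact one_mem _⟩,
          Subtype.ext (show ψ a.1 = 1 from a.2)⟩
        left_inv := fun _ => rfl
        right_inv := fun _ => rfl }
  obtain ⟨a, ha, haz, ha1⟩ : ∃ a : ↥(normS B hB g⁻¹), a ∈ K.comap ψ ∧ IsConj z (a : G) ∧ (a : G) ≠ 1 := by
    by_contra hno
    push Not at hno
    have h := Pure.card_le_eight St Su T (S := (K.comap ψ).map (normS B hB g⁻¹).subtype)
      ⟨by rintro _ ⟨x, -, rfl⟩; exact (Subgroup.mem_inf.1 x.2).1,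
       by rintro _ ⟨x, hx, rfl⟩ h1 hzx; exact h1 (hno x hx hzx)⟩
    rw [Subgroup.card_map_of_injective (Subgroup.subtype_injective _), hcardP, hψ, ker_toM24 T, hd, hK,
      card_cj] at h
    omega
  obtain ⟨haA, hag⟩ := Subgroup.mem_inf.1 a.2
  rw [mem_cj] at hag
  have hψ1 : ψ a ≠ 1 := fun e => hPi.2 (a : G) (Subgroup.mem_inf.2 ⟨haA, mem_cj.2 ((T.ker _).1 e)⟩) ha1 haz
  have hψ2 : ψ a * ψ a = 1 := range_sq g⁻¹ _ ⟨a, rfl⟩
  have hfx : ∃ p, ((ψ a : Cfsg.M24) : Equiv.Perm Cfsg.GolayPt) p = p := by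
    have hw : ψ a ∈ K := ha
    rw [hK, mem_cj, inv_inv] at hw
    obtain ⟨p, hp⟩ := hfix _ hw fun e => hψ1 (by
      rw [show ψ a = (θ n)⁻¹ * (θ n * ψ a * (θ n)⁻¹) * θ n by group, e]; group)
    refine ⟨((θ n)⁻¹ : Cfsg.M24).1 p, ?_⟩
    have he : ψ a = (θ n)⁻¹ * (θ n * ψ a * (θ n)⁻¹) * θ n := by group
    conv_lhs => rw [he]
    simp only [Subgroup.coe_mul, Subgroup.coe_inv, Equiv.Perm.mul_apply, Equiv.Perm.coe_inv,
      Equiv.apply_symm_apply] at hp ⊢
    rw [hp]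
  have h128 : 128 ≤ Nat.card ↥(Ab B hB ⊓ centralizer ({g⁻¹⁻¹ * (a : G) * g⁻¹} : Set G)) := T.bigFix ⟨g⁻¹⁻¹ * a * g⁻¹, hag⟩ hψ2 hψ1 hfx
  have hsub : Ab B hB ⊓ centralizer ({g⁻¹⁻¹ * (a : G) * g⁻¹} : Set G) ≤ normS B hB g := by
    rw [inv_inv]
    exact le_normS St Su hc hc1 hcz hg haA haz
  have := Subgroup.card_le_of_le hsub
  omega

end CfsgLib.Co1Loc
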