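import Cfsg.Agent.Co1Loc.NineFacts

/-!
The centraliser and normaliser of an element of order three inverted by an involution, when the centraliser
modulo the element is alternating of degree nine and contains an alternating group of degree five centralised
by the involution.
-/

set_option autoImplicit false
set_option maxRecDepth 100000
set_option linter.style.haveILetI false
set_option linter.unusedSectionVars false

namespace CfsgLib.Co1Loc.NineW

open Equiv Subgroup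

variable {G : Type*} [Group G] [Finite G]

/-- The given elements. -/
structure Input (w r a u x b : G) (K : Subgroup G) : Prop where
  ordw : orderOf w = 3
  u2 : u * u = 1
  inv : u * w * u⁻¹ = w⁻¹
  r2 : r * r = 1
  r_ne : r ≠ 1
  a3 : a * a * a = 1
  a_out : a ∉ zpowers w
  b5 : b ^ 5 = 1
  b_ne : b ≠ 1
  x2 : x * x = 1
  x_ne : x ≠ 1
  bK : b ∈ K
  xK : x ∈ K
  iso : Nonempty (↥K ≃* ↥(alternatingGroup (Fin 5)))
  K_w : ∀ k ∈ K, k * w = w * k
  K_r : ∀ k ∈ K, k * r = r * k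
  K_a : ∀ k ∈ K, k * a = a * k
  r_w : r * w = w * r
  a_w : a * w = w * a
  u_r : u * r = r * u
  u_a : u * a = a * u
  u_K : ∀ k ∈ K, u * k = k * u

namespace Input

variable {w r a u x b : G} {K : Subgroup G} (I : Input w r a u x b K)
include I

theorem w3 : w ^ 3 = 1 := I.ordw ▸ pow_orderOf_eq_one w

theorem w_ne : w ≠ 1 := fun e => by
  have h := I.ordw
  rw [e, orderOf_one] at h
  omega

theorem out_of_pow {g : G} {n : ℕ} (hn : g ^ n = 1) (hco : n.Coprime 3) (hg : g ≠ 1) : g ∉ zpowers w := by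
  rintro ⟨i, rfl⟩
  refine hg (orderOf_eq_one_iff.1 (Nat.dvd_one.1 ?_))
  have h2 : orderOf ((fun x : ℤ => w ^ x) i) ∣ 3 := orderOf_dvd_of_pow_eq_one (by
    show (w ^ i) ^ 3 = 1
    rw [← zpow_natCast, ← _root_.zpow_mul, mul_comm, _root_.zpow_mul, zpow_natCast, I.w3, _root_.one_zpow])
  exact (Nat.dvd_gcd (orderOf_dvd_of_pow_eq_one hn) h2).trans hco.dvd

theorem K_meet {k : G} (hk : k ∈ K) (hw : k ∈ zpowers w) : k = 1 := by
  obtain ⟨e⟩ := I.iso
  have hc : ∀ q, e ⟨k, hk⟩ * q = q * e ⟨k, hk⟩ := by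
    intro q
    obtain ⟨y, rfl⟩ := e.surjective q
    rw [← map_mul, ← map_mul]
    congr 1
    apply Subtype.ext
    obtain ⟨i, hi⟩ := hw
    show k * (y : G) = (y : G) * k
    rw [← show w ^ i = k from hi]
    exact ((show Commute (y : G) w from I.K_w y y.2).zpow_right i).eq.symm
  have := alt_five_centre _ hc
  exact congrArg Subtype.val (e.injective (this.trans (map_one e).symm))

theorem conj_u {c : G} (hc : c ∈ centralizer ({w} : Set G)) : u * c * u⁻¹ ∈ centralizer ({w} : Set G) := by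
  have h := mem_centralizer_singleton_iff.1 hc
  have hc' : Commute (u * c * u⁻¹) (u * w⁻¹ * u⁻¹) := (show Commute c w from h).inv_right.map (MulAut.conj u)
  have e : u * w⁻¹ * u⁻¹ = w := by
    calc u * w⁻¹ * u⁻¹ = (u * w * u⁻¹)⁻¹ := by group
      _ = w := by rw [I.inv, inv_inv]
  rw [e] at hc'
  exact mem_centralizer_singleton_iff.2 hc'.eq

theorem zpow_conj (n : ℤ) : u * w ^ n * u⁻¹ = w ^ (-n) := by
  rw [← MulAut.conj_apply u, map_zpow, MulAut.conj_apply, I.inv, inv_zpow, ← _root_.zpow_neg]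

theorem main {φ : ↥(centralizer ({w} : Set G)) →* ↥(alternatingGroup (Fin 9))} (hsurj : Function.Surjective φ)
    (hker : ∀ c, φ c = 1 ↔ (c : G) ∈ zpowers w) :
    ∃ f : ↥(alternatingGroup (Fin 9)) →* G, Function.Injective f ∧ (∀ p, f p * w = w * f p) ∧
      (∀ p, u * f p = f p * u) ∧
      (∀ p, f p ∈ zpowers w → p = 1) ∧ (∀ g : G, g * w = w * g → ∃ p, ∃ i : ℕ, g = f p * w ^ i) ∧
      (∀ k ∈ K, ∃ p : ↥(alternatingGroup (Fin 9)),
        f p = k ∧ ∀ i : Fin 9, 5 ≤ i → (p : Equiv.Perm (Fin 9)) i = i) ∧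
      (∃ p : ↥(alternatingGroup (Fin 9)), f p = a ∧ ∀ i : Fin 9, i < 5 → (p : Equiv.Perm (Fin 9)) i = i) ∧
      (∃ p : ↥(alternatingGroup (Fin 9)), f p = r ∧ ∀ i : Fin 9, i < 5 → (p : Equiv.Perm (Fin 9)) i = i) ∧
      (∀ p : ↥(alternatingGroup (Fin 9)), p * p = 1 → (p : Equiv.Perm (Fin 9)).support.card = 4 →
        IsConj r (f p)) ∧
      ∀ p : ↥(alternatingGroup (Fin 9)), p * p = 1 → (p : Equiv.Perm (Fin 9)).support.card = 8 →
        IsConj (r * x) (f p) := by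
  classical
  let C : Subgroup G := centralizer ({w} : Set G)
  have memC : ∀ {g : G}, g * w = w * g → g ∈ C := fun h => mem_centralizer_singleton_iff.2 h
  let bC : C := ⟨b, memC (I.K_w b I.bK)⟩
  let rC : C := ⟨r, memC I.r_w⟩
  let aC : C := ⟨a, memC I.a_w⟩
  have hval : ∀ {c d : ↥(alternatingGroup (Fin 9))}, (c : Equiv.Perm (Fin 9)) = d → c = d := fun h => Subtype.ext h
  -- normal form of the five-cycle
  obtain ⟨π, hπ⟩ := conj_cyc5 (p := (φ bC : Equiv.Perm (Fin 9))) (by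
      rw [← SubgroupClass.coe_pow, ← map_pow, show bC ^ 5 = 1 from Subtype.ext I.b5, map_one]; rfl)
    (fun e => I.out_of_pow I.b5 (by norm_num) I.b_ne ((hker bC).1 (hval e)))
  let φ₁ : C →* ↥(alternatingGroup (Fin 9)) := (MulAut.conjNormal π).toMonoidHom.comp φ
  have hsurj₁ : Function.Surjective φ₁ := fun p => by
    obtain ⟨c, hc⟩ := hsurj ((MulAut.conjNormal π).symm p)
    exact ⟨c, by simp [φ₁, hc]⟩
  have hker₁ : ∀ c, φ₁ c = 1 ↔ (c : G) ∈ zpowers w := fun c => by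
    rw [← hker]
    exact MulEquiv.map_eq_one_iff (MulAut.conjNormal π : ↥(alternatingGroup (Fin 9)) ≃* _)
  have hb : (φ₁ bC : Equiv.Perm (Fin 9)) = cyc5 := by
    show (MulAut.conjNormal π (φ bC) : Equiv.Perm (Fin 9)) = cyc5
    rw [MulAut.conjNormal_apply]
    exact hπ
  have vmul : ∀ c d : C, (φ₁ (c * d) : Equiv.Perm (Fin 9)) = φ₁ c * φ₁ d := fun c d => by
    rw [map_mul]; rfl
  have vcomm : ∀ c d : C, (c : G) * d = d * c →
      (φ₁ c : Equiv.Perm (Fin 9)) * φ₁ d = φ₁ d * φ₁ c := fun c d h => by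
    rw [← vmul, ← vmul, show c * d = d * c from Subtype.ext h]
  -- the last four points
  obtain ⟨ρ, hρ⟩ := comm_cyc5_small (q := (φ₁ rC : Equiv.Perm (Fin 9))) (hb ▸ vcomm rC bC (I.K_r b I.bK).symm)
    (Or.inl (by rw [← vmul, show rC * rC = 1 from Subtype.ext I.r2, map_one]; rfl))
  obtain ⟨α, hα⟩ := comm_cyc5_small (q := (φ₁ aC : Equiv.Perm (Fin 9))) (hb ▸ vcomm aC bC (I.K_a b I.bK).symm)
    (Or.inr (by rw [← vmul, ← vmul, show aC * aC * aC = 1 from Subtype.ext I.a3, map_one]; rfl))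
  have hsign : ∀ c : C, Equiv.Perm.sign (φ₁ c : Equiv.Perm (Fin 9)) = 1 := fun c =>
    Equiv.Perm.mem_alternatingGroup.1 (φ₁ c).2
  have hρs : Equiv.Perm.sign ρ = 1 := by simpa [hρ, sign_j54] using hsign rC
  have hρ2 : ρ * ρ = 1 := congrArg Prod.snd (j54_inj (a₁ := (1, ρ) * (1, ρ)) (a₂ := 1) (by
    rw [map_mul, ← hρ, ← vmul, show rC * rC = 1 from Subtype.ext I.r2, map_one, map_one]; rfl))
  have hρ1 : ρ ≠ 1 := fun e => by
    refine I.out_of_pow (n := 2) (by rw [pow_two, I.r2]) (by norm_num) I.r_ne ((hker₁ rC).1 (hval ?_))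
    rw [hρ, e]; exact map_one j54
  have hα3 : α * α * α = 1 := congrArg Prod.snd (j54_inj (a₁ := (1, α) * (1, α) * (1, α)) (a₂ := 1) (by
    rw [map_mul, map_mul, ← hα, ← vmul, ← vmul, show aC * aC * aC = 1 from Subtype.ext I.a3, map_one, map_one]
    rfl))
  have hα1 : α ≠ 1 := fun e => I.a_out ((hker₁ aC).1 (hval (by rw [hα, e]; exact map_one j54)))
  -- the first five points
  let kC : K → C := fun k => ⟨k, memC (I.K_w k k.2)⟩
  have hK : ∀ k : K, ∃ σ, (φ₁ (kC k) : Equiv.Perm (Fin 9)) = j54 (σ, 1) := fun k =>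
    comm_four hρ2 hρ1 hρs hα3 hα1 (hρ ▸ vcomm (kC k) rC (I.K_r k k.2)) (hα ▸ vcomm (kC k) aC (I.K_a k k.2))
  choose σK hσK using hK
  have hσs : ∀ k, Equiv.Perm.sign (σK k) = 1 := fun k => by simpa [hσK, sign_j54] using hsign (kC k)
  let κ : K →* ↥(alternatingGroup (Fin 5)) :=
    MonoidHom.mk' (fun k => ⟨σK k, Equiv.Perm.mem_alternatingGroup.2 (hσs k)⟩) fun k l => Subtype.ext (by
      show σK (k * l) = σK k * σK l
      have h := vmul (kC k) (kC l)
      rw [show kC k * kC l = kC (k * l) from Subtype.ext rfl, hσK, hσK, hσK, ← map_mul] at h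
      exact congrArg Prod.fst (j54_inj h))
  have hκinj : Function.Injective κ := by
    refine (injective_iff_map_eq_one κ).2 fun k hk => Subtype.ext (I.K_meet k.2 ((hker₁ (kC k)).1 (hval ?_)))
    rw [hσK, show σK k = 1 from congrArg Subtype.val hk]
    exact map_one j54
  obtain ⟨e⟩ := I.iso
  have hκsurj : Function.Surjective κ :=
    (hκinj.bijective_of_nat_card_le (Nat.card_congr e.toEquiv).ge).2
  -- conjugation by the involution
  let χ : C →* ↥(alternatingGroup (Fin 9)) :=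
    φ₁.comp (MonoidHom.mk' (fun c => (⟨u * c * u⁻¹, I.conj_u c.2⟩ : C)) fun c d => Subtype.ext (by
      show u * ((c : G) * d) * u⁻¹ = u * c * u⁻¹ * (u * d * u⁻¹)
      group))
  have hχker : ∀ c, φ₁ c = 1 → χ c = 1 := fun c hc => by
    obtain ⟨n, hn⟩ := (hker₁ c).1 hc
    refine (hker₁ _).2 ?_
    show u * (c : G) * u⁻¹ ∈ zpowers w
    rw [show (c : G) = w ^ n from hn.symm, I.zpow_conj]
    exact ⟨-n, rfl⟩
  let L : Subgroup C := MonoidHom.eqLocus χ φ₁
  have memL : ∀ c : C, u * (c : G) = (c : G) * u → c ∈ L := fun c h => by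
    show φ₁ _ = φ₁ c
    congr 1
    exact Subtype.ext (show u * (c : G) * u⁻¹ = c by rw [h, mul_inv_cancel_right])
  let H : Subgroup (Equiv.Perm (Fin 9)) := (L.map φ₁).map (alternatingGroup (Fin 9)).subtype
  have memH : ∀ c : C, c ∈ L → (φ₁ c : Equiv.Perm (Fin 9)) ∈ H := fun c hc => ⟨φ₁ c, ⟨c, hc, rfl⟩, rfl⟩
  have h5 : ∀ σ : Equiv.Perm (Fin 5), Equiv.Perm.sign σ = 1 →
      ∃ c ∈ L, (φ₁ c : Equiv.Perm (Fin 9)) = j54 (σ, 1) := fun σ hσ => by
    obtain ⟨k, hk⟩ := hκsurj ⟨σ, Equiv.Perm.mem_alternatingGroup.2 hσ⟩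
    exact ⟨kC k, memL _ (I.u_K k k.2), by rw [hσK, show σK k = σ from congrArg Subtype.val hk]⟩
  have h4 : ∀ τ : Equiv.Perm (Fin 4), Equiv.Perm.sign τ = 1 → j54 (1, τ) ∈ H := fun τ hτ =>
    four_closure hρ2 hρ1 hρs hα3 hα1 (hρ ▸ memH rC (memL _ I.u_r)) (hα ▸ memH aC (memL _ I.u_a)) hτ
  have h54 : ∀ p : Equiv.Perm (Fin 5) × Equiv.Perm (Fin 4), Equiv.Perm.sign p.1 = 1 →
      Equiv.Perm.sign p.2 = 1 → ∃ c ∈ L, (φ₁ c : Equiv.Perm (Fin 9)) = j54 p := by
    rintro ⟨σ, τ⟩ hσ hτ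
    obtain ⟨c, hc, hce⟩ := h5 σ hσ
    obtain ⟨_, ⟨d, hd, rfl⟩, hde⟩ := h4 τ hτ
    refine ⟨c * d, mul_mem hc hd, ?_⟩
    rw [vmul, hce, show (φ₁ d : Equiv.Perm (Fin 9)) = j54 (1, τ) from hde, ← map_mul]
    simp
  obtain ⟨cg, hcg⟩ := hsurj₁ ⟨g45, Equiv.Perm.mem_alternatingGroup.2 g45_facts.1⟩
  have hg : (φ₁ cg : Equiv.Perm (Fin 9)) = g45 := congrArg Subtype.val hcg
  have hrel : ∀ c : C, (φ₁ c : Equiv.Perm (Fin 9)) = 1 → (χ c : Equiv.Perm (Fin 9)) = 1 := fun c h => by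
    rw [hχker c (hval h)]; rfl
  have hy : (χ cg : Equiv.Perm (Fin 9)) = g45 := by
    have hL : ∀ c ∈ L, (χ c : Equiv.Perm (Fin 9)) = φ₁ c := fun c hc => congrArg Subtype.val hc
    have vχ : ∀ c d : C, (χ (c * d) : Equiv.Perm (Fin 9)) = χ c * χ d := fun c d => by rw [map_mul]; rfl
    have hcyc : ∀ {σ : Equiv.Perm (Fin 5)}, Equiv.Perm.sign σ = 1 → g45 * j54 (σ, 1) = j54 (σ, 1) * g45 →
        (χ cg : Equiv.Perm (Fin 9)) * j54 (σ, 1) = j54 (σ, 1) * χ cg := by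
      intro σ hσ hcm
      obtain ⟨c, hc, hce⟩ := h5 σ hσ
      have h := hrel (cg * c * cg⁻¹ * c⁻¹) (by
        rw [vmul, vmul, vmul, map_inv, map_inv, Subgroup.coe_inv, Subgroup.coe_inv, hg, hce, hcm]
        group)
      rw [vχ, vχ, vχ, map_inv, map_inv, Subgroup.coe_inv, Subgroup.coe_inv, hL c hc, hce] at h
      rwa [mul_inv_eq_one, mul_inv_eq_iff_eq_mul] at h
    have e012 : ∀ a b : Equiv.Perm (Fin 5),
        a = Equiv.swap 0 1 * Equiv.swap 1 2 → b = Equiv.swap 1 2 * Equiv.swap 2 3 →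
        (Equiv.swap 0 1 * Equiv.swap 1 2 : Equiv.Perm (Fin 9)) = j54 (a, 1) ∧
        (Equiv.swap 1 2 * Equiv.swap 2 3 : Equiv.Perm (Fin 9)) = j54 (b, 1) ∧
        Equiv.Perm.sign a = 1 ∧ Equiv.Perm.sign b = 1 ∧ g45 * j54 (a, 1) = j54 (a, 1) * g45 ∧
        g45 * j54 (b, 1) = j54 (b, 1) * g45 := by
      rintro a b rfl rfl
      decide +kernel
    obtain ⟨ea, eb, sa, sb, ca, cb⟩ := e012 _ _ rfl rfl
    refine eq_g45 (ea ▸ hcyc sa ca) (eb ▸ hcyc sb cb) ?_ (Equiv.Perm.mem_alternatingGroup.1 (χ cg).2) ?_ ?_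
    · rw [← vχ]
      exact hrel _ (by rw [vmul, hg, g45_facts.2])
    · obtain ⟨c, hc, hce⟩ := h54 h1e test_g45.2.2.1 test_g45.2.2.2.1
      rw [← hce, ← hL c hc, ← vχ, ← SubgroupClass.coe_pow, ← map_pow]
      exact hrel _ (by rw [map_pow, SubgroupClass.coe_pow, vmul, hg, hce, test_g45.1])
    · obtain ⟨c, hc, hce⟩ := h54 h2e test_g45.2.2.2.2.1 test_g45.2.2.2.2.2
      rw [← hce, ← hL c hc, ← vχ, ← SubgroupClass.coe_pow, ← map_pow]
      exact hrel _ (by rw [map_pow, SubgroupClass.coe_pow, vmul, hg, hce, test_g45.2.1])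
  have hgL : cg ∈ L := hval (hy.trans hg.symm)
  have hall : ∀ c : C, χ c = φ₁ c := by
    intro c
    obtain ⟨_, ⟨l, hl, rfl⟩, hle⟩ := gen_nine (H := H)
      (fun σ hσ => by obtain ⟨d, hd, hde⟩ := h5 σ hσ; exact hde ▸ memH d hd) h4 (hg ▸ memH cg hgL) (hsign c)
    have hk : φ₁ (l⁻¹ * c) = 1 := by rw [map_mul, map_inv, hval hle, inv_mul_cancel]
    have := hχker _ hk
    rw [map_mul, map_inv, show χ l = φ₁ l from hl, inv_mul_eq_one] at this
    rw [← this, hval hle]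
  -- the complement
  let M : Subgroup G := C ⊓ centralizer ({u} : Set G)
  let φM : M →* ↥(alternatingGroup (Fin 9)) := φ₁.comp (Subgroup.inclusion inf_le_left)
  have hMu : ∀ m : M, u * (m : G) = (m : G) * u := fun m => (mem_centralizer_singleton_iff.1 m.2.2).symm
  have hMinj : ∀ m ∈ M, m ∈ zpowers w → m = 1 := by
    intro m hm hw
    obtain ⟨n, rfl⟩ := hw
    have h := mem_centralizer_singleton_iff.1 hm.2
    have h' := I.zpow_conj n
    change (fun x : ℤ => w ^ x) n * u = u * (fun x : ℤ => w ^ x) n at h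
    simp only at h ⊢
    rw [← h, mul_inv_cancel_right, _root_.zpow_neg, ← mul_eq_one_iff_eq_inv] at h'
    have h3 : (w ^ n) ^ 3 = 1 := by
      rw [← zpow_natCast, ← _root_.zpow_mul, mul_comm, _root_.zpow_mul, zpow_natCast, I.w3, _root_.one_zpow]
    rw [pow_succ, pow_two, h', one_mul] at h3
    exact h3
  have hdec : ∀ c : C, ∃ m : M, ∃ i : ℕ, (c : G) = (m : G) * w ^ i := by
    intro c
    have h1 : φ₁ (c⁻¹ * ⟨u * c * u⁻¹, I.conj_u c.2⟩) = 1 := by
      rw [map_mul, map_inv, inv_mul_eq_one]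
      exact (hall c).symm
    obtain ⟨n, hn⟩ := (hker₁ _).1 h1
    have hn' : w ^ n = (c : G)⁻¹ * (u * c * u⁻¹) := hn
    obtain ⟨i, hi⟩ : ∃ i : ℕ, w ^ i = w ^ n :=
      mem_powers_iff_mem_zpowers.2 (show w ^ n ∈ zpowers w from ⟨n, rfl⟩)
    have hm : (c : G) * (w ^ i)⁻¹ ∈ M := by
      refine Subgroup.mem_inf.2 ⟨mul_mem c.2 (inv_mem (pow_mem (mem_centralizer_singleton_iff.2 rfl) i)),
        mem_centralizer_singleton_iff.2 (mul_inv_eq_iff_eq_mul.1 ?_).symm⟩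
      rw [hi, ← _root_.zpow_neg, show u * ((c : G) * w ^ (-n)) * u⁻¹ = (u * c * u⁻¹) * (u * w ^ (-n) * u⁻¹) by group,
        I.zpow_conj, neg_neg, show u * (c : G) * u⁻¹ = (c : G) * w ^ n by rw [hn']; group, mul_assoc,
        ← _root_.zpow_add]
      congr 1
      rw [← zpow_mod_orderOf w (n + n), ← zpow_mod_orderOf w (-n), I.ordw]
      congr 1
      omega
    exact ⟨⟨_, hm⟩, i, by simp⟩
  have hbij : Function.Bijective φM := by
    refine ⟨(injective_iff_map_eq_one φM).2 fun m hm => Subtype.ext (hMinj m m.2 ((hker₁ _).1 hm)), fun p => ?_⟩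
    obtain ⟨c, rfl⟩ := hsurj₁ p
    obtain ⟨m, i, hi⟩ := hdec c
    refine ⟨m, ?_⟩
    show φ₁ ⟨m, m.2.1⟩ = φ₁ c
    rw [show c = ⟨m, m.2.1⟩ * ⟨w ^ i, pow_mem (mem_centralizer_singleton_iff.2 rfl) i⟩ from Subtype.ext hi,
      map_mul, (hker₁ ⟨w ^ i, _⟩).2 (pow_mem (mem_zpowers w) i), mul_one]
  let E := MulEquiv.ofBijective φM hbij
  let f : ↥(alternatingGroup (Fin 9)) →* G := M.subtype.comp E.symm.toMonoidHom
  have hf : ∀ (g : G) (hg : g * w = w * g), u * g = g * u → f (φ₁ ⟨g, memC hg⟩) = g := fun g hg hu => by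
    show ((E.symm (E ⟨g, memC hg, mem_centralizer_singleton_iff.2 hu.symm⟩)) : G) = g
    rw [E.symm_apply_apply]
  have hf' : ∀ p, f p ∈ M := fun p => (E.symm p).2
  have hfr : f (φ₁ rC) = r := hf r I.r_w I.u_r
  refine ⟨f, fun p q h => E.symm.injective (Subtype.ext h),
    fun p => mem_centralizer_singleton_iff.1 (hf' p).1, fun p => hMu ⟨_, hf' p⟩, fun p hp => ?_,
    fun g hg => ?_, fun k hk => ?_, ?_, ?_, fun p hp hpc => ?_, fun p hp hpc => ?_⟩
  · have := hMinj _ (hf' p) hp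
    exact E.symm.injective ((Subtype.ext this : E.symm p = 1).trans (map_one E.symm).symm)
  · obtain ⟨m, i, hi⟩ := hdec ⟨g, memC hg⟩
    exact ⟨E m, i, by rw [show f (E m) = (m : G) from congrArg Subtype.val (E.symm_apply_apply m)]; exact hi⟩
  · refine ⟨φ₁ ⟨k, memC (I.K_w k hk)⟩, hf k (I.K_w k hk) (I.u_K k hk), fun i hi => ?_⟩
    rw [show (φ₁ ⟨k, memC (I.K_w k hk)⟩ : Equiv.Perm (Fin 9)) = _ from hσK ⟨k, hk⟩]
    exact j54_fix_high _ i hi
  · exact ⟨φ₁ aC, hf a I.a_w I.u_a, fun i hi => by rw [hα]; exact j54_fix_low α i hi⟩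
  · exact ⟨φ₁ rC, hfr, fun i hi => by rw [hρ]; exact j54_fix_low ρ i hi⟩
  · obtain ⟨τ, hτ, hτe⟩ := conj_invol (n := 1) (q := (φ₁ rC : Equiv.Perm (Fin 9))) (congrArg Subtype.val hp)
      (by rw [← vmul, show rC * rC = 1 from Subtype.ext I.r2, map_one]; rfl) hpc
      (by rw [hρ, support_four ρ hρ2 hρ1 hρs])
    have he : (⟨τ, Equiv.Perm.mem_alternatingGroup.2 hτ⟩ : alternatingGroup (Fin 9)) * φ₁ rC *
        (⟨τ, Equiv.Perm.mem_alternatingGroup.2 hτ⟩ : alternatingGroup (Fin 9))⁻¹ = p := hval hτe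
    refine isConj_iff.2 ⟨f ⟨τ, Equiv.Perm.mem_alternatingGroup.2 hτ⟩, ?_⟩
    conv_lhs => rw [← hfr]
    rw [← map_inv, ← map_mul, ← map_mul, he]
  · let xC : C := kC ⟨x, I.xK⟩
    have hxs : σK ⟨x, I.xK⟩ * σK ⟨x, I.xK⟩ = 1 := by
      rw [show σK ⟨x, I.xK⟩ * σK ⟨x, I.xK⟩ = (κ (⟨x, I.xK⟩ * ⟨x, I.xK⟩) : Equiv.Perm (Fin 5)) by rw [map_mul]; rfl,
        show (⟨x, I.xK⟩ : K) * ⟨x, I.xK⟩ = 1 from Subtype.ext I.x2, map_one]
      rfl
    have hx1 : σK ⟨x, I.xK⟩ ≠ 1 := fun h => I.x_ne (congrArg Subtype.val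
      (hκinj (a₁ := ⟨x, I.xK⟩) (a₂ := 1) ((Subtype.ext h).trans (map_one κ).symm)))
    have hrx : (φ₁ (rC * xC) : Equiv.Perm (Fin 9)) = j54 (σK ⟨x, I.xK⟩, ρ) := by
      rw [vmul, hρ, hσK, ← map_mul]; simp
    obtain ⟨τ, hτ, hτe⟩ := conj_invol (n := 3) (q := (φ₁ (rC * xC) : Equiv.Perm (Fin 9)))
      (congrArg Subtype.val hp)
      (by
        rw [hrx, ← map_mul, show ((σK ⟨x, I.xK⟩, ρ) * (σK ⟨x, I.xK⟩, ρ)) = 1 from Prod.ext hxs hρ2, map_one])
      hpc (by rw [hrx, support_eight _ hxs hx1 (hσs _) ρ hρ2 hρ1 hρs])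
    have he : (⟨τ, Equiv.Perm.mem_alternatingGroup.2 hτ⟩ : alternatingGroup (Fin 9)) * φ₁ (rC * xC) *
        (⟨τ, Equiv.Perm.mem_alternatingGroup.2 hτ⟩ : alternatingGroup (Fin 9))⁻¹ = p := hval hτe
    refine isConj_iff.2 ⟨f ⟨τ, Equiv.Perm.mem_alternatingGroup.2 hτ⟩, ?_⟩
    have hfx : f (φ₁ (rC * xC)) = r * x := by
      rw [map_mul, map_mul, hfr, show f (φ₁ xC) = x from hf x (I.K_w x I.xK) (I.u_K x I.xK)]
    conv_lhs => rw [← hfx]
    rw [← map_inv, ← map_mul, ← map_mul, he]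

/-- The symmetric group of degree three on the element and the involution. -/
theorem exists_omega : ∃ ω : Equiv.Perm (Fin 3) →* G,
    ∀ s, ω s = w ^ (s 0).val * u ^ (if Equiv.Perm.sign s = 1 then 0 else 1 : ℕ) := by
  refine ⟨MonoidHom.mk' (fun s => w ^ (s 0).val * u ^ (if Equiv.Perm.sign s = 1 then 0 else 1 : ℕ))
    fun s t => ?_, fun s => rfl⟩
  obtain ⟨h1, h2⟩ := three_table s t
  have hu2 : u ^ 2 = 1 := by rw [pow_two, I.u2]
  have hw : ∀ n : ℕ, u * w ^ n = w ^ (2 * n) * u := fun n => by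
    have h := I.zpow_conj n
    rw [zpow_natCast, _root_.zpow_neg, zpow_natCast, mul_inv_eq_iff_eq_mul] at h
    rw [h, show (w ^ n)⁻¹ = w ^ (2 * n) from inv_eq_of_mul_eq_one_right (by
      rw [← pow_add, show n + 2 * n = 3 * n by ring, pow_mul, I.w3, one_pow])]
  show w ^ ((s * t) 0).val * u ^ _ = _
  rw [h1, h2, ← pow_eq_pow_mod _ I.w3, ← pow_eq_pow_mod _ hu2]
  rcases Int.units_eq_one_or (Equiv.Perm.sign s) with hs | hs <;>
    simp only [hs, reduceIte, show ((-1 : ℤˣ) = 1) ↔ False from ⟨fun h => absurd h (by decide), False.elim⟩,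
      one_mul, zero_add, pow_zero, mul_one, pow_one]
  · rw [pow_add, mul_assoc]
  · rw [pow_add, pow_add, pow_one]
    calc w ^ (s 0).val * w ^ (2 * (t 0).val) * (u * u ^ (if Equiv.Perm.sign t = 1 then 0 else 1 : ℕ))
        = w ^ (s 0).val * (w ^ (2 * (t 0).val) * u) * u ^ (if Equiv.Perm.sign t = 1 then 0 else 1 : ℕ) := by
          simp only [mul_assoc]
      _ = _ := by rw [← hw]; simp only [mul_assoc]

/-- The normaliser. -/
theorem normalizer_iso {f : ↥(alternatingGroup (Fin 9)) →* G}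
    (hfw : ∀ p, f p * w = w * f p) (hfu : ∀ p, u * f p = f p * u) (hmeet : ∀ p, f p ∈ zpowers w → p = 1)
    (hdec : ∀ g : G, g * w = w * g → ∃ p, ∃ i : ℕ, g = f p * w ^ i) :
    Nonempty (↥(normalizer (zpowers w : Set G)) ≃* Equiv.Perm (Fin 3) × alternatingGroup (Fin 9)) := by
  classical
  obtain ⟨ω, hω⟩ := I.exists_omega
  let Φ : Equiv.Perm (Fin 3) × ↥(alternatingGroup (Fin 9)) →* G := MonoidHom.noncommCoprod ω f fun s p => by
    rw [hω]
    exact ((show Commute w (f p) from (hfw p).symm).pow_left _).mul_left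
      ((show Commute u (f p) from hfu p).pow_left _)
  have hΦ : ∀ s p, Φ (s, p) = ω s * f p := fun _ _ => rfl
  have hinj : Function.Injective Φ := by
    refine (injective_iff_map_eq_one Φ).2 ?_
    rintro ⟨s, p⟩ h
    rw [hΦ, hω] at h
    rcases Int.units_eq_one_or (Equiv.Perm.sign s) with hs | hs
    · simp only [hs, reduceIte, pow_zero, mul_one] at h
      have hp := hmeet p (by
        rw [eq_inv_of_mul_eq_one_right h]
        exact inv_mem (pow_mem (mem_zpowers w) _))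
      rw [hp, map_one, mul_one] at h
      have h3 : orderOf w ∣ (s 0).val := orderOf_dvd_of_pow_eq_one h
      rw [I.ordw] at h3
      have h0 : s 0 = 0 := Fin.ext (by
        have := (s 0).isLt
        show (s 0).val = 0
        omega)
      rw [three_inj s h0 hs, hp]
      rfl
    · exfalso
      have hne : Equiv.Perm.sign s ≠ 1 := fun e => absurd (e.symm.trans hs) (by decide)
      simp only [hne, if_false, pow_one] at h
      have hu : u * w = w * u := by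
        have e : u = (w ^ (s 0).val)⁻¹ * (f p)⁻¹ := by
          rw [← mul_one ((w ^ (s 0).val)⁻¹), ← h]; group
        rw [e]
        exact ((((Commute.refl w).pow_left _).inv_left).mul_left ((show Commute (f p) w from hfw p).inv_left)).eq
      have h2 := I.inv
      rw [hu, mul_inv_cancel_right] at h2
      have h3 := I.w3
      rw [pow_succ, pow_two, mul_eq_one_iff_eq_inv.2 h2, one_mul] at h3
      exact I.w_ne h3
  have hwω : ∀ i : ℕ, i < 3 → (∃ s, ω s = w ^ i) ∧ ∃ s, ω s = w ^ i * u := fun i hi => by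
    obtain ⟨⟨s, hs0, hs⟩, ⟨s', hs0', hs'⟩⟩ := three_gen ⟨i, hi⟩
    refine ⟨⟨s, by rw [hω, hs0, if_pos hs, pow_zero, mul_one]⟩, ⟨s', ?_⟩⟩
    rw [hω, hs0', if_neg (by rw [hs']; decide), pow_one]
  have hrange : Φ.range = normalizer (zpowers w : Set G) := by
    refine le_antisymm ?_ fun g hg => ?_
    · rintro _ ⟨⟨s, p⟩, rfl⟩
      rw [hΦ, hω]
      have hmem : ∀ n : G, (n * w * n⁻¹ = w ∨ n * w * n⁻¹ = w⁻¹) → n ∈ normalizer (zpowers w : Set G) := by
        intro n hn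
        refine mem_normalizer_iff_map_conj_eq.2 ?_
        rw [MonoidHom.map_zpowers]
        show zpowers (n * w * n⁻¹) = zpowers w
        rcases hn with e | e <;> rw [e]
        exact zpowers_inv
      refine mul_mem (mul_mem (pow_mem (hmem w (Or.inl (by group))) _) (pow_mem (hmem u (Or.inr I.inv)) _))
        (hmem _ (Or.inl (by rw [hfw, mul_inv_cancel_right])))
    · have hgw : g * w * g⁻¹ ∈ zpowers w := (mem_normalizer_iff.1 hg w).1 (mem_zpowers w)
      obtain ⟨n, hn⟩ := hgw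
      have hn' : w ^ n = g * w * g⁻¹ := hn
      rw [← zpow_mod_orderOf, I.ordw] at hn'
      have hin : ∀ g : G, g * w = w * g → g ∈ Φ.range := fun g hg => by
        obtain ⟨p, i, hi⟩ := hdec g hg
        obtain ⟨⟨s, hs⟩, -⟩ := hwω (i % 3) (Nat.mod_lt _ (by norm_num))
        refine ⟨(s, p), ?_⟩
        rw [hΦ, hs, ← pow_eq_pow_mod _ I.w3, hi]
        exact ((show Commute w (f p) from (hfw p).symm).pow_left i).eq
      rcases (show n % 3 = 0 ∨ n % 3 = 1 ∨ n % 3 = 2 by omega) with e | e | e <;>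
        rw [show ((3 : ℕ) : ℤ) = 3 from rfl, e] at hn'
      · exfalso
        rw [zpow_zero, eq_comm, mul_inv_eq_one] at hn'
        exact I.w_ne (mul_eq_left.1 hn')
      · rw [zpow_one] at hn'
        exact hin g (mul_inv_eq_iff_eq_mul.1 hn'.symm)
      · have h2 : w ^ (2 : ℤ) = w⁻¹ := by
          refine eq_inv_of_mul_eq_one_left ?_
          rw [show w ^ (2 : ℤ) = w ^ (2 : ℕ) from zpow_natCast w 2, ← pow_succ]
          exact I.w3
        rw [h2] at hn'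
        have hmem : u * g ∈ Φ.range := hin _ (by
          refine mul_inv_eq_iff_eq_mul.1 ?_
          calc u * g * w * (u * g)⁻¹ = u * (g * w * g⁻¹) * u⁻¹ := by group
            _ = (u * w * u⁻¹)⁻¹ := by rw [← hn']; group
            _ = w := by rw [I.inv, inv_inv])
        obtain ⟨-, ⟨s, hs⟩⟩ := hwω 0 (by norm_num)
        have hu : u ∈ Φ.range := ⟨(s, 1), by rw [hΦ, hs, map_one, mul_one, pow_zero, one_mul]⟩
        have := mul_mem hu hmem
        rwa [← mul_assoc, I.u2, one_mul] at this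
  exact ⟨((MonoidHom.ofInjective hinj).trans (MulEquiv.subgroupCongr hrange)).symm⟩

end Input

end CfsgLib.Co1Loc.NineW
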