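import Cfsg.Agent.Co1Loc.Defs
import Cfsg.Agent.Co1Loc.NineModel

/-!
The elementary subgroup of order sixteen centralising the element of order three, with the classes of its
involutions.
-/

set_option autoImplicit false
set_option maxRecDepth 100000
set_option synthInstance.maxSize 4096
set_option linter.style.haveILetI false
set_option linter.unusedSectionVars false
set_option linter.unusedVariables false

namespace CfsgLib.Co1Loc.NineW

open CfsgLib CfsgLib.Quad CfsgLib.Co1Invol CfsgLib.Co1Five Subgroup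

variable {G : Type*} [Group G] [Finite G] {z : G}

/-- The map from a group of order two onto an element with square one. -/
def twoHom {a : G} (ha : a * a = 1) : Multiplicative (ZMod 2) →* G :=
  MonoidHom.mk' (fun i => a ^ i.toAdd.val) fun i j => by
    rw [toAdd_mul, ZMod.val_add, ← pow_add, ← pow_eq_pow_mod _ (show a ^ 2 = 1 by rw [pow_two, ha])]

theorem twoHom_cases {a : G} (ha : a * a = 1) (i : Multiplicative (ZMod 2)) :
    (i = 1 ∧ twoHom ha i = 1) ∨ (i ≠ 1 ∧ twoHom ha i = a) := by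
  rcases (show ∀ i : Multiplicative (ZMod 2), i = 1 ∨ i = Multiplicative.ofAdd 1 by decide) i with rfl | rfl
  · exact Or.inl ⟨rfl, map_one _⟩
  · refine Or.inr ⟨by decide, ?_⟩
    show a ^ (1 : ZMod 2).val = a
    rw [ZMod.val_one, pow_one]

/-- The four group on two commuting involutions. -/
def four {a b : G} (ha : a * a = 1) (hb : b * b = 1) (hab : a * b = b * a) :
    Multiplicative (ZMod 2) × Multiplicative (ZMod 2) →* G :=
  MonoidHom.noncommCoprod (twoHom ha) (twoHom hb) fun i j => ((show Commute a b from hab).pow_pow _ _)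

theorem four_cases {a b : G} (ha : a * a = 1) (hb : b * b = 1) (hab : a * b = b * a)
    (v : Multiplicative (ZMod 2) × Multiplicative (ZMod 2)) :
    (v = 1 ∧ four ha hb hab v = 1) ∨
      (v ≠ 1 ∧ (four ha hb hab v = a ∨ four ha hb hab v = b ∨ four ha hb hab v = a * b)) := by
  obtain ⟨i, j⟩ := v
  have h : four ha hb hab (i, j) = twoHom ha i * twoHom hb j := rfl
  rcases twoHom_cases ha i with ⟨rfl, e1⟩ | ⟨hi, e1⟩ <;> rcases twoHom_cases hb j with ⟨rfl, e2⟩ | ⟨hj, e2⟩ <;>
    rw [e1, e2] at h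
  · exact Or.inl ⟨rfl, by rw [h, one_mul]⟩
  · exact Or.inr ⟨fun e => hj (congrArg Prod.snd e), Or.inr (Or.inl (by rw [h, one_mul]))⟩
  · exact Or.inr ⟨fun e => hi (congrArg Prod.fst e), Or.inl (by rw [h, mul_one])⟩
  · exact Or.inr ⟨fun e => hi (congrArg Prod.fst e), Or.inr (Or.inr h)⟩

variable {D : Dat z} {A : Subgroup G} {b x c t w r r' a u v y : G}

theorem mem_compl (b x : G) : b ∈ compl b x ∧ x ∈ compl b x :=
  ⟨subset_closure (Or.inr rfl), subset_closure (Or.inl rfl)⟩

theorem cent_compl_comm {g k : G} (hg : g ∈ centralizer (compl b x : Set G)) (hk : k ∈ compl b x) :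
    k * g = g * k := mem_centralizer_iff.1 hg k hk

theorem x_ne (S : Split D b x) : x ≠ 1 := fun e => by
  have h := S.act
  rw [e, hact_Q (one_mem _), ← map_one iota] at h
  exact σ₀_inv.2.1 (congrArg Prod.snd (iota_injective h)).symm

theorem compl_centre (hK : Nonempty (↥(compl b x) ≃* ↥(alternatingGroup (Fin 5)))) {k : G}
    (hk : k ∈ compl b x) (hk' : k ∈ centralizer (compl b x : Set G)) : k = 1 := by
  obtain ⟨e⟩ := hK
  have hc : ∀ q, e ⟨k, hk⟩ * q = q * e ⟨k, hk⟩ := by
    intro q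
    obtain ⟨q, rfl⟩ := e.surjective q
    rw [← map_mul, ← map_mul]
    exact congrArg e (Subtype.ext (cent_compl_comm hk' q.2).symm)
  exact congrArg Subtype.val (e.injective ((alt_five_centre _ hc).trans (map_one e).symm))

/-- The classes of the two basic involutions and of their product. -/
theorem base_classes (S : Split D b x) (Cl : Cls D A c t) (W : Wit D b x w r r' a u v y) :
    IsConj t r ∧ IsConj t x ∧ IsConj c (r * x) := by
  obtain ⟨h, hh, σ, hσ, hC, hact'⟩ := W.conj_r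
  have hx := (mem_compl b x).2
  have hr2 : r * r = 1 := by rw [← pow_two, ← W.ordr, pow_orderOf_eq_one]
  have hr1 : h * r * h⁻¹ * (h * r * h⁻¹) = 1 := by
    rw [show h * r * h⁻¹ * (h * r * h⁻¹) = h * (r * r) * h⁻¹ by group, hr2, mul_one, mul_inv_cancel]
  have hr1K : h * r * h⁻¹ ∈ centralizer (compl b x : Set G) := mul_mem (mul_mem hh W.memr) (inv_mem hh)
  have hcr : IsConj t r :=
    (Cl.single _ hC hr1 σ hσ (Or.inl hact')).trans (isConj_iff.2 ⟨h, rfl⟩ : IsConj r (h * r * h⁻¹)).symm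
  have hcomm : h * r * h⁻¹ * x = x * (h * r * h⁻¹) := (cent_compl_comm hr1K hx).symm
  have hrx2 : h * r * h⁻¹ * x * (h * r * h⁻¹ * x) = 1 := by
    calc h * r * h⁻¹ * x * (h * r * h⁻¹ * x) = h * r * h⁻¹ * (x * (h * r * h⁻¹)) * x := by simp only [mul_assoc]
      _ = h * r * h⁻¹ * (h * r * h⁻¹ * x) * x := by rw [hcomm]
      _ = (h * r * h⁻¹ * (h * r * h⁻¹)) * (x * x) := by simp only [mul_assoc]
      _ = 1 := by rw [hr1, S.sq, one_mul]
  have hd : IsConj c (h * r * h⁻¹ * x) := Cl.double _ (mul_mem hC S.C) hrx2 σ σ₀ hσ σ₀_inv (by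
    rw [hact_mul hC S.C, hact', S.act, ← map_mul]; simp)
  refine ⟨hcr, Cl.single x S.C S.sq σ₀ σ₀_inv (Or.inr S.act), hd.trans (isConj_iff.2 ⟨h⁻¹, ?_⟩)⟩
  have hhx : h⁻¹ * x = x * h⁻¹ := (cent_compl_comm (inv_mem hh) hx).symm
  calc h⁻¹ * (h * r * h⁻¹ * x) * h⁻¹⁻¹ = r * (h⁻¹ * x) * h := by group
    _ = r * x := by rw [hhx]; group

/-- The subgroup of order sixteen. -/
theorem exists_sixteen (hK : Nonempty (↥(compl b x) ≃* ↥(alternatingGroup (Fin 5)))) (S : Split D b x)
    (Cl : Cls D A c t) (W : Wit D b x w r r' a u v y) :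
    ∃ E : Subgroup G, (∀ e ∈ E, e * e = 1) ∧ (∀ e ∈ E, e * w = w * e) ∧ r * x ∈ E ∧ 16 ≤ Nat.card E ∧
      ∀ e ∈ E, ¬ IsConj z e := by
  classical
  obtain ⟨htr, htx, hcrx⟩ := base_classes S Cl W
  have hr2 : r * r = 1 := by rw [← pow_two, ← W.ordr, pow_orderOf_eq_one]
  have hr2' : r' * r' = 1 := by rw [← pow_two, ← W.ordr', pow_orderOf_eq_one]
  obtain ⟨e5⟩ := hK
  let xK : compl b x := ⟨x, (mem_compl b x).2⟩
  have hxK : xK * xK = 1 := Subtype.ext S.sq
  have hxK1 : xK ≠ 1 := fun e => x_ne S (congrArg Subtype.val e)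
  obtain ⟨q, hq2, hq1, hqne, hqc⟩ := alt_five_comm (e5 xK) (by rw [← map_mul, hxK, map_one])
    (fun e => hxK1 (e5.injective (e.trans (map_one e5).symm)))
  obtain ⟨qK, rfl⟩ := e5.surjective q
  have hqK : qK * qK = 1 := e5.injective (by rw [map_mul, hq2, map_one])
  have hxq : xK * qK = qK * xK := e5.injective (by rw [map_mul, map_mul, hqc])
  have hq2' : (qK : G) * qK = 1 := congrArg Subtype.val hqK
  have hxq' : x * (qK : G) = (qK : G) * x := congrArg Subtype.val hxq
  let P := four hr2 hr2' W.comm_rr'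
  let Q := four S.sq hq2' hxq'
  have hPc : ∀ v, P v ∈ centralizer (compl b x : Set G) := fun v =>
    mul_mem (pow_mem W.memr _) (pow_mem W.memr' _)
  have hQK : ∀ v, Q v ∈ compl b x := fun v => mul_mem (pow_mem (mem_compl b x).2 _) (pow_mem qK.2 _)
  have hPQ : ∀ v v', P v * Q v' = Q v' * P v := fun v v' => (cent_compl_comm (hPc v) (hQK v')).symm
  let f := MonoidHom.noncommCoprod P Q hPQ
  have hf : ∀ v v', f (v, v') = P v * Q v' := fun _ _ => rfl
  -- every element of the first factor is trivial or conjugate to `r`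
  have hP : ∀ v, (v = 1 ∧ P v = 1) ∨
      (v ≠ 1 ∧ ∃ g ∈ centralizer (compl b x : Set G), g * r * g⁻¹ = P v) := by
    intro v
    refine (four_cases hr2 hr2' W.comm_rr' v).imp id fun ⟨hv, h⟩ => ⟨hv, ?_⟩
    rcases h with e | e | e
    · exact ⟨1, one_mem _, by rw [one_mul, inv_one, mul_one]; exact e.symm⟩
    · exact ⟨a, W.mema, by rw [W.cyc]; exact e.symm⟩
    · refine ⟨a * a, mul_mem W.mema W.mema, ?_⟩
      rw [show a * a * r * (a * a)⁻¹ = a * (a * r * a⁻¹) * a⁻¹ by group, W.cyc, W.cyc']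
      exact e.symm
  -- every element of the second factor is trivial or conjugate to `x`
  have hQ : ∀ v, (v = 1 ∧ Q v = 1) ∨ (v ≠ 1 ∧ ∃ k ∈ compl b x, k * x * k⁻¹ = Q v) := by
    intro v
    refine (four_cases S.sq hq2' hxq' v).imp id fun ⟨hv, h⟩ => ⟨hv, ?_⟩
    have key : ∀ p : compl b x, p * p = 1 → p ≠ 1 → ∃ k ∈ compl b x, k * x * k⁻¹ = p := fun p hp hp1 => by
      obtain ⟨k, hk⟩ := alt_five_facts (e5 xK) (e5 p) (by rw [← map_mul, hxK, map_one])
        (fun e => hxK1 (e5.injective (e.trans (map_one e5).symm))) (by rw [← map_mul, hp, map_one])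
        (fun e => hp1 (e5.injective (e.trans (map_one e5).symm)))
      obtain ⟨k, rfl⟩ := e5.surjective k
      rw [← map_inv, ← map_mul, ← map_mul] at hk
      exact ⟨k, k.2, congrArg Subtype.val (e5.injective hk)⟩
    rcases h with e | e | e <;> rw [show Q v = _ from e]
    · exact ⟨1, one_mem _, by group⟩
    · exact key qK hqK fun e' => hq1 (by rw [e', map_one])
    · refine key (xK * qK) ?_ fun e' => hqne ?_
      · rw [mul_assoc, ← mul_assoc qK, ← hxq, mul_assoc, hqK, mul_one, hxK]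
      · rw [mul_eq_one_iff_eq_inv.1 e', map_inv]
        exact (inv_eq_of_mul_eq_one_right hq2).symm
  have hfinj : Function.Injective f := by
    refine (injective_iff_map_eq_one f).2 ?_
    rintro ⟨v, v'⟩ h
    rw [hf] at h
    have hq : Q v' = 1 := compl_centre ⟨e5⟩ (hQK v') (by
      rw [eq_inv_of_mul_eq_one_right h]; exact inv_mem (hPc v))
    rw [hq, mul_one] at h
    refine Prod.ext ((hP v).resolve_right fun ⟨_, g, _, hg⟩ => ?_).1
      ((hQ v').resolve_right fun ⟨_, g, _, hg⟩ => ?_).1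
    · rw [h, mul_inv_eq_one, mul_eq_left] at hg
      exact absurd W.ordr (by rw [hg, orderOf_one]; norm_num)
    · rw [hq, mul_inv_eq_one, mul_eq_left] at hg
      exact x_ne S hg
  refine ⟨f.range, ?_, ?_, ⟨((Multiplicative.ofAdd 1, 1), (Multiplicative.ofAdd 1, 1)), ?_⟩, ?_, ?_⟩
  · rintro _ ⟨v, rfl⟩
    rw [← map_mul, show v * v = 1 from (show ∀ v : (Multiplicative (ZMod 2) × Multiplicative (ZMod 2)) ×
      (Multiplicative (ZMod 2) × Multiplicative (ZMod 2)), v * v = 1 by decide) v, map_one]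
  · rintro _ ⟨⟨v, v'⟩, rfl⟩
    rw [hf]
    have h1 : Commute (P v) w := ((show Commute r w from W.comm_wr.symm).pow_left _).mul_left
      ((show Commute r' w from W.comm_wr'.symm).pow_left _)
    have h2 : Commute (Q v') w := cent_compl_comm W.memw (hQK v')
    exact (h1.mul_left h2).eq
  · show P _ * Q _ = r * x
    simp [P, Q, four, twoHom, ZMod.val_one]
  · rw [Nat.card_congr (MonoidHom.ofInjective hfinj).symm.toEquiv]
    simp
  · rintro _ ⟨⟨v, v'⟩, rfl⟩ hz
    rw [hf] at hz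
    rcases hP v with ⟨-, e⟩ | ⟨-, g, hg, e⟩ <;> rcases hQ v' with ⟨-, e'⟩ | ⟨-, k, hk, e'⟩
    · rw [e, e', mul_one] at hz
      exact D.pre.gen.ne_one (isConj_one_left.1 hz)
    · rw [e, one_mul] at hz
      rw [show IsConj z (Q v') ↔ IsConj z x from
        ⟨fun h => h.trans (isConj_iff.2 ⟨k, e'⟩ : IsConj x (Q v')).symm, fun h => h.trans (isConj_iff.2 ⟨k, e'⟩)⟩]
        at hz
      exact Cl.not_zt (hz.trans htx.symm)
    · rw [← e, e', mul_one] at hz
      exact Cl.not_zt ((hz.trans (isConj_iff.2 ⟨g, rfl⟩ : IsConj r (g * r * g⁻¹)).symm).trans htr.symm)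
    · rw [← e, ← e'] at hz
      have hgx : g⁻¹ * x = x * g⁻¹ := (cent_compl_comm (inv_mem hg) (mem_compl b x).2).symm
      have hkr : k * r = r * k := cent_compl_comm W.memr hk
      have hkg : k * g = g * k := cent_compl_comm hg hk
      have hkg' : k⁻¹ * g = g * k⁻¹ := cent_compl_comm hg (inv_mem hk)
      have hrg : IsConj (r * x) (g * r * g⁻¹ * (k * x * k⁻¹)) := isConj_iff.2 ⟨g * k, by
        calc g * k * (r * x) * (g * k)⁻¹ = g * (k * r) * x * k⁻¹ * g⁻¹ := by group
          _ = g * r * (k * x * k⁻¹ * g⁻¹) := by rw [hkr]; group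
          _ = g * r * (g⁻¹ * (k * x * k⁻¹)) := by
              rw [cent_compl_comm (inv_mem hg) (mul_mem (mul_mem hk (mem_compl b x).2) (inv_mem hk))]
          _ = _ := by simp only [mul_assoc]⟩
      exact Cl.not_zc ((hz.trans hrg.symm).trans hcrx.symm)

end CfsgLib.Co1Loc.NineW
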