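import Mathlib

/-!
Permutations of nine points: the blocks of five and four points, generation of the alternating group, and the
involution determined by two relations with elements of the two blocks.
-/

set_option autoImplicit false
set_option maxRecDepth 100000
set_option synthInstance.maxSize 4096
set_option linter.style.haveILetI false

namespace CfsgLib.Co1Loc.NineW

open Equiv Equiv.Perm

/-- Permutations of the first five and of the last four points. -/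
def j54 : Equiv.Perm (Fin 5) × Equiv.Perm (Fin 4) →* Equiv.Perm (Fin 9) :=
  (finSumFinEquiv (m := 5) (n := 4)).permCongrHom.toMonoidHom.comp (Equiv.Perm.sumCongrHom (Fin 5) (Fin 4))

theorem j54_apply (p : Equiv.Perm (Fin 5) × Equiv.Perm (Fin 4)) :
    (∀ i, j54 p (Fin.castAdd 4 i) = Fin.castAdd 4 (p.1 i)) ∧
      ∀ j, j54 p (Fin.natAdd 5 j) = Fin.natAdd 5 (p.2 j) := by
  constructor <;> intro i
  · show finSumFinEquiv (Sum.map p.1 p.2 (finSumFinEquiv.symm (Fin.castAdd 4 i))) = Fin.castAdd 4 (p.1 i)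
    rw [finSumFinEquiv_symm_apply_castAdd]; rfl
  · show finSumFinEquiv (Sum.map p.1 p.2 (finSumFinEquiv.symm (Fin.natAdd 5 i))) = Fin.natAdd 5 (p.2 i)
    rw [finSumFinEquiv_symm_apply_natAdd]; rfl

theorem j54_inj : Function.Injective j54 :=
  (finSumFinEquiv (m := 5) (n := 4)).permCongrHom.injective.comp Equiv.Perm.sumCongrHom_injective

theorem sign_j54 (p : Equiv.Perm (Fin 5) × Equiv.Perm (Fin 4)) :
    Equiv.Perm.sign (j54 p) = Equiv.Perm.sign p.1 * Equiv.Perm.sign p.2 := by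
  simp [j54]

theorem castAdd_lt : (∀ i : Fin 5, Fin.castAdd 4 i < (5 : Fin 9)) ∧ ∀ j : Fin 4, (5 : Fin 9) ≤ Fin.natAdd 5 j := by
  decide +kernel

theorem split_pt : ∀ a : Fin 9,
    (∃ i : Fin 5, a = Fin.castAdd 4 i) ∨ ∃ j : Fin 4, a = Fin.natAdd 5 j := by decide +kernel

/-- A permutation keeping the first five points among themselves. -/
theorem mem_j54 {q : Equiv.Perm (Fin 9)} (h : ∀ i : Fin 9, i < 5 → q i < 5) : ∃ p, q = j54 p := by
  obtain ⟨p, hp⟩ := Equiv.Perm.mem_sumCongrHom_range_of_perm_mapsTo_inl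
    (σ := (finSumFinEquiv (m := 5) (n := 4)).symm.permCongr q) (by
      rintro _ ⟨i, rfl⟩
      have hlt := h (Fin.castAdd 4 i) (castAdd_lt.1 i)
      rcases split_pt (q (Fin.castAdd 4 i)) with ⟨k, hk⟩ | ⟨k, hk⟩
      · exact ⟨k, by
          simp only [Equiv.permCongr_apply, Equiv.symm_symm, finSumFinEquiv_apply_left, hk,
            finSumFinEquiv_symm_apply_castAdd]⟩
      · rw [hk] at hlt
        exact absurd (castAdd_lt.2 k) (not_le.2 hlt))
  refine ⟨p, ?_⟩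
  show q = (finSumFinEquiv (m := 5) (n := 4)).permCongr (Equiv.Perm.sumCongrHom (Fin 5) (Fin 4) p)
  rw [hp]
  ext i
  simp

/-- Permutations fixing the first five points. -/
theorem mem_j54_right {q : Equiv.Perm (Fin 9)} (h : ∀ i : Fin 9, i < 5 → q i = i) : ∃ ρ, q = j54 (1, ρ) := by
  obtain ⟨⟨σ, ρ⟩, rfl⟩ := mem_j54 fun i hi => (h i hi).symm ▸ hi
  refine ⟨ρ, congrArg j54 (Prod.ext ?_ rfl)⟩
  refine Equiv.ext fun i => ?_
  have := h (Fin.castAdd 4 i) (castAdd_lt.1 i)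
  rw [(j54_apply (σ, ρ)).1] at this
  exact Fin.castAdd_injective _ _ this

theorem j54_fix_high (σ : Equiv.Perm (Fin 5)) : ∀ i : Fin 9, 5 ≤ i → j54 (σ, 1) i = i := by
  intro i hi
  rcases split_pt i with ⟨k, rfl⟩ | ⟨k, rfl⟩
  · exact absurd (castAdd_lt.1 k) (not_lt.2 hi)
  · rw [(j54_apply (σ, 1)).2]; rfl

theorem j54_fix_low (ρ : Equiv.Perm (Fin 4)) : ∀ i : Fin 9, i < 5 → j54 (1, ρ) i = i := by
  intro i hi
  rcases split_pt i with ⟨k, rfl⟩ | ⟨k, rfl⟩
  · rw [(j54_apply (1, ρ)).1]; rfl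
  · exact absurd (castAdd_lt.2 k) (not_le.2 hi)

/-- The five-cycle. -/
def cyc5 : Equiv.Perm (Fin 9) := j54 (finRotate 5, 1)

theorem cyc5_fixed : ∀ i : Fin 9, cyc5 i = i ↔ 5 ≤ i := by decide +kernel

theorem cyc5_order : cyc5 ^ 5 = 1 ∧ cyc5 ≠ 1 := by decide +kernel

theorem comm_rotate : ∀ σ : Equiv.Perm (Fin 5), σ * finRotate 5 = finRotate 5 * σ →
    ∃ i : Fin 5, σ = finRotate 5 ^ i.val := by decide +kernel

theorem rotate_small : ∀ i : Fin 5, ((finRotate 5 ^ i.val) * (finRotate 5 ^ i.val) = 1 ∨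
    (finRotate 5 ^ i.val) * (finRotate 5 ^ i.val) * (finRotate 5 ^ i.val) = 1) → finRotate 5 ^ i.val = 1 := by
  decide +kernel

theorem cycleType_five {p : Equiv.Perm (Fin 9)} (h5 : p ^ 5 = 1) (h1 : p ≠ 1) : p.cycleType = {5} := by
  haveI : Fact (Nat.Prime 5) := ⟨by norm_num⟩
  have ho : orderOf p = 5 := orderOf_eq_prime h5 h1
  obtain ⟨n, hn⟩ := Equiv.Perm.cycleType_prime_order (σ := p) (by rw [ho]; norm_num)
  have hs := Equiv.Perm.sum_cycleType_le p
  rw [hn, ho, Multiset.sum_replicate, Fintype.card_fin, smul_eq_mul] at hs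
  have : n = 0 := by omega
  subst this
  rw [hn, ho]
  rfl

/-- An element of order five is a five-cycle. -/
theorem conj_cyc5 {p : Equiv.Perm (Fin 9)} (h5 : p ^ 5 = 1) (h1 : p ≠ 1) : ∃ π, π * p * π⁻¹ = cyc5 := by
  refine isConj_iff.1 (Equiv.Perm.isConj_iff_cycleType_eq.2 ?_)
  rw [cycleType_five h5 h1, cycleType_five cyc5_order.1 cyc5_order.2]

/-- An element commuting with the five-cycle. -/
theorem comm_cyc5 {q : Equiv.Perm (Fin 9)} (h : q * cyc5 = cyc5 * q) :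
    ∃ (i : Fin 5) (ρ : Equiv.Perm (Fin 4)), q = j54 (finRotate 5 ^ i.val, ρ) := by
  obtain ⟨⟨σ, ρ⟩, rfl⟩ := mem_j54 (q := q) fun i hi => by
    refine not_le.1 fun hge => ?_
    have h1 := (cyc5_fixed (q i)).2 hge
    have h2 := Equiv.ext_iff.1 h i
    rw [Equiv.Perm.mul_apply, Equiv.Perm.mul_apply, h1] at h2
    exact absurd ((cyc5_fixed i).1 (q.injective h2)) (not_le.2 hi)
  rw [cyc5, ← map_mul, ← map_mul] at h
  obtain ⟨i, hi⟩ := comm_rotate σ (congrArg Prod.fst (j54_inj h))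
  exact ⟨i, ρ, by rw [hi]⟩

/-- Small elements commuting with the five-cycle lie on the last four points. -/
theorem comm_cyc5_small {q : Equiv.Perm (Fin 9)} (h : q * cyc5 = cyc5 * q) (hq : q * q = 1 ∨ q * q * q = 1) :
    ∃ ρ : Equiv.Perm (Fin 4), q = j54 (1, ρ) := by
  obtain ⟨i, ρ, rfl⟩ := comm_cyc5 h
  refine ⟨ρ, ?_⟩
  have h' : (finRotate 5 ^ i.val) * (finRotate 5 ^ i.val) = 1 ∨
      (finRotate 5 ^ i.val) * (finRotate 5 ^ i.val) * (finRotate 5 ^ i.val) = 1 := by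
    rcases hq with e | e
    · rw [← map_mul] at e
      exact Or.inl (congrArg Prod.fst (j54_inj (e.trans (map_one j54).symm)))
    · rw [← map_mul, ← map_mul] at e
      exact Or.inr (congrArg Prod.fst (j54_inj (e.trans (map_one j54).symm)))
  rw [rotate_small i h']

theorem four_pair : ∀ ρ α : Equiv.Perm (Fin 4), ρ * ρ = 1 → ρ ≠ 1 → Equiv.Perm.sign ρ = 1 →
    α * α * α = 1 → α ≠ 1 →
    (∀ i, ρ i ≠ i) ∧ ∀ τ : Equiv.Perm (Fin 4), τ * ρ = ρ * τ → τ * α = α * τ → τ = 1 := by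
  decide +kernel

/-- An element commuting with the two generators of the last block lies on the first block. -/
theorem comm_four {q : Equiv.Perm (Fin 9)} {ρ α : Equiv.Perm (Fin 4)} (hρ : ρ * ρ = 1) (hρ1 : ρ ≠ 1)
    (hρs : Equiv.Perm.sign ρ = 1) (hα : α * α * α = 1) (hα1 : α ≠ 1) (h1 : q * j54 (1, ρ) = j54 (1, ρ) * q)
    (h2 : q * j54 (1, α) = j54 (1, α) * q) : ∃ σ, q = j54 (σ, 1) := by
  obtain ⟨hmove, hτ⟩ := four_pair ρ α hρ hρ1 hρs hα hα1
  obtain ⟨⟨σ, τ⟩, rfl⟩ := mem_j54 (q := q) fun i hi => by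
    refine not_le.1 fun hge => ?_
    have h := Equiv.ext_iff.1 h1 i
    rw [Equiv.Perm.mul_apply, Equiv.Perm.mul_apply, j54_fix_low ρ i hi] at h
    rcases split_pt (q i) with ⟨k, hk⟩ | ⟨k, hk⟩
    · exact absurd (hk ▸ castAdd_lt.1 k) (not_lt.2 hge)
    · rw [hk, (j54_apply (1, ρ)).2] at h
      exact hmove k (Fin.natAdd_injective _ _ h).symm
  rw [← map_mul, ← map_mul] at h1 h2
  exact ⟨σ, congrArg j54 (Prod.ext rfl (hτ τ (congrArg Prod.snd (j54_inj h1)) (congrArg Prod.snd (j54_inj h2))))⟩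

theorem four_gen : ∀ ρ α : Equiv.Perm (Fin 4), ρ * ρ = 1 → ρ ≠ 1 → Equiv.Perm.sign ρ = 1 →
    α * α * α = 1 → α ≠ 1 → ∀ τ : Equiv.Perm (Fin 4), Equiv.Perm.sign τ = 1 →
    ∃ i : Fin 3, τ = α ^ i.val ∨ τ = α ^ i.val * ρ ∨ τ = α ^ i.val * (α * ρ * α⁻¹) ∨
      τ = α ^ i.val * (ρ * (α * ρ * α⁻¹)) := by
  decide +kernel

/-- The generators of the last block generate its alternating group. -/
theorem four_closure {H : Subgroup (Equiv.Perm (Fin 9))} {ρ α : Equiv.Perm (Fin 4)} (hρ : ρ * ρ = 1)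
    (hρ1 : ρ ≠ 1) (hρs : Equiv.Perm.sign ρ = 1) (hα : α * α * α = 1) (hα1 : α ≠ 1)
    (hr : j54 (1, ρ) ∈ H) (ha : j54 (1, α) ∈ H) {τ : Equiv.Perm (Fin 4)} (hτ : Equiv.Perm.sign τ = 1) :
    j54 (1, τ) ∈ H := by
  let L : Subgroup (Equiv.Perm (Fin 4)) := H.comap (j54.comp (MonoidHom.inr _ _))
  have hrL : ρ ∈ L := hr
  have haL : α ∈ L := ha
  have hconj : α * ρ * α⁻¹ ∈ L := mul_mem (mul_mem haL hrL) (inv_mem haL)
  obtain ⟨i, e | e | e | e⟩ := four_gen ρ α hρ hρ1 hρs hα hα1 τ hτ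
  all_goals show τ ∈ L; rw [e]
  · exact pow_mem haL _
  · exact mul_mem (pow_mem haL _) hrL
  · exact mul_mem (pow_mem haL _) hconj
  · exact mul_mem (pow_mem haL _) (mul_mem hrL hconj)

/-- The extra generator. -/
def g45 : Equiv.Perm (Fin 9) := Equiv.swap 4 5 * Equiv.swap 6 7

theorem g45_facts : Equiv.Perm.sign g45 = 1 ∧ g45 * g45 = 1 := by decide +kernel

/-- The three-cycle through `0`, `1` and `k`. -/
def cyc3 (k : Fin 9) : Equiv.Perm (Fin 9) := Equiv.swap 0 1 * Equiv.swap 1 k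

theorem cyc3_low : ∀ k : Fin 9, 2 ≤ k → k < 5 → ∀ i : Fin 9, 5 ≤ i → cyc3 k i = i := by decide +kernel

theorem cyc3_sign : ∀ k : Fin 9, 2 ≤ k → Equiv.Perm.sign (cyc3 k) = 1 := by decide +kernel

theorem cyc3_moves : cyc3 5 = g45 * cyc3 4 * g45⁻¹ ∧
    ∀ k : Fin 9, 6 ≤ k → ∃ i : Fin 4, ∃ j : Fin 4,
      j54 (1, Equiv.swap i j * Equiv.swap 0 i) * cyc3 5 * (j54 (1, Equiv.swap i j * Equiv.swap 0 i))⁻¹ = cyc3 k ∧
      Equiv.Perm.sign (Equiv.swap i j * Equiv.swap 0 i) = 1 := by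
  decide +kernel

theorem double_swap : ∀ a b : Fin 9, a ≠ b →
    Equiv.swap a b * Equiv.swap 0 1 = 1 ∨
    (a ≤ 1 ∧ 2 ≤ b ∧ (Equiv.swap a b * Equiv.swap 0 1 = cyc3 b ∨ Equiv.swap a b * Equiv.swap 0 1 = (cyc3 b)⁻¹)) ∨
    (b ≤ 1 ∧ 2 ≤ a ∧ (Equiv.swap a b * Equiv.swap 0 1 = cyc3 a ∨ Equiv.swap a b * Equiv.swap 0 1 = (cyc3 a)⁻¹)) ∨
    (2 ≤ a ∧ 2 ≤ b ∧ Equiv.swap a b * Equiv.swap 0 1 = cyc3 a * cyc3 b * cyc3 b * cyc3 a) := by
  decide +kernel

/-- A subgroup with the two alternating blocks and the extra generator contains all even permutations. -/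
theorem gen_nine {H : Subgroup (Equiv.Perm (Fin 9))}
    (h5 : ∀ σ : Equiv.Perm (Fin 5), Equiv.Perm.sign σ = 1 → j54 (σ, 1) ∈ H)
    (h4 : ∀ ρ : Equiv.Perm (Fin 4), Equiv.Perm.sign ρ = 1 → j54 (1, ρ) ∈ H) (hg : g45 ∈ H)
    {q : Equiv.Perm (Fin 9)} (hq : Equiv.Perm.sign q = 1) : q ∈ H := by
  have low : ∀ k : Fin 9, 2 ≤ k → k < 5 → cyc3 k ∈ H := by
    intro k h2 hk
    obtain ⟨⟨σ, τ⟩, he⟩ := mem_j54 (q := cyc3 k) fun i hi => by
      refine not_le.1 fun hge => ?_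
      have := (cyc3 k).injective (cyc3_low k h2 hk (cyc3 k i) hge)
      exact absurd (this ▸ hge) (not_le.2 hi)
    have hτ : τ = 1 := Equiv.ext fun j => by
      have := cyc3_low k h2 hk (Fin.natAdd 5 j) (castAdd_lt.2 j)
      rw [he, (j54_apply (σ, τ)).2] at this
      exact Fin.natAdd_injective _ _ this
    subst hτ
    rw [he]
    refine h5 σ ?_
    have hs := cyc3_sign k h2
    rwa [he, sign_j54, map_one, mul_one] at hs
  have five : cyc3 5 ∈ H := by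
    rw [cyc3_moves.1]
    exact mul_mem (mul_mem hg (low 4 (by decide) (by decide))) (inv_mem hg)
  have cyc : ∀ k : Fin 9, 2 ≤ k → cyc3 k ∈ H := by
    intro k hk
    rcases lt_or_ge k 5 with h | h
    · exact low k hk h
    rcases eq_or_lt_of_le h with e | e
    · exact e ▸ five
    · obtain ⟨i, j, he, hs⟩ := cyc3_moves.2 k (by omega)
      rw [← he]
      exact mul_mem (mul_mem (h4 _ hs) five) (inv_mem (h4 _ hs))
  have dbl : ∀ a b : Fin 9, a ≠ b → Equiv.swap a b * Equiv.swap 0 1 ∈ H := by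
    intro a b hab
    rcases double_swap a b hab with e | ⟨-, hb, e | e⟩ | ⟨-, ha, e | e⟩ | ⟨ha, hb, e⟩
    · rw [e]; exact one_mem _
    · rw [e]; exact cyc b hb
    · rw [e]; exact inv_mem (cyc b hb)
    · rw [e]; exact cyc a ha
    · rw [e]; exact inv_mem (cyc a ha)
    · rw [e]; exact mul_mem (mul_mem (mul_mem (cyc a ha) (cyc b hb)) (cyc b hb)) (cyc a ha)
  have key : ∀ p : Equiv.Perm (Fin 9), (Equiv.Perm.sign p = 1 → p ∈ H) ∧
      (Equiv.Perm.sign p = -1 → Equiv.swap 0 1 * p ∈ H) := by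
    intro p
    induction p using Equiv.Perm.swap_induction_on with
    | one => exact ⟨fun _ => one_mem _, fun h => absurd h (by simp)⟩
    | swap_mul f a b hab ih =>
      have hs : Equiv.Perm.sign (Equiv.swap a b * f) = -Equiv.Perm.sign f := by
        rw [map_mul, Equiv.Perm.sign_swap hab, neg_one_mul]
      refine ⟨fun h => ?_, fun h => ?_⟩
      · have := mul_mem (dbl a b hab) (ih.2 (by rw [hs] at h; exact neg_eq_iff_eq_neg.1 h))
        rwa [← mul_assoc, mul_assoc (Equiv.swap a b), Equiv.swap_mul_self, mul_one] at this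
      · have hf : Equiv.Perm.sign f = 1 := by rw [hs] at h; simpa using h
        have := mul_mem (inv_mem (dbl a b hab)) (ih.1 hf)
        rwa [_root_.mul_inv_rev, Equiv.swap_inv, Equiv.swap_inv, mul_assoc] at this
  exact (key q).1 hq

theorem fix_low {y : Equiv.Perm (Fin 9)}
    (h1 : y * (Equiv.swap 0 1 * Equiv.swap 1 2) = Equiv.swap 0 1 * Equiv.swap 1 2 * y)
    (h2 : y * (Equiv.swap 1 2 * Equiv.swap 2 3) = Equiv.swap 1 2 * Equiv.swap 2 3 * y) :
    ∀ i : Fin 9, i < 4 → y i = i := by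
  obtain ⟨t, ht⟩ : ∃ t, t = (Equiv.swap 0 1 * Equiv.swap 1 2 : Equiv.Perm (Fin 9)) := ⟨_, rfl⟩
  obtain ⟨s, hs⟩ : ∃ s, s = (Equiv.swap 1 2 * Equiv.swap 2 3 : Equiv.Perm (Fin 9)) := ⟨_, rfl⟩
  rw [← ht] at h1
  rw [← hs] at h2
  have ey : ∀ i, y (t i) = t (y i) ∧ y (s i) = s (y i) := fun i =>
    ⟨Equiv.ext_iff.1 h1 i, Equiv.ext_iff.1 h2 i⟩
  have ft : t 0 = 1 ∧ t 1 = 2 ∧ s 0 = 0 ∧ s 2 = 3 ∧ ∀ a : Fin 9, s a = a → a ≠ 0 → t a = a := by
    subst ht hs
    decide +kernel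
  have e0 : y 0 = 0 := by
    by_contra hne
    have hfs : s (y 0) = y 0 := by rw [← (ey 0).2, ft.2.2.1]
    have := ft.2.2.2.2 _ hfs hne
    rw [← (ey 0).1, ft.1] at this
    exact absurd (y.injective this) (by decide)
  have e1 : y 1 = 1 := by rw [← ft.1, (ey 0).1, e0]
  have e2 : y 2 = 2 := by rw [← ft.2.1, (ey 1).1, e1]
  have e3 : y 3 = 3 := by rw [← ft.2.2.2.1, (ey 2).2, e2]
  intro i hi
  have : i = 0 ∨ i = 1 ∨ i = 2 ∨ i = 3 := by revert i; decide
  rcases this with rfl | rfl | rfl | rfl <;> assumption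

/-- The first test element. -/
def h1e : Equiv.Perm (Fin 5) × Equiv.Perm (Fin 4) :=
  (Equiv.swap 0 3 * Equiv.swap 1 2, Equiv.swap 1 3 * Equiv.swap 3 2)

/-- The second test element. -/
def h2e : Equiv.Perm (Fin 5) × Equiv.Perm (Fin 4) :=
  (Equiv.swap 0 3 * Equiv.swap 3 2, Equiv.swap 0 3 * Equiv.swap 1 2)

theorem test_g45 : (g45 * j54 h1e) ^ 2 = 1 ∧ (g45 * j54 h2e) ^ 3 = 1 ∧
    Equiv.Perm.sign h1e.1 = 1 ∧ Equiv.Perm.sign h1e.2 = 1 ∧ Equiv.Perm.sign h2e.1 = 1 ∧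
    Equiv.Perm.sign h2e.2 = 1 := by decide +kernel

/-- The embedding of the permutations of the last five points. -/
def j45 : Equiv.Perm (Fin 5) →* Equiv.Perm (Fin 9) :=
  ((finSumFinEquiv (m := 4) (n := 5)).permCongrHom.toMonoidHom.comp
    (Equiv.Perm.sumCongrHom (Fin 4) (Fin 5))).comp (MonoidHom.inr _ _)

theorem five_cases : ∀ τ : Equiv.Perm (Fin 5), τ * τ = 1 → Equiv.Perm.sign τ = 1 →
    (j45 τ * j54 h1e) ^ 2 = 1 → (j45 τ * j54 h2e) ^ 3 = 1 → j45 τ = g45 := by decide +kernel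

theorem split_pt' : ∀ a : Fin 9,
    (a < 4 ∧ ∃ i : Fin 4, a = Fin.castAdd 5 i) ∨ (4 ≤ a ∧ ∃ j : Fin 5, a = Fin.natAdd 4 j) := by decide +kernel

/-- The involution determined by two relations. -/
theorem eq_g45 {y : Equiv.Perm (Fin 9)}
    (hc1 : y * (Equiv.swap 0 1 * Equiv.swap 1 2) = Equiv.swap 0 1 * Equiv.swap 1 2 * y)
    (hc2 : y * (Equiv.swap 1 2 * Equiv.swap 2 3) = Equiv.swap 1 2 * Equiv.swap 2 3 * y) (hy : y * y = 1)
    (hs : Equiv.Perm.sign y = 1) (h1 : (y * j54 h1e) ^ 2 = 1) (h2 : (y * j54 h2e) ^ 3 = 1) : y = g45 := by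
  have hfix := fix_low hc1 hc2
  have hcl : ∀ i : Fin 4, (Fin.castAdd 5 i : Fin 9) < 4 := by decide +kernel
  obtain ⟨⟨σ, τ⟩, hp⟩ := Equiv.Perm.mem_sumCongrHom_range_of_perm_mapsTo_inl
    (σ := (finSumFinEquiv (m := 4) (n := 5)).symm.permCongr y) (by
      rintro _ ⟨i, rfl⟩
      exact ⟨i, by
        simp only [Equiv.permCongr_apply, Equiv.symm_symm, finSumFinEquiv_apply_left, hfix _ (hcl i),
          finSumFinEquiv_symm_apply_castAdd]⟩)
  have hy' : y = (finSumFinEquiv (m := 4) (n := 5)).permCongr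
      (Equiv.Perm.sumCongrHom (Fin 4) (Fin 5) (σ, τ)) := by
    rw [hp]
    ext i
    simp
  have hσ : σ = 1 := Equiv.ext fun i => by
    have h := hfix _ (hcl i)
    rw [hy'] at h
    change finSumFinEquiv (Sum.map σ τ (finSumFinEquiv.symm (Fin.castAdd 5 i))) = Fin.castAdd 5 i at h
    rw [finSumFinEquiv_symm_apply_castAdd, Sum.map_inl, finSumFinEquiv_apply_left] at h
    exact Fin.castAdd_injective _ _ h
  subst hσ
  have hy'' : y = j45 τ := hy'
  subst hy''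
  have hinj : Function.Injective j45 :=
    ((finSumFinEquiv (m := 4) (n := 5)).permCongrHom.injective.comp Equiv.Perm.sumCongrHom_injective).comp
      fun a b h => congrArg Prod.snd h
  have ht : τ * τ = 1 := hinj (by rw [map_mul, hy, map_one])
  have hts : Equiv.Perm.sign τ = 1 := by simpa [j45] using hs
  exact five_cases τ ht hts h1 h2

theorem cycleType_invol {p : Equiv.Perm (Fin 9)} {n : ℕ} (h : p * p = 1) (hc : p.support.card = 2 * (n + 1)) :
    p.cycleType = Multiset.replicate (n + 1) 2 := by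
  have hne : p ≠ 1 := fun e => by rw [e, Equiv.Perm.support_one, Finset.card_empty] at hc; omega
  have ho : orderOf p = 2 := orderOf_eq_prime (by rw [pow_two, h]) hne
  obtain ⟨m, hm⟩ := Equiv.Perm.cycleType_prime_order (σ := p) (by rw [ho]; norm_num)
  have hs := Equiv.Perm.sum_cycleType p
  rw [hm, ho, Multiset.sum_replicate, smul_eq_mul, hc] at hs
  rw [hm, ho]
  congr 1
  omega

/-- Even conjugation of involutions with supports of the same size. -/
theorem conj_invol {p q : Equiv.Perm (Fin 9)} {n : ℕ} (hp : p * p = 1) (hq : q * q = 1)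
    (hpc : p.support.card = 2 * (n + 1)) (hqc : q.support.card = 2 * (n + 1)) :
    ∃ π, Equiv.Perm.sign π = 1 ∧ π * q * π⁻¹ = p := by
  obtain ⟨π, hπ⟩ := isConj_iff.1 (Equiv.Perm.isConj_iff_cycleType_eq.2
    ((cycleType_invol hq hqc).trans (cycleType_invol hp hpc).symm))
  rcases Int.units_eq_one_or (Equiv.Perm.sign π) with hs | hs
  · exact ⟨π, hs, hπ⟩
  obtain ⟨i, hi⟩ := Finset.card_pos.1 (show 0 < q.support.card by omega)
  rw [Equiv.Perm.mem_support] at hi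
  have hqq : q (q i) = i := by
    rw [← Equiv.Perm.mul_apply, hq]; rfl
  have hsw : q * Equiv.swap i (q i) * q⁻¹ = Equiv.swap i (q i) := by
    rw [Equiv.mul_swap_eq_swap_mul, mul_inv_cancel_right, hqq, Equiv.swap_comm]
  refine ⟨π * Equiv.swap i (q i), ?_, ?_⟩
  · rw [map_mul, hs, Equiv.Perm.sign_swap (Ne.symm hi)]; rfl
  · calc π * Equiv.swap i (q i) * q * (π * Equiv.swap i (q i))⁻¹
        = π * (Equiv.swap i (q i) * q) * (Equiv.swap i (q i))⁻¹ * π⁻¹ := by group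
      _ = π * (q * Equiv.swap i (q i)) * (Equiv.swap i (q i))⁻¹ * π⁻¹ := by
          rw [show q * Equiv.swap i (q i) = Equiv.swap i (q i) * q from mul_inv_eq_iff_eq_mul.1 hsw]
      _ = π * q * π⁻¹ := by group
      _ = p := hπ

theorem support_four : ∀ ρ : Equiv.Perm (Fin 4), ρ * ρ = 1 → ρ ≠ 1 → Equiv.Perm.sign ρ = 1 →
    (j54 (1, ρ)).support.card = 4 := by decide +kernel

theorem support_eight : ∀ σ : Equiv.Perm (Fin 5), σ * σ = 1 → σ ≠ 1 → Equiv.Perm.sign σ = 1 →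
    ∀ ρ : Equiv.Perm (Fin 4), ρ * ρ = 1 → ρ ≠ 1 → Equiv.Perm.sign ρ = 1 →
    (j54 (σ, ρ)).support.card = 8 := by decide +kernel

theorem alt_five_facts : ∀ p q : ↥(alternatingGroup (Fin 5)), p * p = 1 → p ≠ 1 → q * q = 1 → q ≠ 1 →
    ∃ k, k * p * k⁻¹ = q := by decide +kernel

theorem alt_five_comm : ∀ p : ↥(alternatingGroup (Fin 5)), p * p = 1 → p ≠ 1 →
    ∃ q, q * q = 1 ∧ q ≠ 1 ∧ q ≠ p ∧ q * p = p * q := by decide +kernel

theorem alt_five_centre : ∀ p : ↥(alternatingGroup (Fin 5)), (∀ q, p * q = q * p) → p = 1 := by decide +kernel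

/-- The table of the symmetric group of degree three. -/
theorem three_table : ∀ s t : Equiv.Perm (Fin 3),
    ((s * t) 0).val = ((s 0).val + (if Equiv.Perm.sign s = 1 then 1 else 2) * (t 0).val) % 3 ∧
    (if Equiv.Perm.sign (s * t) = 1 then 0 else 1 : ℕ) =
      ((if Equiv.Perm.sign s = 1 then 0 else 1) + (if Equiv.Perm.sign t = 1 then 0 else 1)) % 2 := by
  decide +kernel

theorem three_inj : ∀ s : Equiv.Perm (Fin 3), s 0 = 0 → Equiv.Perm.sign s = 1 → s = 1 := by decide +kernel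

theorem three_gen : ∀ i : Fin 3, (∃ s : Equiv.Perm (Fin 3), s 0 = i ∧ Equiv.Perm.sign s = 1) ∧
    ∃ s : Equiv.Perm (Fin 3), s 0 = i ∧ Equiv.Perm.sign s = -1 := by decide +kernel

end CfsgLib.Co1Loc.NineW
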