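import Cfsg.Agent.Co1Loc.NineClasses
import Cfsg.Agent.Co1Golay.Main
import Cfsg.Agent.Golay.InvCount

/-!
The centraliser of the element of order three and its normaliser, given the behaviour of the two classes of
elements of order three in the normaliser of the elementary subgroup.
-/

set_option autoImplicit false
set_option maxRecDepth 100000
set_option synthInstance.maxSize 4096
set_option linter.style.haveILetI false
set_option linter.unusedSectionVars false
set_option linter.unusedVariables false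

namespace CfsgLib.Co1Loc.NineW

open CfsgLib CfsgLib.Quad CfsgLib.Co1Invol CfsgLib.Co1Five CfsgLib.Co1Golay Subgroup
open CfsgLib.Golay (toList)
open CfsgLib.Golay.Cert (rep3A rep3B)

variable {G : Type*} [Group G] [Finite G] {z : G}

/-- What is used about lifts of elements with six fixed points. -/
def NoA {D' : Dat z} (B : Base D') (A : Subgroup G) : Prop :=
  ∀ n ∈ normalizer (A : Set G), ∀ σ : ↥Cfsg.M24, Rel B n (σ : Equiv.Perm Cfsg.GolayPt) →
    toList (σ : Equiv.Perm Cfsg.GolayPt) = rep3A →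
    ∀ c ∈ A, c ≠ 1 → ¬ IsConj z c → c * n = n * c →
    ∀ E : Subgroup G, E ≤ normalizer (A : Set G) → (∀ x ∈ E, x * x = 1) → (∀ x ∈ E, x * n = n * x) →
      (∀ x ∈ E, x * c = c * x) → 16 ≤ Nat.card E → (∀ x ∈ E, x ∈ A → ¬ IsConj z x) → False

/-- What is used about lifts of elements without fixed points. -/
def CentB {D' : Dat z} (B : Base D') (A : Subgroup G) : Prop :=
  ∀ w ∈ normalizer (A : Set G), orderOf w = 3 → ∀ σ : ↥Cfsg.M24, Rel B w (σ : Equiv.Perm Cfsg.GolayPt) →
    toList (σ : Equiv.Perm Cfsg.GolayPt) = rep3B →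
    (∃ x ∈ centralizer ({w} : Set G), orderOf x = 10) →
    ∃ φ : ↥(centralizer ({w} : Set G)) →* ↥(alternatingGroup (Fin 9)), Function.Surjective φ ∧
      φ.ker = (zpowers w).subgroupOf (centralizer ({w} : Set G))

/-- Transport of the map to a conjugate. -/
theorem phi_transport {X : Type*} [Group X] {w : G} (g : G)
    (φ : ↥(centralizer ({g * w * g⁻¹} : Set G)) →* X) (hs : Function.Surjective φ)
    (hk : φ.ker = (zpowers (g * w * g⁻¹)).subgroupOf (centralizer ({g * w * g⁻¹} : Set G))) :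
    ∃ ψ : ↥(centralizer ({w} : Set G)) →* X, Function.Surjective ψ ∧ ∀ c, ψ c = 1 ↔ (c : G) ∈ zpowers w := by
  have hm : ∀ y, y ∈ centralizer ({w} : Set G) ↔ g * y * g⁻¹ ∈ centralizer ({g * w * g⁻¹} : Set G) := fun y => by
    rw [mem_centralizer_singleton_iff, mem_centralizer_singleton_iff, ← MulAut.conj_apply, ← MulAut.conj_apply,
      ← map_mul, ← map_mul, (MulAut.conj g).injective.eq_iff]
  let m : ↥(centralizer ({w} : Set G)) →* ↥(centralizer ({g * w * g⁻¹} : Set G)) :=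
    MonoidHom.mk' (fun y => ⟨g * y * g⁻¹, (hm y).1 y.2⟩) fun a b => Subtype.ext (by
      show g * ((a : G) * b) * g⁻¹ = g * a * g⁻¹ * (g * b * g⁻¹)
      group)
  have hmsurj : Function.Surjective m := fun y => by
    refine ⟨⟨g⁻¹ * y * g, (hm _).2 ?_⟩, Subtype.ext ?_⟩
    · rw [show g * (g⁻¹ * (y : G) * g) * g⁻¹ = y by group]; exact y.2
    · show g * (g⁻¹ * (y : G) * g) * g⁻¹ = y
      group
  refine ⟨φ.comp m, hs.comp hmsurj, fun c => ?_⟩
  rw [MonoidHom.comp_apply, ← MonoidHom.mem_ker, hk, mem_subgroupOf]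
  show (MulAut.conj g).toMonoidHom (c : G) ∈ zpowers ((MulAut.conj g).toMonoidHom w) ↔ _
  rw [← MonoidHom.map_zpowers]
  exact mem_map_iff_mem (MulAut.conj g).injective

theorem exists_phi {D : Dat z} {b x : G} (F : Five D b) (S : Split D b x)
    {D' : Dat z} {B : Base D'} (St : Pr B w2 v2) (Su : Pr B x1 x2) (hB : Good B) {c t : G}
    (hK : Nonempty (↥(compl b x) ≃* ↥(alternatingGroup (Fin 5))))
    (Cl : Cls D (Ab B hB) c t) {w r r' a u v y : G} (W : Wit D b x w r r' a u v y)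
    (hA : NoA B (Ab B hB)) (hC : CentB B (Ab B hB)) :
    ∃ φ : ↥(centralizer ({w} : Set G)) →* ↥(alternatingGroup (Fin 9)), Function.Surjective φ ∧
      ∀ g, φ g = 1 ↔ (g : G) ∈ zpowers w := by
  classical
  obtain ⟨htr, htx, hcrx⟩ := base_classes S Cl W
  obtain ⟨E, hE2, hEw, hrxE, h16, hEz⟩ := exists_sixteen hK S Cl W
  obtain ⟨g₁, hg₁⟩ := isConj_iff.1 hcrx.symm
  obtain ⟨θ, hθ, hker, hsurj, -⟩ := exists_iso St Su hB
  let A : Subgroup G := Ab B hB
  -- the conjugate of the element of order three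
  have hgen : ∀ g : G, g * (r * x) * g⁻¹ ∈ A →
      g * w * g⁻¹ ∈ normalizer (A : Set G) ∧ E.map (MulAut.conj g).toMonoidHom ≤ normalizer (A : Set G) ∧
        g * (r * x) * g⁻¹ * (g * w * g⁻¹) = g * w * g⁻¹ * (g * (r * x) * g⁻¹) ∧
        g * (r * x) * g⁻¹ ≠ 1 ∧ ¬ IsConj z (g * (r * x) * g⁻¹) := by
    intro g hg
    have hcz : ¬ IsConj z (g * (r * x) * g⁻¹) := fun h =>
      Cl.not_zc ((h.trans (isConj_iff.2 ⟨g, rfl⟩ : IsConj (r * x) (g * (r * x) * g⁻¹)).symm).trans hcrx.symm)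
    have hne : g * (r * x) * g⁻¹ ≠ 1 := fun h => Cl.ne_one (isConj_one_left.1
      ((h ▸ (isConj_iff.2 ⟨g, rfl⟩ : IsConj (r * x) (g * (r * x) * g⁻¹))).symm.trans hcrx.symm).symm)
    have hcomm : ∀ e : G, e * (r * x) = r * x * e →
        g * e * g⁻¹ * (g * (r * x) * g⁻¹) = g * (r * x) * g⁻¹ * (g * e * g⁻¹) := fun e he => by
      rw [show g * e * g⁻¹ * (g * (r * x) * g⁻¹) = g * (e * (r * x)) * g⁻¹ by group, he]; group
    have hE : ∀ e ∈ E, e * (r * x) = r * x * e := fun e he => by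
      have h := hE2 _ (mul_mem he hrxE)
      calc e * (r * x) = (e * (r * x))⁻¹ := (inv_eq_of_mul_eq_one_right h).symm
        _ = (r * x)⁻¹ * e⁻¹ := mul_inv_rev _ _
        _ = r * x * e := by
          rw [inv_eq_of_mul_eq_one_right (hE2 _ hrxE), inv_eq_of_mul_eq_one_right (hE2 e he)]
    refine ⟨Cl.cent _ hg hne hcz (mem_centralizer_singleton_iff.2 (hcomm w (hEw _ hrxE).symm)), ?_,
      (hcomm w (hEw _ hrxE).symm).symm, hne, hcz⟩
    rintro _ ⟨e, he, rfl⟩
    exact Cl.cent _ hg hne hcz (mem_centralizer_singleton_iff.2 (hcomm e (hE e he)))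
  have h1 := hgen g₁ (hg₁ ▸ Cl.memA)
  have hw3 : ∀ g : G, orderOf (g * w * g⁻¹) = 3 := fun g => by
    rw [← MulAut.conj_apply, MulEquiv.orderOf_eq, W.ordw]
  let n₁ : ↥(normalizer (A : Set G)) := ⟨g₁ * w * g₁⁻¹, h1.1⟩
  have hn3 : orderOf (θ n₁) = 3 := by
    haveI : Fact (Nat.Prime 3) := ⟨Nat.prime_three⟩
    have h3 : n₁ ^ 3 = 1 := Subtype.ext (by
      rw [SubgroupClass.coe_pow, ← hw3 g₁, Subgroup.coe_one]; exact pow_orderOf_eq_one _)
    refine orderOf_eq_prime (by rw [← map_pow, h3, map_one]) fun h => ?_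
    have hmem : (n₁ : G) ∈ A := by
      have : n₁ ∈ θ.ker := h
      rwa [hker, mem_subgroupOf] at this
    have h2 := (Ab_elementary hB).2 _ hmem
    have : orderOf (g₁ * w * g₁⁻¹) ∣ 2 := orderOf_dvd_of_pow_eq_one h2
    rw [hw3] at this
    norm_num at this
  obtain ⟨k, hk⟩ := CfsgLib.Golay.Cert.three_cases hn3
  obtain ⟨kk, hkk⟩ := hsurj k
  set g := (kk : G) * g₁ with hg
  have hgA : g * (r * x) * g⁻¹ ∈ A := by
    have := (mem_normalizer_iff.1 kk.2 c).1 Cl.memA
    rwa [hg, show (kk : G) * g₁ * (r * x) * ((kk : G) * g₁)⁻¹ = kk * (g₁ * (r * x) * g₁⁻¹) * (kk : G)⁻¹ by group,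
      hg₁]
  obtain ⟨hnN, hEN, hcn, hc1, hcz⟩ := hgen g hgA
  have hθn : θ ⟨g * w * g⁻¹, hnN⟩ = k * θ n₁ * k⁻¹ := by
    rw [← hkk, ← map_inv, ← map_mul, ← map_mul]
    congr 1
    apply Subtype.ext
    show g * w * g⁻¹ = (kk : G) * (g₁ * w * g₁⁻¹) * (kk : G)⁻¹
    rw [hg]; group
  have hrel := hθ ⟨g * w * g⁻¹, hnN⟩
  rw [hθn] at hrel
  rcases hk with ⟨hk, -⟩ | ⟨hk, -⟩
  · exfalso
    refine hA _ hnN (k * θ n₁ * k⁻¹) hrel hk _ hgA hc1 hcz hcn (E.map (MulAut.conj g).toMonoidHom) hEN ?_ ?_ ?_ ?_ ?_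
    · rintro _ ⟨e, he, rfl⟩
      rw [← map_mul, hE2 e he, map_one]
    · rintro _ ⟨e, he, rfl⟩
      simp only [MulEquiv.coe_toMonoidHom, MulAut.conj_apply]
      rw [show g * e * g⁻¹ * (g * w * g⁻¹) = g * (e * w) * g⁻¹ by group, hEw e he]; group
    · rintro _ ⟨e, he, rfl⟩
      simp only [MulEquiv.coe_toMonoidHom, MulAut.conj_apply]
      have h := hE2 _ (mul_mem he hrxE)
      have he2 : e * (r * x) = r * x * e := by
        calc e * (r * x) = (e * (r * x))⁻¹ := (inv_eq_of_mul_eq_one_right h).symm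
          _ = (r * x)⁻¹ * e⁻¹ := mul_inv_rev _ _
          _ = r * x * e := by
            rw [inv_eq_of_mul_eq_one_right (hE2 _ hrxE), inv_eq_of_mul_eq_one_right (hE2 e he)]
      rw [show g * e * g⁻¹ * (g * (r * x) * g⁻¹) = g * (e * (r * x)) * g⁻¹ by group, he2]; group
    · rw [card_map_of_injective (MulAut.conj g).injective]
      exact h16
    · rintro _ ⟨e, he, rfl⟩ - hz
      exact hEz e he (hz.trans (isConj_iff.2 ⟨g, rfl⟩ : IsConj e (g * e * g⁻¹)).symm)
  · obtain ⟨φ, hφs, hφk⟩ := hC _ hnN (hw3 g) (k * θ n₁ * k⁻¹) hrel hk ⟨g * (r * b) * g⁻¹, by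
        have hrb : (r * b) * w = w * (r * b) :=
          ((show Commute r w from W.comm_wr.symm).mul_left
            (show Commute b w from cent_compl_comm W.memw (mem_compl b x).1)).eq
        rw [mem_centralizer_singleton_iff,
          show g * (r * b) * g⁻¹ * (g * w * g⁻¹) = g * (r * b * w) * g⁻¹ by group, hrb]
        group, by
        rw [← MulAut.conj_apply, MulEquiv.orderOf_eq,
          (show Commute r b from (cent_compl_comm W.memr (mem_compl b x).1).symm).orderOf_mul_eq_mul_orderOf_of_coprime,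
          W.ordr]
        all_goals
          haveI : Fact (Nat.Prime 5) := ⟨by norm_num⟩
          rw [orderOf_eq_prime F.pow F.ne_one]
        rw [W.ordr]; norm_num⟩
    exact phi_transport g φ hφs hφk

/-- The element of order three, from the facts on the elementary subgroup. -/
theorem w_part_of {D : Dat z} {b x : G} (F : Five D b) (S : Split D b x)
    {D' : Dat z} {B : Base D'} (St : Pr B w2 v2) (Su : Pr B x1 x2) (hB : Good B) {c t : G}
    (hK : Nonempty (↥(compl b x) ≃* ↥(alternatingGroup (Fin 5))))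
    (Cl : Cls D (Ab B hB) c t) {w r r' a u v y : G} (W : Wit D b x w r r' a u v y)
    (hA : NoA B (Ab B hB)) (hC : CentB B (Ab B hB)) :
    (∃ f : ↥(alternatingGroup (Fin 9)) →* G, Nine c t w a r (compl b x) f) ∧
      Nonempty (↥(normalizer (zpowers w : Set G)) ≃* Equiv.Perm (Fin 3) × alternatingGroup (Fin 9)) := by
  obtain ⟨φ, hφs, hφk⟩ := exists_phi F S St Su hB hK Cl W hA hC
  obtain ⟨htr, htx, hcrx⟩ := base_classes S Cl W
  have ha_out : a ∉ zpowers w := by
    have hne : ∀ {g : G}, (∃ h ∈ centralizer (compl b x : Set G), h * g * h⁻¹ = w) → g ≠ 1 := by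
      rintro g ⟨h, -, e⟩ rfl
      have h3 := W.ordw
      rw [← e, mul_one, mul_inv_cancel, orderOf_one] at h3
      omega
    rintro ⟨n, hn⟩
    have hn' : w ^ n = a := hn
    rw [← zpow_mod_orderOf, W.ordw] at hn'
    rcases (show n % 3 = 0 ∨ n % 3 = 1 ∨ n % 3 = 2 by omega) with e | e | e <;>
      rw [show ((3 : ℕ) : ℤ) = 3 from rfl, e] at hn'
    · have h3 := W.orda
      rw [← hn', zpow_zero, orderOf_one] at h3
      omega
    · exact hne W.conj_wa' (by rw [← hn', zpow_one, mul_inv_cancel])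
    · refine hne W.conj_wa ?_
      rw [← hn', show w ^ (2 : ℤ) = w ^ (2 : ℕ) from zpow_natCast w 2, ← pow_succ']
      exact (show w ^ 3 = 1 from W.ordw ▸ pow_orderOf_eq_one w)
  have I : Input w r a u x b (compl b x) :=
    { ordw := W.ordw
      u2 := by rw [← pow_two, ← W.ordu, pow_orderOf_eq_one]
      inv := W.inv_uw
      r2 := by rw [← pow_two, ← W.ordr, pow_orderOf_eq_one]
      r_ne := fun e => by
        have h := W.ordr
        rw [e, orderOf_one] at h
        omega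
      a3 := by
        rw [← pow_two, ← pow_succ]
        exact (show a ^ 3 = 1 from W.orda ▸ pow_orderOf_eq_one a)
      a_out := ha_out
      b5 := F.pow
      b_ne := F.ne_one
      x2 := S.sq
      x_ne := x_ne S
      bK := (mem_compl b x).1
      xK := (mem_compl b x).2
      iso := hK
      K_w := fun k hk => cent_compl_comm W.memw hk
      K_r := fun k hk => cent_compl_comm W.memr hk
      K_a := fun k hk => cent_compl_comm W.mema hk
      r_w := W.comm_wr.symm
      a_w := W.comm_wa.symm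
      u_r := W.comm_ur
      u_a := W.comm_ua
      u_K := fun k hk => (cent_compl_comm W.memu hk).symm }
  obtain ⟨f, hfi, hfw, hfu, hmeet, hdec, hfive, hfa, hfr, hdbl, hquad⟩ := I.main hφs hφk
  exact ⟨⟨f, ⟨hfi, hfw, hmeet, hdec, hfive, hfa, hfr, fun p hp h => htr.trans (hdbl p hp h),
    fun p hp h => hcrx.trans (hquad p hp h)⟩⟩, I.normalizer_iso hfw hfu hmeet hdec⟩

end CfsgLib.Co1Loc.NineW
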