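import Cfsg.Agent.Co1Loc.Mask

/-!
Subgroups of the elementary subgroup free of conjugates of the central involution have at most eight
elements, and standard forms for them.
-/

set_option autoImplicit false
set_option maxRecDepth 100000
set_option synthInstance.maxSize 4096
set_option linter.style.haveILetI false
set_option linter.unusedSectionVars false

namespace CfsgLib.Co1Loc

open CfsgLib CfsgLib.Quad CfsgLib.Co1Invol CfsgLib.Co1Golay Subgroup
open scoped Pointwise

variable {G : Type*} [Group G] [Finite G] {z : G} {D : Dat z} {B : Base D} {hB : Good B}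
  {θ : ↥(normalizer (Ab B hB : Set G)) →* ↥Cfsg.M24}

/-- A subgroup of the elementary subgroup free of conjugates of the central involution. -/
def Pure (B : Base D) (hB : Good B) (S : Subgroup G) : Prop :=
  S ≤ Ab B hB ∧ ∀ x ∈ S, x ≠ 1 → ¬ IsConj z x

/-- The conjugate of a subgroup. -/
def cj (g : G) (S : Subgroup G) : Subgroup G := S.map (MulAut.conj g).toMonoidHom

theorem mem_cj {g x : G} {S : Subgroup G} : x ∈ cj g S ↔ g⁻¹ * x * g ∈ S := by
  constructor
  · rintro ⟨a, ha, rfl⟩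
    show g⁻¹ * (g * a * g⁻¹) * g ∈ S
    rwa [show g⁻¹ * (g * a * g⁻¹) * g = a by group]
  · intro h
    exact ⟨_, h, show g * (g⁻¹ * x * g) * g⁻¹ = x by group⟩

theorem conj_mem_cj {g a : G} {S : Subgroup G} (h : a ∈ S) : g * a * g⁻¹ ∈ cj g S := ⟨a, h, rfl⟩

theorem card_cj (g : G) (S : Subgroup G) : Nat.card (cj g S) = Nat.card S :=
  Subgroup.card_map_of_injective (MulAut.conj g).injective

theorem conj_z_iff (g x : G) : IsConj z (g * x * g⁻¹) ↔ IsConj z x :=
  ⟨fun h => h.trans (isConj_iff.2 ⟨g, rfl⟩).symm, fun h => h.trans (isConj_iff.2 ⟨g, rfl⟩)⟩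

theorem Pure.conj {S : Subgroup G} (hS : Pure B hB S) (n : ↥(normalizer (Ab B hB : Set G))) :
    Pure B hB (cj (n : G) S) := by
  refine ⟨?_, ?_⟩
  · rintro _ ⟨a, ha, rfl⟩
    exact (mem_normalizer_iff.1 n.2 _).1 (hS.1 ha)
  · rintro _ ⟨a, ha, rfl⟩ hne
    show ¬ IsConj z ((n : G) * a * (n : G)⁻¹)
    rw [conj_z_iff]
    exact hS.2 a ha fun e => hne (by rw [e, map_one])

variable (St : Pr B w2 v2) (Su : Pr B x1 x2)

include St Su

theorem Pure.dod {S : Subgroup G} (hS : Pure B hB S) {m : ℕ} (hm : m < 2048) (hm0 : m ≠ 0)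
    (h : phi B m ∈ S) : dodSet.testBit m = true :=
  (phi_dod St Su hB hm).2 ⟨fun e => hm0 (phi_eq_one hB hm e), hS.2 _ h fun e => hm0 (phi_eq_one hB hm e)⟩

omit St Su in
theorem exists_outside {S T : Subgroup G} (h : Nat.card T < Nat.card S) : ∃ x ∈ S, x ∉ T := by
  by_contra hno
  push Not at hno
  exact absurd (Subgroup.card_le_of_le (show S ≤ T from hno)) (by omega)

omit St Su in
theorem card_evGroup_le (L : List G) (hL : InvList L) : Nat.card (evGroup L hL) ≤ 2 ^ L.length := by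
  rw [← Nat.card_fin (2 ^ L.length)]
  refine Nat.card_le_card_of_surjective (fun i : Fin (2 ^ L.length) => (⟨ev L i.val, i.val, rfl⟩ : evGroup L hL)) ?_
  rintro ⟨x, hx⟩
  obtain ⟨a, ha, rfl⟩ := exists_lt hx
  exact ⟨⟨a, ha⟩, rfl⟩

omit St Su in
theorem invList_of_mem {L : List G} (h : ∀ g ∈ L, g ∈ Ab B hB) : InvList L := by
  refine ⟨fun g hg => ?_, fun g hg g' hg' => Ab_comm hB (h g hg) (h g' hg')⟩
  obtain ⟨m, -, rfl⟩ := mem_Ab.1 (h g hg)
  exact ev_sq (invList_gens B hB) m

/-- The standard form of a subgroup of order at least four. -/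
theorem Pure.normal_two (T : Act B hB θ) {S : Subgroup G} (hS : Pure B hB S) {c : G} (hc : c ∈ S) (hc1 : c ≠ 1)
    (h4 : 4 ≤ Nat.card S) : ∃ n : ↥(normalizer (Ab B hB : Set G)),
      phi B 40 ∈ cj (n : G) S ∧ phi B mTwo ∈ cj (n : G) S := by
  obtain ⟨n₁, hn₁, he⟩ := orbit_dod St Su hB (hS.1 hc) hc1 (hS.2 c hc hc1)
  set S' := cj n₁ S
  have hS' : Pure B hB S' := hS.conj ⟨n₁, hn₁⟩
  have h40 : phi B 40 ∈ S' := he ▸ conj_mem_cj hc
  have hL : InvList [phi B 40] := invList_of_mem (hB := hB) fun g hg => by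
    rw [List.mem_singleton.1 hg]; exact phi_mem hB 40
  obtain ⟨x, hx, hxn⟩ := exists_outside (S := S') (T := evGroup [phi B 40] hL)
    (lt_of_le_of_lt (card_evGroup_le _ hL) (by rw [card_cj]; simpa using lt_of_lt_of_le (by norm_num) h4))
  obtain ⟨m, hm, rfl⟩ := mem_Ab.1 (hS'.1 hx)
  have hm0 : m ≠ 0 := fun e => hxn (by rw [e]; exact ⟨0, (ev_zero _).trans (ev_zero _).symm⟩)
  have hm40 : m ^^^ 40 ≠ 0 := fun e => hxn ⟨1, by
    rw [Nat.xor_eq_zero_iff.1 e]; simp [ev]⟩
  obtain ⟨g, hg, hgm⟩ := exists_move_two hm (hS'.dod St Su hm hm0 hx)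
    (hS'.dod St Su (Nat.xor_lt_two_pow (n := 11) hm (by norm_num)) hm40 (by
      rw [phi_xor hB]; exact mul_mem hx h40))
  obtain ⟨n₂, rfl⟩ := T.surj g
  have e40 := T.conj_eq n₂ (m := 40) (m' := 40) (by norm_num) (by norm_num) hg
  have em := T.conj_eq n₂ hm forty_dod.2.2.2.1 hgm
  refine ⟨n₂ * ⟨n₁, hn₁⟩, ?_, ?_⟩
  · refine mem_cj.2 ?_
    rw [← e40]
    have := mem_cj.1 h40
    simpa [mul_assoc] using this
  · refine mem_cj.2 ?_
    rw [← em]
    have := mem_cj.1 hx
    simpa [mul_assoc] using this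

/-- A third member outside the span of the first two is listed. -/
theorem Pure.third {S : Subgroup G} (hS : Pure B hB S) (h40 : phi B 40 ∈ S) (h2 : phi B mTwo ∈ S) {m : ℕ}
    (hm : m < 2048) (hx : phi B m ∈ S) (hn : m ∉ spanTwo) : m ∈ thirds := by
  refine mem_thirds hm hn fun e he => ?_
  have hel : e < 2048 := by
    simp only [spanTwo, List.mem_cons, List.not_mem_nil, or_false] at he
    rcases he with rfl | rfl | rfl | rfl
    exacts [by norm_num, by norm_num, forty_dod.2.2.2.1,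
      Nat.xor_lt_two_pow (n := 11) (by norm_num) forty_dod.2.2.2.1]
  refine hS.dod St Su (Nat.xor_lt_two_pow (n := 11) hm hel) (fun e' => hn (Nat.xor_eq_zero_iff.1 e' ▸ he)) ?_
  rw [phi_xor hB]
  refine mul_mem hx ?_
  simp only [spanTwo, List.mem_cons, List.not_mem_nil, or_false] at he
  rcases he with rfl | rfl | rfl | rfl
  · rw [show phi B 0 = 1 from ev_zero _]; exact one_mem _
  · exact h40
  · exact h2
  · rw [phi_xor hB]; exact mul_mem h40 h2

omit St Su in
theorem phi_span (hB : Good B) {S : Subgroup G} (h40 : phi B 40 ∈ S) (h2 : phi B mTwo ∈ S) {e : ℕ} (he : e ∈ spanTwo) :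
    phi B e ∈ S := by
  simp only [spanTwo, List.mem_cons, List.not_mem_nil, or_false] at he
  rcases he with rfl | rfl | rfl | rfl
  · rw [show phi B 0 = 1 from ev_zero _]; exact one_mem _
  · exact h40
  · exact h2
  · rw [phi_xor hB]; exact mul_mem h40 h2

omit St Su in
/-- A member outside the standard four. -/
theorem exists_third {S : Subgroup G} (hle : S ≤ Ab B hB) (h8 : 8 ≤ Nat.card S) :
    ∃ m < 2048, phi B m ∈ S ∧ m ∉ spanTwo := by
  have hL : InvList [phi B 40, phi B mTwo] := invList_of_mem (hB := hB) fun g hg => by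
    rcases List.mem_cons.1 hg with e | e
    · rw [e]; exact phi_mem hB 40
    · rw [List.mem_singleton.1 e]; exact phi_mem hB mTwo
  obtain ⟨x, hx, hxn⟩ := exists_outside (S := S) (T := evGroup [phi B 40, phi B mTwo] hL)
    (lt_of_le_of_lt (card_evGroup_le _ hL) (by simpa using lt_of_lt_of_le (by norm_num) h8))
  obtain ⟨m, hm, rfl⟩ := mem_Ab.1 (hle hx)
  refine ⟨m, hm, hx, fun he => hxn ?_⟩
  simp only [spanTwo, List.mem_cons, List.not_mem_nil, or_false] at he
  rcases he with rfl | rfl | rfl | rfl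
  · exact ⟨0, (ev_zero _).trans (ev_zero _).symm⟩
  · exact ⟨1, by simp [ev]⟩
  · exact ⟨2, by simp [ev]⟩
  · exact ⟨3, by rw [phi_xor hB]; simp [ev]⟩

/-- Such a subgroup has at most eight elements. -/
theorem Pure.card_le_eight (T : Act B hB θ) {S : Subgroup G} (hS : Pure B hB S) : Nat.card S ≤ 8 := by
  by_contra hgt
  have h16 : 16 ≤ Nat.card S := by
    obtain ⟨k, hk⟩ := two_pow_of_sq (E := S) fun x hx => by
      obtain ⟨m, -, rfl⟩ := mem_Ab.1 (hS.1 hx)
      exact ev_sq (invList_gens B hB) m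
    rw [hk] at hgt ⊢
    have h4 : 4 ≤ k := by
      by_contra h4
      exact hgt ((Nat.pow_le_pow_right (by norm_num) (show k ≤ 3 by omega)).trans (by norm_num))
    exact (Nat.pow_le_pow_right (by norm_num) h4 : 2 ^ 4 ≤ 2 ^ k)
  obtain ⟨c, hc, hc1⟩ : ∃ c ∈ S, c ≠ 1 := by
    by_contra hno
    push Not at hno
    have : S = ⊥ := (Subgroup.eq_bot_iff_forall S).2 hno
    rw [this, Subgroup.card_bot] at h16
    omega
  obtain ⟨n, h40, h2⟩ := hS.normal_two St Su T hc hc1 (by omega)
  set S' := cj (n : G) S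
  have hS' : Pure B hB S' := hS.conj n
  have hS16 : 16 ≤ Nat.card S' := by rw [card_cj]; exact h16
  obtain ⟨a, ha, haS, han⟩ := exists_third (S := S') hS'.1 (by omega)
  have haT := hS'.third St Su h40 h2 ha haS han
  have hL : InvList [phi B 40, phi B mTwo, phi B a] := invList_of_mem (hB := hB) fun g hg => by
    simp only [List.mem_cons, List.not_mem_nil, or_false] at hg
    rcases hg with rfl | rfl | rfl <;> exact phi_mem hB _
  obtain ⟨x, hx, hxn⟩ := exists_outside (S := S') (T := evGroup [phi B 40, phi B mTwo, phi B a] hL)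
    (lt_of_le_of_lt (card_evGroup_le _ hL) (by simpa using lt_of_lt_of_le (by norm_num) hS16))
  obtain ⟨b, hb, rfl⟩ := mem_Ab.1 (hS'.1 hx)
  have hin : ∀ e ∈ spanTwo, phi B e ∈ evGroup [phi B 40, phi B mTwo, phi B a] hL := fun e he =>
    phi_span hB (S := evGroup [phi B 40, phi B mTwo, phi B a] hL) ⟨1, by simp [ev]⟩ ⟨2, by simp [ev]⟩ he
  have hain : phi B a ∈ evGroup [phi B 40, phi B mTwo, phi B a] hL := ⟨4, by simp [ev]⟩
  have hbn : b ∉ spanTwo := fun he => hxn (hin b he)
  have habn : a ^^^ b ∉ spanTwo := fun he => hxn (by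
    have h := mul_mem hain (hin _ he)
    rwa [← phi_xor hB, ← Nat.xor_assoc, Nat.xor_self, Nat.zero_xor] at h)
  have hbT := hS'.third St Su h40 h2 hb hx hbn
  have habS : phi B (a ^^^ b) ∈ S' := by rw [phi_xor hB]; exact mul_mem haS hx
  have hfin := List.all_eq_true.1 (List.all_eq_true.1 no_sixteen a haT) b hbT
  rw [Bool.or_eq_true, List.contains_iff_mem, Bool.not_eq_true', Bool.eq_false_iff] at hfin
  refine hfin.resolve_left habn (List.all_eq_true.2 fun e he => ?_)
  have hel : e < 2048 := by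
    simp only [spanTwo, List.mem_cons, List.not_mem_nil, or_false] at he
    rcases he with rfl | rfl | rfl | rfl
    exacts [by norm_num, by norm_num, forty_dod.2.2.2.1,
      Nat.xor_lt_two_pow (n := 11) (by norm_num) forty_dod.2.2.2.1]
  refine hS'.dod St Su (Nat.xor_lt_two_pow (n := 11) (Nat.xor_lt_two_pow (n := 11) ha hb) hel)
    (fun e' => habn (Nat.xor_eq_zero_iff.1 e' ▸ he)) ?_
  rw [phi_xor hB]
  exact mul_mem habS (phi_span hB h40 h2 he)

end CfsgLib.Co1Loc
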