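import Cfsg.Agent.Co1Loc.SevenOdd
import Mathlib.GroupTheory.Nilpotent

/-!
Sixteen does not divide the order of the centraliser of the element of order seven: otherwise the normaliser of
the dihedral group of order eight has a Sylow subgroup centralised by the element of order three.
-/

set_option autoImplicit false
set_option maxRecDepth 100000
set_option synthInstance.maxSize 4096
set_option linter.style.haveILetI false
set_option linter.unusedSectionVars false

namespace CfsgLib.Co1Loc.Seven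

open CfsgLib CfsgLib.Quad CfsgLib.Co1Invol CfsgLib.Co1Five Subgroup
open CfsgLib.SZ (conj_smul_eq_iff_mem_normalizer card_conj_smul)
open scoped Pointwise

variable {G : Type*} [Group G] [Finite G]

namespace Sev

variable {v y a₀ t₀ b : G} {U : Subgroup G} (S : Sev v y a₀ t₀ b U)

/-- The dihedral group of order eight. -/
def D8 (S : Sev v y a₀ t₀ b U) : Subgroup G where
  carrier := {g | g ∈ U ∨ t₀ * g ∈ U}
  one_mem' := Or.inl (one_mem U)
  mul_mem' := by
    rintro p q (hp | hp) (hq | hq)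
    · exact Or.inl (mul_mem hp hq)
    · refine Or.inr ?_
      rw [show t₀ * (p * q) = (t₀ * p * t₀⁻¹) * (t₀ * q) by group]
      exact mul_mem (S.t_norm hp) hq
    · refine Or.inr ?_
      rw [← mul_assoc]
      exact mul_mem hp hq
    · refine Or.inl ?_
      rw [show p * q = (t₀⁻¹ * (t₀ * p) * (t₀⁻¹)⁻¹) * ((t₀ * t₀)⁻¹ * (t₀ * q)) by group, S.t2, inv_one, one_mul,
        inv_eq_of_mul_eq_one_right S.t2]
      exact mul_mem (S.t_norm hp) hq
  inv_mem' := by
    rintro p (hp | hp)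
    · exact Or.inl (inv_mem hp)
    · refine Or.inr ?_
      have h := S.t_norm (inv_mem hp)
      rwa [show t₀ * (t₀ * p)⁻¹ * t₀⁻¹ = t₀ * p⁻¹ * (t₀ * t₀)⁻¹ by group, S.t2, inv_one, mul_one] at h

theorem mem_D8 {g : G} : g ∈ S.D8 ↔ g ∈ U ∨ t₀ * g ∈ U := Iff.rfl

theorem U_le_D8 : U ≤ S.D8 := fun _ hu => Or.inl hu

theorem t_mem_D8 : t₀ ∈ S.D8 := Or.inr (by rw [S.t2]; exact one_mem U)

include S

theorem t_inv : t₀⁻¹ = t₀ := inv_eq_of_mul_eq_one_right S.t2

theorem t_not_mem : t₀ ∉ U := fun h => by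
  have h1 := S.tinv
  rw [(S.comm_a t₀ h).eq, mul_inv_cancel_right] at h1
  refine S.a_ne ?_
  have h2 : a₀ * a₀ = 1 := by nth_rewrite 2 [h1]; exact mul_inv_cancel _
  have := S.a3
  rwa [pow_succ, pow_two, h2, one_mul] at this

theorem card_D8 : Nat.card S.D8 = 8 := by
  have h1 := Subgroup.card_mul_index (U.subgroupOf S.D8)
  rw [Nat.card_congr (subgroupOfEquivOfLe S.U_le_D8).toEquiv, S.card] at h1
  have h2 : (U.subgroupOf S.D8).index = 2 := by
    rw [index_eq_two_iff]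
    refine ⟨⟨t₀, S.t_mem_D8⟩, fun g => ?_⟩
    rw [mem_subgroupOf, mem_subgroupOf]
    push_cast
    have hgt : (g : G) * t₀ ∈ U ↔ t₀ * g ∈ U := by
      constructor <;> intro h
      · have := S.t_norm h
        rwa [show t₀ * ((g : G) * t₀) * t₀⁻¹ = t₀ * g by group] at this
      · have := S.t_norm h
        rwa [show t₀ * (t₀ * (g : G)) * t₀⁻¹ = t₀ * t₀ * g * t₀⁻¹ by group, S.t2, one_mul, S.t_inv] at this
    rcases S.mem_D8.1 g.2 with hg | hg
    · exact Or.inr ⟨hg, fun h => S.t_not_mem (by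
        have := mul_mem (inv_mem hg) h
        rwa [inv_mul_cancel_left] at this)⟩
    · exact Or.inl ⟨hgt.2 hg, fun h => S.t_not_mem (by
        have := mul_mem hg (inv_mem h)
        rwa [mul_inv_cancel_right] at this)⟩
  rw [h2] at h1
  omega

variable (hno8 : ∀ (j : ℤ) (R : Subgroup G), Nat.card R = 8 → (∀ p ∈ R, ∀ q ∈ R, p * q = q * p) →
  (∀ p ∈ R, Commute p (y * a₀ ^ j)) → (∀ p ∈ R, Commute p v) → False)

include hno8

/-- The involution moves the four-group. -/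
theorem t_moves : ∃ u ∈ U, t₀ * u * t₀⁻¹ ≠ u := by
  by_contra h
  push Not at h
  refine S.t_not_mem ((S.core_facts hno8).1 t₀ (S.mem_W₀.2 ⟨S.vt.symm, fun u hu => ?_⟩) 1 ?_)
  · exact mul_inv_eq_iff_eq_mul.1 (h u hu)
  · rw [pow_one, pow_two, S.t2]

/-- A 2-element of the centraliser normalising the four-group lies in the dihedral group. -/
theorem norm_two_mem {P : Subgroup G} (hP : IsPGroup 2 P) (hPv : ∀ p ∈ P, Commute p v) (htP : t₀ ∈ P) {g : G}
    (hg : g ∈ P) (hgU : ∀ u ∈ U, g * u * g⁻¹ ∈ U) : g ∈ S.D8 := by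
  have hfix : ∀ h ∈ P, (∀ u ∈ U, h * u * h⁻¹ ∈ U) → ∃ u ∈ U, u ≠ 1 ∧ h * u * h⁻¹ = u := by
    intro h hh hn
    by_contra hcon
    push Not at hcon
    obtain ⟨u, hu, hu1⟩ := four_exists S.card
    have h3 : Commute (h ^ 3) u := by
      refine mul_inv_eq_iff_eq_mul.1 ?_
      calc h ^ 3 * u * (h ^ 3)⁻¹ = h * (h * (h * u * h⁻¹) * h⁻¹) * h⁻¹ := (conj_three h u).symm
        _ = (h * u * h⁻¹) * (h * (h * u * h⁻¹) * h⁻¹) := by
          conv_lhs => rw [four_orbit S.card S.sq hn hcon hu hu1]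
          group
        _ = u := by
          rw [four_orbit S.card S.sq hn hcon hu hu1, ← mul_assoc, (S.comm (hn u hu) hu).eq, mul_assoc,
            S.sq _ (hn u hu), mul_one]
    obtain ⟨k, hk⟩ := hP ⟨h, hh⟩
    have hk' : h ^ 2 ^ k = 1 := congrArg Subtype.val hk
    obtain ⟨m, hm⟩ := exists_pow_eq_self_of_coprime (x := h) (n := 3)
      ((Nat.Coprime.pow_left k (by norm_num : Nat.Coprime 2 3)).coprime_dvd_left (orderOf_dvd_of_pow_eq_one hk')).symm
    have h4 : Commute h u := hm ▸ h3.pow_left m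
    exact hcon u hu hu1 (by rw [h4.eq, mul_inv_cancel_right])
  obtain ⟨u₀, hu₀, htu⟩ := S.t_moves hno8
  have htn := fun {p : G} (hp : p ∈ U) => S.t_norm hp
  have hu1 : u₀ ≠ 1 := fun e => htu (by rw [e]; group)
  have hne : u₀ ≠ t₀ * u₀ * t₀⁻¹ := Ne.symm htu
  set z₀ := u₀ * (t₀ * u₀ * t₀⁻¹) with hz₀
  have hz₀U : z₀ ∈ U := mul_mem hu₀ (htn hu₀)
  have hz1 : z₀ ≠ 1 := fun e => htu (by
    rw [← inv_eq_of_mul_eq_one_right e, inv_eq_of_mul_eq_one_right (S.sq u₀ hu₀)])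
  have htt : ∀ p : G, t₀ * (t₀ * p * t₀⁻¹) * t₀⁻¹ = p := fun p => by
    rw [show t₀ * (t₀ * p * t₀⁻¹) * t₀⁻¹ = (t₀ * t₀) * p * (t₀ * t₀)⁻¹ by group, S.t2]; group
  have hconj1 : ∀ (h : G) {p : G}, h * p * h⁻¹ = 1 → p = 1 := fun h {p} e => conj_eq_one_iff.1 e
  -- fixed points of the involution
  have htfix : ∀ p ∈ U, t₀ * p * t₀⁻¹ = p → p = 1 ∨ p = z₀ := fun p hp e => by
    rcases four_cases S.card hu₀ (htn hu₀) hu1 (fun e => hu1 (hconj1 _ e)) hne S.sq hp with e1 | e1 | e1 | e1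
    · exact Or.inl e1
    · exact absurd (e1 ▸ e) htu
    · rw [e1, htt] at e
      exact absurd e.symm htu
    · exact Or.inr e1
  have htz : t₀ * z₀ * t₀⁻¹ = z₀ := by
    rw [hz₀, show t₀ * (u₀ * (t₀ * u₀ * t₀⁻¹)) * t₀⁻¹ = (t₀ * u₀ * t₀⁻¹) * (t₀ * (t₀ * u₀ * t₀⁻¹) * t₀⁻¹) by group,
      htt, (S.comm (htn hu₀) hu₀).eq]
  -- every such element fixes the central element
  have hgz : g * z₀ * g⁻¹ = z₀ := by
    by_contra hgz
    obtain ⟨u, hu, hu1', hgu⟩ := hfix g hg hgU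
    have huz : u ≠ z₀ := fun e => hgz (e ▸ hgu)
    have hu' : t₀ * u * t₀⁻¹ ≠ u := fun e => (htfix u hu e).elim hu1' huz
    have hz' : z₀ = u * (t₀ * u * t₀⁻¹) := by
      rcases four_cases S.card hu (htn hu) hu1' (fun e => hu1' (hconj1 _ e)) (Ne.symm hu') S.sq hz₀U with
        e | e | e | e
      · exact absurd e hz1
      · exact absurd e.symm huz
      · exfalso; rw [e, htt] at htz; exact hu' htz.symm
      · exact e
    have hgz' : g * z₀ * g⁻¹ = t₀ * u * t₀⁻¹ := by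
      rcases four_cases S.card hu (htn hu) hu1' (fun e => hu1' (hconj1 _ e)) (Ne.symm hu') S.sq (hgU z₀ hz₀U) with
        e | e | e | e
      · exact absurd (hconj1 _ e) hz1
      · exact absurd (mul_left_cancel (mul_right_cancel (e.trans hgu.symm))).symm huz
      · exact e
      · exact absurd (e.trans hz'.symm) hgz
    have hgu' : g * (t₀ * u * t₀⁻¹) * g⁻¹ = z₀ := by
      have h1 : t₀ * u * t₀⁻¹ = u * z₀ := by rw [hz', ← mul_assoc, S.sq u hu, one_mul]
      rw [h1, show g * (u * z₀) * g⁻¹ = (g * u * g⁻¹) * (g * z₀ * g⁻¹) by group, hgu, hgz', ← hz']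
    have hn : ∀ p ∈ U, (t₀ * g) * p * (t₀ * g)⁻¹ ∈ U := fun p hp => by
      rw [show t₀ * g * p * (t₀ * g)⁻¹ = t₀ * (g * p * g⁻¹) * t₀⁻¹ by group]
      exact htn (hgU p hp)
    obtain ⟨p, hp, hp1, hfp⟩ := hfix _ (mul_mem htP hg) hn
    rw [show t₀ * g * p * (t₀ * g)⁻¹ = t₀ * (g * p * g⁻¹) * t₀⁻¹ by group] at hfp
    rcases four_cases S.card hu (htn hu) hu1' (fun e => hu1' (hconj1 _ e)) (Ne.symm hu') S.sq hp with e | e | e | e
    · exact hp1 e
    · rw [e, hgu] at hfp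
      exact hu' hfp
    · rw [e, hgu', htz] at hfp
      rw [← hfp] at hz'
      exact hu1' (mul_eq_right.1 hz'.symm)
    · rw [← hz'] at e
      rw [e, hgz', htt] at hfp
      exact huz hfp
  have hmem : ∀ h ∈ P, h * u₀ * h⁻¹ = u₀ → h * z₀ * h⁻¹ = z₀ → h ∈ U := fun h hh e1 e2 => by
    obtain ⟨k, hk⟩ := hP ⟨h, hh⟩
    refine (S.core_facts hno8).1 h (S.mem_W₀.2 ⟨hPv h hh, fun p hp => ?_⟩) k (congrArg Subtype.val hk)
    have c1 : Commute h u₀ := mul_inv_eq_iff_eq_mul.1 e1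
    have c2 : Commute h z₀ := mul_inv_eq_iff_eq_mul.1 e2
    rcases four_cases S.card hu₀ hz₀U hu1 hz1 (fun e => hu1 (hconj1 t₀ (mul_eq_left.1 e.symm))) S.sq hp with
      e | e | e | e <;> rw [e]
    exacts [Commute.one_right _, c1, c2, c1.mul_right c2]
  rcases four_cases S.card hu₀ hz₀U hu1 hz1 (fun e => hu1 (hconj1 t₀ (mul_eq_left.1 e.symm))) S.sq (hgU u₀ hu₀) with
    e | e | e | e
  · exact absurd (hconj1 _ e) hu1
  · exact Or.inl (hmem g hg e hgz)
  · exact absurd (mul_left_cancel (mul_right_cancel (e.trans hgz.symm)))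
      (fun e' => hu1 (hconj1 t₀ (mul_eq_left.1 e'.symm)))
  · refine Or.inr (hmem _ (mul_mem htP hg) ?_ ?_)
    · rw [hz₀, ← mul_assoc, S.sq u₀ hu₀, one_mul] at e
      rw [show t₀ * g * u₀ * (t₀ * g)⁻¹ = t₀ * (g * u₀ * g⁻¹) * t₀⁻¹ by group, e, htt]
    · rw [show t₀ * g * z₀ * (t₀ * g)⁻¹ = t₀ * (g * z₀ * g⁻¹) * t₀⁻¹ by group, hgz, htz]

/-- An element normalising the dihedral group and moving the four-group sends it to the other four-group. -/
theorem flip {g : G} (hg : ∀ p ∈ S.D8, g * p * g⁻¹ ∈ S.D8) (hgU : ¬ ∀ u ∈ U, g * u * g⁻¹ ∈ U) :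
    U.map (MulAut.conj g).toMonoidHom = S.D8 ⊓ centralizer ({t₀} : Set G) := by
  push Not at hgU
  obtain ⟨u₁, hu₁, hu₁'⟩ := hgU
  have hq := (S.mem_D8.1 (hg u₁ (S.U_le_D8 hu₁))).resolve_left hu₁'
  refine eq_of_le_of_card_ge ?_ ?_
  · rintro _ ⟨p, hp, rfl⟩
    refine mem_inf.2 ⟨hg p (S.U_le_D8 hp), mem_centralizer_singleton_iff.2 ?_⟩
    show g * p * g⁻¹ * t₀ = t₀ * (g * p * g⁻¹)
    rcases S.mem_D8.1 (hg p (S.U_le_D8 hp)) with h | h
    · have c1 : Commute (g * p * g⁻¹) (g * u₁ * g⁻¹) := (Commute.conj_iff g).2 (S.comm hp hu₁)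
      have c2 : Commute (g * p * g⁻¹) (t₀ * (g * u₁ * g⁻¹)) := S.comm h hq
      have c3 := c2.mul_right c1.inv_right
      rw [mul_inv_cancel_right] at c3
      exact c3.eq
    · have h1 : (g * p * g⁻¹) * (g * p * g⁻¹) = 1 := by
        rw [show g * p * g⁻¹ * (g * p * g⁻¹) = g * (p * p) * g⁻¹ by group, S.sq p hp]; group
      have h2 := S.sq _ h
      have h3 : t₀ * (g * p * g⁻¹) = (t₀ * (g * p * g⁻¹))⁻¹ := (inv_eq_of_mul_eq_one_right h2).symm
      rw [h3, mul_inv_rev, inv_eq_of_mul_eq_one_right h1, S.t_inv]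
  · rw [card_map_of_injective (MulAut.conj g).injective, S.card]
    have h1 : Nat.card ↥(S.D8 ⊓ centralizer ({t₀} : Set G)) ∣ 8 := S.card_D8 ▸ card_dvd_of_le inf_le_left
    have h2 : Nat.card ↥(S.D8 ⊓ centralizer ({t₀} : Set G)) ≠ 8 := fun e => by
      obtain ⟨u₀, hu₀, htu⟩ := S.t_moves hno8
      have h3 : S.D8 ⊓ centralizer ({t₀} : Set G) = S.D8 :=
        eq_of_le_of_card_ge inf_le_left (by rw [e, S.card_D8])
      have h4 := (mem_inf.1 (h3.ge (S.U_le_D8 hu₀))).2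
      rw [mem_centralizer_singleton_iff] at h4
      exact htu (by rw [← h4, mul_inv_cancel_right])
    have := Nat.le_of_dvd (by norm_num) h1
    rcases (Nat.dvd_prime_pow Nat.prime_two).1 (show _ ∣ 2 ^ 3 from h1) with ⟨i, hi, e⟩
    interval_cases i <;> omega

variable (hno16 : ∀ R : Subgroup G, 16 ∣ Nat.card R → (∀ p ∈ R, Commute p y) → (∀ p ∈ R, Commute p v) → False)

include hno16

/-- Sixteen does not divide the order of the centraliser. -/
theorem not_sixteen : ¬ 16 ∣ Nat.card (centralizer ({v} : Set G)) := by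
  classical
  intro h16
  haveI : Fact (Nat.Prime 2) := ⟨Nat.prime_two⟩
  set C := centralizer ({v} : Set G) with hC
  have hDC : S.D8 ≤ C := by
    intro g hg
    rw [hC, mem_centralizer_singleton_iff]
    rcases S.mem_D8.1 hg with h | h
    · exact (S.comm_v g h).eq
    · have := S.vt.symm.inv_left.mul_left (S.comm_v _ h)
      rw [inv_mul_cancel_left] at this
      exact this.eq
  have hD8p : IsPGroup 2 S.D8 := IsPGroup.of_card (n := 3) S.card_D8
  -- a Sylow subgroup of the centraliser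
  obtain ⟨P, hP⟩ := (hD8p.comap_of_injective C.subtype C.subtype_injective).exists_le_sylow
  set PG := (P : Subgroup C).map C.subtype with hPG
  have hPp : IsPGroup 2 PG := P.2.map _
  have hPC : PG ≤ C := map_subtype_le _
  have hDP : S.D8 ≤ PG := fun g hg => ⟨⟨g, hDC hg⟩, hP hg, rfl⟩
  have h16P : 16 ∣ Nat.card PG := by
    rw [hPG, card_map_of_injective C.subtype_injective]
    exact P.pow_dvd_card_of_pow_dvd_card (n := 4) h16
  -- the normaliser grows
  haveI : Group.IsNilpotent PG := hPp.isNilpotent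
  have hlt : S.D8.subgroupOf PG < ⊤ := lt_top_iff_ne_top.2 fun e => by
    have h1 := le_antisymm hDP (subgroupOf_eq_top.1 e)
    rw [← h1, S.card_D8] at h16P
    omega
  obtain ⟨g, hg, hgD⟩ := SetLike.exists_of_lt (Group.normalizerCondition_of_isNilpotent _ hlt)
  have hgD' : (g : G) ∉ S.D8 := fun h => hgD (mem_subgroupOf.2 h)
  have hgn : ∀ p ∈ S.D8, (g : G) * p * (g : G)⁻¹ ∈ S.D8 := fun p hp =>
    mem_subgroupOf.1 ((mem_normalizer_iff.1 hg ⟨p, hDP hp⟩).1 (mem_subgroupOf.2 hp))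
  -- the normaliser of the dihedral group
  set N := C ⊓ normalizer (S.D8 : Set G) with hN
  have hnormD : ∀ {h : G}, (∀ p ∈ S.D8, h * p * h⁻¹ ∈ S.D8) → h ∈ normalizer (S.D8 : Set G) := fun {h} hh => by
    rw [← conj_smul_eq_iff_mem_normalizer]
    exact eq_of_le_of_card_ge (by
      rintro _ ⟨p, hp, rfl⟩
      exact hh p hp) (le_of_eq (card_conj_smul _ _).symm)
  have hyD : ∀ p ∈ S.D8, Commute y p := fun p hp => by
    rcases S.mem_D8.1 hp with h | h
    · exact (S.y_fix p h).symm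
    · have := S.yt.inv_right.mul_right (S.y_fix _ h).symm
      rwa [inv_mul_cancel_left] at this
  have hflip := fun {h : G} => S.flip hno8 (g := h)
  have h3N : ¬ 3 ∣ Nat.card N := fun h3 => by
    haveI : Fact (Nat.Prime 3) := ⟨Nat.prime_three⟩
    obtain ⟨⟨n, hn'⟩, ho⟩ := exists_prime_orderOf_dvd_card' (G := N) 3 h3
    rw [orderOf_mk] at ho
    obtain ⟨hnC, hnD⟩ := mem_inf.1 hn'
    have hn3 : n ^ 3 = 1 := ho ▸ pow_orderOf_eq_one n
    have hnn : ∀ p ∈ S.D8, n * p * n⁻¹ ∈ S.D8 := fun p hp => (mem_normalizer_iff.1 hnD p).1 hp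
    have hnn2 : ∀ p ∈ S.D8, n * n * p * (n * n)⁻¹ ∈ S.D8 := fun p hp =>
      (mem_normalizer_iff.1 (mul_mem hnD hnD) p).1 hp
    have hnU : ∀ u ∈ U, n * u * n⁻¹ ∈ U := by
      have h2 : ∀ u ∈ U, n * n * u * (n * n)⁻¹ ∈ U := by
        by_contra hcon
        by_cases h1 : ∀ u ∈ U, n * u * n⁻¹ ∈ U
        · exact hcon fun u hu => by
            have := h1 _ (h1 u hu)
            rwa [show n * (n * u * n⁻¹) * n⁻¹ = n * n * u * (n * n)⁻¹ by group] at this
        · have e := (hflip hnn h1).trans (hflip hnn2 hcon).symm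
          refine h1 fun u hu => ?_
          obtain ⟨p, hp, hpe⟩ := e.ge (mem_map_of_mem _ hu)
          have hpe' : n * p * n⁻¹ = n * n * u * (n * n)⁻¹ := hpe
          have : p = n * u * n⁻¹ := by
            calc p = n⁻¹ * (n * p * n⁻¹) * n := by group
              _ = n * u * n⁻¹ := by rw [hpe']; group
          exact this ▸ hp
      intro u hu
      have := h2 _ (h2 u hu)
      rwa [show n * n * (n * n * u * (n * n)⁻¹) * (n * n)⁻¹ = n ^ 3 * (n * u * n⁻¹) * (n ^ 3)⁻¹ by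
        rw [← conj_three]; group, hn3,
        inv_one, mul_one, one_mul] at this
    have htn : t₀ * (n * t₀ * n⁻¹) ∈ U := (S.mem_D8.1 (hnn t₀ S.t_mem_D8)).resolve_left fun h => S.t_not_mem (by
      have := hnU _ (hnU _ h)
      rwa [conj_three, hn3, inv_one, mul_one,
        one_mul] at this)
    have hn : ∀ u ∈ U, Commute n u := by
      obtain ⟨u₀, hu₀, htu⟩ := S.t_moves hno8
      set z₀ := u₀ * (t₀ * u₀ * t₀⁻¹) with hz₀
      have hz₀U : z₀ ∈ U := mul_mem hu₀ (S.t_norm hu₀)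
      have hu1 : u₀ ≠ 1 := fun e => htu (by rw [e]; group)
      have hz1 : z₀ ≠ 1 := fun e => htu (by
        rw [← inv_eq_of_mul_eq_one_right e, inv_eq_of_mul_eq_one_right (S.sq u₀ hu₀)])
      have hne : u₀ ≠ z₀ := fun e => hu1 (conj_eq_one_iff.1 (mul_eq_left.1 e.symm))
      have htz : Commute t₀ z₀ := by
        refine mul_inv_eq_iff_eq_mul.1 ?_
        rw [hz₀, show t₀ * (u₀ * (t₀ * u₀ * t₀⁻¹)) * t₀⁻¹ = (t₀ * u₀ * t₀⁻¹) * ((t₀ * t₀) * u₀ * (t₀ * t₀)⁻¹) by group,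
          S.t2, inv_one, mul_one, one_mul, (S.comm (S.t_norm hu₀) hu₀).eq]
      have htu' : ¬ Commute t₀ u₀ := fun h => htu (by rw [h.eq, mul_inv_cancel_right])
      have hfz : n * z₀ * n⁻¹ = z₀ := by
        have c1 : Commute (n * z₀ * n⁻¹) (n * t₀ * n⁻¹) := (Commute.conj_iff n).2 htz.symm
        have c2 : Commute (n * z₀ * n⁻¹) (t₀ * (n * t₀ * n⁻¹)) := S.comm (hnU _ hz₀U) htn
        have c3 := c2.mul_right c1.inv_right
        rw [mul_inv_cancel_right] at c3
        rcases four_cases S.card hu₀ hz₀U hu1 hz1 hne S.sq (hnU _ hz₀U) with e | e | e | e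
        · exact absurd (conj_eq_one_iff.1 e) hz1
        · exact absurd (e ▸ c3.symm) htu'
        · exact e
        · rw [e] at c3
          refine absurd ?_ htu'
          have := c3.symm.mul_right htz.inv_right
          rwa [mul_inv_cancel_right] at this
      have hfu : n * u₀ * n⁻¹ = u₀ := by
        rcases four_cases S.card hu₀ hz₀U hu1 hz1 hne S.sq (hnU _ hu₀) with e | e | e | e
        · exact absurd (conj_eq_one_iff.1 e) hu1
        · exact e
        · exact absurd (mul_left_cancel (mul_right_cancel (e.trans hfz.symm))) hne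
        · exfalso
          have h1 : n * (n * u₀ * n⁻¹) * n⁻¹ = u₀ := by
            rw [e, show n * (u₀ * z₀) * n⁻¹ = (n * u₀ * n⁻¹) * (n * z₀ * n⁻¹) by group, e, hfz, mul_assoc,
              S.sq z₀ hz₀U, mul_one]
          have h2 : n * (n * (n * u₀ * n⁻¹) * n⁻¹) * n⁻¹ = u₀ := by
            rw [conj_three, hn3]; group
          rw [h1, e] at h2
          exact hz1 (mul_eq_left.1 h2)
      intro u hu
      have c1 : Commute n u₀ := mul_inv_eq_iff_eq_mul.1 hfu
      have c2 : Commute n z₀ := mul_inv_eq_iff_eq_mul.1 hfz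
      rcases four_cases S.card hu₀ hz₀U hu1 hz1 hne S.sq hu with e | e | e | e <;> rw [e]
      exacts [Commute.one_right _, c1, c2, c1.mul_right c2]
    have hnt : Commute t₀ n := by
      refine S.fix_three hn3 hn ?_
      have hu' : (n * t₀ * n⁻¹)⁻¹ * t₀ = (t₀ * (n * t₀ * n⁻¹))⁻¹ := by
        conv_rhs => rw [mul_inv_rev, S.t_inv]
      rw [hu']
      exact inv_mem htn
    rw [(S.core_facts hno8).2 n (S.mem_W₀.2 ⟨mem_centralizer_singleton_iff.1 hnC, hn⟩) hn3 hnt.symm,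
      orderOf_one] at ho
    omega
  -- an invariant Sylow subgroup of the normaliser
  have hyN : zpowers y ≤ normalizer (N : Set G) := by
    refine zpowers_le.2 ?_
    have hyC : y ∈ normalizer (C : Set G) := by
      rw [← conj_smul_eq_iff_mem_normalizer]
      refine eq_of_le_of_card_ge ?_ (le_of_eq (card_conj_smul _ _).symm)
      rintro _ ⟨p, hp, rfl⟩
      rw [hC, mem_centralizer_singleton_iff]
      show y * p * y⁻¹ * v = v * (y * p * y⁻¹)
      have h1 : Commute (y * p * y⁻¹) (v ^ 2) := S.yv ▸ (Commute.conj_iff y).2 (mem_centralizer_singleton_iff.1 hp)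
      have h2 := h1.pow_right 4
      rwa [← pow_mul, show 2 * 4 = 7 + 1 from rfl, pow_succ, S.v_pow, one_mul] at h2
    have hyD' : y ∈ normalizer (S.D8 : Set G) := hnormD fun p hp => by
      rw [(hyD p hp).eq, mul_inv_cancel_right]; exact hp
    rw [← conj_smul_eq_iff_mem_normalizer, hN, Subgroup.smul_inf, conj_smul_eq_iff_mem_normalizer.2 hyC,
      conj_smul_eq_iff_mem_normalizer.2 (le_normalizer hyD')]
  have hy3 : Nat.card (zpowers y) ∣ 3 := by
    rw [Nat.card_zpowers]; exact orderOf_dvd_of_pow_eq_one S.y3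
  have hcop : (Nat.card (zpowers y)).Coprime (Nat.card N) :=
    (Nat.prime_three.coprime_iff_not_dvd.2 h3N).coprime_dvd_left hy3
  have hsolv : Group.IsSolvable (zpowers y) := Group.isSolvable_of_comm fun p q => Subtype.ext (by
    obtain ⟨i, hi⟩ := mem_zpowers_iff.1 p.2
    obtain ⟨j, hj⟩ := mem_zpowers_iff.1 q.2
    show (p : G) * q = q * p
    rw [← hi, ← hj, zpow_mul_comm])
  obtain ⟨R, hDR, hR⟩ := CfsgLib.CoprimeAct.exists_invariant_sylow_ge hyN hcop (Or.inl hsolv) 2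
    (U := S.D8) (le_inf hDC le_normalizer) hD8p (zpowers_le.2 (hnormD fun p hp => by
      rw [(hyD p hp).eq, mul_inv_cancel_right]; exact hp))
  set RG := (R : Subgroup N).map N.subtype with hRG
  have hRp : IsPGroup 2 RG := R.2.map _
  have hRN : RG ≤ N := map_subtype_le _
  have hRv : ∀ p ∈ RG, Commute p v := fun p hp => mem_centralizer_singleton_iff.1 (mem_inf.1 (hRN hp)).1
  have h16R : 16 ∣ Nat.card RG := by
    rw [hRG, card_map_of_injective N.subtype_injective]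
    refine R.pow_dvd_card_of_pow_dvd_card (n := 4) ?_
    set M := PG ⊓ N with hM
    obtain ⟨k, hk⟩ := IsPGroup.iff_card.1 (hPp.to_le (inf_le_left : M ≤ PG))
    have hlt' : S.D8 < M := lt_of_le_of_ne (le_inf hDP (le_inf hDC le_normalizer)) fun e =>
      hgD' (e.ge ⟨g.2, hPC g.2, hnormD hgn⟩)
    have h8 : 8 < Nat.card M := lt_of_not_ge fun h => hlt'.ne (eq_of_le_of_card_ge hlt'.le (h.trans S.card_D8.ge))
    rw [hk] at h8
    have hk4 : 4 ≤ k := by
      by_contra h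
      push Not at h
      have : 2 ^ k ≤ 2 ^ 3 := Nat.pow_le_pow_right (by norm_num) (by omega)
      omega
    exact (pow_dvd_pow 2 hk4).trans (hk ▸ card_dvd_of_le inf_le_right)
  have hyR : ∀ p ∈ RG, y * p * y⁻¹ ∈ RG := fun p hp => (mem_normalizer_iff.1 (hR (mem_zpowers y)) p).1 hp
  refine hno16 RG h16R (fun s hs => ?_) hRv
  have hnorm : ∀ h ∈ RG, ∀ p ∈ S.D8, h * p * h⁻¹ ∈ S.D8 := fun h hh p hp =>
    (mem_normalizer_iff.1 (mem_inf.1 (hRN hh)).2 p).1 hp
  by_cases hsU : ∀ u ∈ U, s * u * s⁻¹ ∈ U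
  · exact (hyD s (S.norm_two_mem hno8 hRp hRv (hDR S.t_mem_D8) hs hsU)).symm
  set s' := y * s * y⁻¹ with hs'
  have hs'U : ¬ ∀ u ∈ U, s' * u * s'⁻¹ ∈ U := fun h => hsU fun u hu => by
    have h1 := (hyD _ (S.U_le_D8 hu)).eq
    have h3 : s' * u * s'⁻¹ = y * (s * u * s⁻¹) * y⁻¹ := by
      rw [hs', show y * s * y⁻¹ * u * (y * s * y⁻¹)⁻¹ = y * (s * (y⁻¹ * (u * y)) * s⁻¹) * y⁻¹ by group, ← h1,
        inv_mul_cancel_left]
    have h2 := h u hu
    have h4 : y * (s * u * s⁻¹) * y⁻¹ = s * u * s⁻¹ := by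
      rw [(hyD _ (hnorm s hs u (S.U_le_D8 hu))).eq, mul_inv_cancel_right]
    rwa [h3, h4] at h2
  have e := (hflip (hnorm s hs) hsU).trans (hflip (hnorm s' (hyR s hs)) hs'U).symm
  set d := s⁻¹ * s' with hd
  have hdR : d ∈ RG := mul_mem (inv_mem hs) (hyR s hs)
  have hdU : ∀ u ∈ U, d * u * d⁻¹ ∈ U := fun u hu => by
    obtain ⟨p, hp, hpe⟩ := e.ge (mem_map_of_mem _ hu)
    have hpe' : s * p * s⁻¹ = s' * u * s'⁻¹ := hpe
    rw [show d * u * d⁻¹ = s⁻¹ * (s' * u * s'⁻¹) * s by rw [hd]; group, ← hpe',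
      show s⁻¹ * (s * p * s⁻¹) * s = p by group]
    exact hp
  have hdD := S.norm_two_mem hno8 hRp hRv (hDR S.t_mem_D8) hdR hdU
  have hyd : y * d * y⁻¹ = d := by rw [(hyD d hdD).eq, mul_inv_cancel_right]
  have h1 : y * s * y⁻¹ = s * d := by rw [hd, hs']; group
  have h3 : s = s * d * d * d := by
    calc s = y * (y * (y * s * y⁻¹) * y⁻¹) * y⁻¹ := (S.y_three s).symm
      _ = s * d * d * d := by
        rw [h1, show y * (s * d) * y⁻¹ = (y * s * y⁻¹) * (y * d * y⁻¹) by group, h1, hyd,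
          show y * (s * d * d) * y⁻¹ = (y * s * y⁻¹) * (y * d * y⁻¹) * (y * d * y⁻¹) by group, h1, hyd]
  obtain ⟨k, hk⟩ := hRp ⟨d, hdR⟩
  have hd1 : d = 1 := S.eq_one_of_two_power (congrArg Subtype.val hk) (by
    rw [pow_succ, pow_two]
    rw [mul_assoc, mul_assoc] at h3
    rw [mul_assoc]
    exact mul_eq_left.1 h3.symm)
  rw [hd1, mul_one] at h1
  exact (mul_inv_eq_iff_eq_mul.1 h1).symm

end Sev

end CfsgLib.Co1Loc.Seven
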