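import Cfsg.Agent.GWApps.QDCentralizer
import Cfsg.Agent.Invol.Dihedral
import Cfsg.Agent.GW.Top.Statement
import Cfsg.Agent.S0205
import Cfsg.Agent.Classical.PSLTwoSub
import Cfsg.Agent.Classical.SmallSubPSL

/-!
A central extension by an element of order seven with a dihedral Sylow two-subgroup of order eight: the quotient
is the alternating group of degree seven and the extension splits.
-/

set_option autoImplicit false
set_option maxRecDepth 100000
set_option linter.style.haveILetI false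
set_option linter.unusedSectionVars false

namespace CfsgLib.Co1Loc.SevenTop

open Subgroup
open scoped IsMulCommutative

/-! ### The linear case -/

/-- An element commuting up to sign with two anticommuting elements squares to a scalar. -/
theorem scalar_of_comm {F : Type*} [Field F] (h2 : (2 : F) ≠ 0) {p q r s a b c d e f : F}
    (hA : a * a + b * c = -1) (hB : d * d + e * f = -1) (hAB : 2 * a * d + b * f + c * e = 0)
    (a1 : q * c = b * r) (a2 : (p - s) * b = 2 * a * q) (a3 : (p - s) * c = 2 * a * r)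
    (b1 : q * f = e * r) (b2 : (p - s) * e = 2 * d * q) (b3 : (p - s) * f = 2 * d * r) :
    p = s ∧ q = 0 ∧ r = 0 := by
  obtain ⟨T, hT⟩ : ∃ T, T = (p - s) * a + q * c + r * b := ⟨_, rfl⟩
  obtain ⟨U, hU⟩ : ∃ U, U = (p - s) * d + q * f + r * e := ⟨_, rfl⟩
  have t1 : p - s = -(a * T) := by rw [hT]; linear_combination (p - s) * hA - c * a2 - a * a1
  have t2 : 2 * q = -(b * T) := by rw [hT]; linear_combination 2 * q * hA + a * a2 - b * a1
  have t3 : 2 * r = -(c * T) := by rw [hT]; linear_combination 2 * r * hA + a * a3 + c * a1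
  have eU : 2 * U = 0 := by rw [hU]; linear_combination 2 * d * t1 + f * t2 + e * t3 - T * hAB
  have eU' : U = 0 := (mul_eq_zero.1 eU).resolve_left h2
  have u1 : p - s = -(d * U) := by rw [hU]; linear_combination (p - s) * hB - f * b2 - d * b1
  have u2 : 2 * q = -(e * U) := by rw [hU]; linear_combination 2 * q * hB + d * b2 - e * b1
  have u3 : 2 * r = -(f * U) := by rw [hU]; linear_combination 2 * r * hB + d * b3 + f * b1
  rw [eU', mul_zero, neg_zero] at u1 u2 u3
  exact ⟨sub_eq_zero.1 u1, (mul_eq_zero.1 u2).resolve_left h2, (mul_eq_zero.1 u3).resolve_left h2⟩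

/-- Lifts of equal elements differ by a sign. -/
theorem sign_of_mk {F : Type*} [Field F] {A B : Matrix.SpecialLinearGroup (Fin 2) F}
    (h : (QuotientGroup.mk A : Matrix.ProjectiveSpecialLinearGroup (Fin 2) F) = QuotientGroup.mk B) :
    B.1 = A.1 ∨ B.1 = -A.1 := by
  have hc := QuotientGroup.eq.1 h
  obtain ⟨r, hr, hm⟩ := Matrix.SpecialLinearGroup.mem_center_iff.1 hc
  rw [Fintype.card_fin, pow_two, mul_self_eq_one_iff] at hr
  have hB : B.1 = A.1 * (A⁻¹ * B).1 := by
    rw [← Matrix.SpecialLinearGroup.coe_mul, mul_inv_cancel_left]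
  rw [← hm] at hB
  rcases hr with rfl | rfl
  · exact Or.inl (by rw [hB, map_one, mul_one])
  · exact Or.inr (by rw [hB, map_neg, map_one, mul_neg, mul_one])

theorem center_of_scalar {F : Type*} [Field F] {A : Matrix.SpecialLinearGroup (Fin 2) F}
    (h0 : A.1 0 1 = 0) (h1 : A.1 1 0 = 0) (hd : A.1 0 0 = A.1 1 1) :
    (QuotientGroup.mk A : Matrix.ProjectiveSpecialLinearGroup (Fin 2) F) = 1 := by
  refine (QuotientGroup.eq_one_iff A).2 (Matrix.SpecialLinearGroup.mem_center_iff.2 ⟨A.1 0 0, ?_, ?_⟩)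
  · have := A.2
    rw [Matrix.det_fin_two, h0, h1, ← hd] at this
    rw [Fintype.card_fin, pow_two]; simpa using this
  · ext i j
    fin_cases i <;> fin_cases j <;> simp [h0, h1, hd]

/-- The lift of an involution. -/
theorem invol_lift {F : Type*} [Field F] (h2 : (2 : F) ≠ 0) {A : Matrix.SpecialLinearGroup (Fin 2) F}
    (hA : (QuotientGroup.mk A : Matrix.ProjectiveSpecialLinearGroup (Fin 2) F) *
      QuotientGroup.mk A = 1)
    (hne : (QuotientGroup.mk A : Matrix.ProjectiveSpecialLinearGroup (Fin 2) F) ≠ 1) :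
    A.1 * A.1 = -1 ∧ A.1 1 1 = -A.1 0 0 ∧ A.1 0 0 * A.1 0 0 + A.1 0 1 * A.1 1 0 = -1 := by
  have hd : A.1 0 0 * A.1 1 1 - A.1 0 1 * A.1 1 0 = 1 := by
    have := A.2; rwa [Matrix.det_fin_two] at this
  rcases sign_of_mk (A := A * A) (B := 1) (by rw [QuotientGroup.mk_mul, hA, QuotientGroup.mk_one]) with h | h
  · exfalso
    rw [Matrix.SpecialLinearGroup.coe_one, Matrix.SpecialLinearGroup.coe_mul] at h
    have e1 := congrFun (congrFun h 0) 0
    have e2 := congrFun (congrFun h 0) 1
    have e3 := congrFun (congrFun h 1) 0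
    have e4 := congrFun (congrFun h 1) 1
    simp [Matrix.mul_apply, Fin.sum_univ_two] at e1 e2 e3 e4
    have h4 : (4 : F) ≠ 0 := by
      intro h4
      exact h2 (mul_self_eq_zero.1 (show (2 : F) * 2 = 0 by linear_combination h4))
    have b0 : A.1 0 1 = 0 := (mul_eq_zero.1 (show 4 * A.1 0 1 = 0 by
      linear_combination A.1 0 1 * (e1 + e4 - 2 * hd) - (A.1 0 0 + A.1 1 1) * e2)).resolve_left h4
    have c0 : A.1 1 0 = 0 := (mul_eq_zero.1 (show 4 * A.1 1 0 = 0 by
      linear_combination A.1 1 0 * (e1 + e4 - 2 * hd) - (A.1 0 0 + A.1 1 1) * e3)).resolve_left h4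
    have d0 : A.1 0 0 - A.1 1 1 = 0 := (mul_eq_zero.1 (show 4 * (A.1 0 0 - A.1 1 1) = 0 by
      linear_combination (A.1 0 0 - A.1 1 1) * (e1 + e4 - 2 * hd) + (A.1 0 0 + A.1 1 1) * (e4 - e1))).resolve_left h4
    exact hne (center_of_scalar b0 c0 (sub_eq_zero.1 d0))
  rw [Matrix.SpecialLinearGroup.coe_one, Matrix.SpecialLinearGroup.coe_mul] at h
  have hAA : A.1 * A.1 = -1 := by rw [h, neg_neg]
  have e1 := congrFun (congrFun hAA 0) 0
  have e2 := congrFun (congrFun hAA 1) 1
  simp [Matrix.mul_apply, Fin.sum_univ_two] at e1 e2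
  refine ⟨hAA, ?_, e1⟩
  have hs : (A.1 0 0 + A.1 1 1) * (A.1 0 0 + A.1 1 1) = 0 := by linear_combination e1 + e2 + 2 * hd
  linear_combination mul_self_eq_zero.1 hs

/-- An element commuting with a four-group of the projective group squares to one. -/
theorem psl_four {F : Type*} [Field F] (h2 : (2 : F) ≠ 0)
    {x y g : Matrix.ProjectiveSpecialLinearGroup (Fin 2) F} (hx : x * x = 1) (hx1 : x ≠ 1) (hy : y * y = 1)
    (hy1 : y ≠ 1) (hxy : x * y = y * x) (hne : x ≠ y) (hgx : g * x = x * g) (hgy : g * y = y * g) : g * g = 1 := by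
  obtain ⟨A, rfl⟩ := QuotientGroup.mk_surjective x
  obtain ⟨B, rfl⟩ := QuotientGroup.mk_surjective y
  obtain ⟨S, rfl⟩ := QuotientGroup.mk_surjective g
  obtain ⟨hA, hA1, hAe⟩ := invol_lift h2 hx hx1
  obtain ⟨hB, hB1, hBe⟩ := invol_lift h2 hy hy1
  rw [← QuotientGroup.mk_mul, ← QuotientGroup.mk_mul] at hxy hgx hgy
  have hab : B.1 * A.1 = -(A.1 * B.1) := by
    refine ((sign_of_mk hxy).resolve_left fun e => ?_).trans (by simp)
    refine hne ?_
    have hsq : ((A * B) * (A * B)).1 = 1 := by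
      simp only [Matrix.SpecialLinearGroup.coe_mul] at e ⊢
      calc A.1 * B.1 * (A.1 * B.1) = A.1 * (B.1 * A.1) * B.1 := by simp only [mul_assoc]
        _ = A.1 * A.1 * (B.1 * B.1) := by rw [e]; simp only [mul_assoc]
        _ = 1 := by rw [hA, hB]; simp
    by_contra hne'
    have := (invol_lift h2 (A := A * B) (by
      rw [← QuotientGroup.mk_mul, show A * B * (A * B) = 1 from Subtype.ext hsq, QuotientGroup.mk_one]) (by
      rw [QuotientGroup.mk_mul]
      intro h1
      exact hne' (by rw [eq_inv_of_mul_eq_one_left h1]; exact inv_eq_of_mul_eq_one_right hy))).1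
    rw [← Matrix.SpecialLinearGroup.coe_mul, hsq] at this
    have := congrFun (congrFun this 0) 0
    simp at this
    exact h2 (by linear_combination this)
  have hcomm : ∀ {M : Matrix.SpecialLinearGroup (Fin 2) F},
      (QuotientGroup.mk (S * M) : Matrix.ProjectiveSpecialLinearGroup (Fin 2) F) = QuotientGroup.mk (M * S) →
      (S * S).1 * M.1 = M.1 * (S * S).1 := by
    intro M hM
    have h := sign_of_mk hM
    simp only [Matrix.SpecialLinearGroup.coe_mul] at h ⊢
    rcases h with e | e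
    · rw [mul_assoc, ← e, ← mul_assoc, ← e, mul_assoc]
    · have e' : S.1 * M.1 = -(M.1 * S.1) := by rw [e, neg_neg]
      rw [mul_assoc, e', mul_neg, ← mul_assoc, e', neg_mul, neg_neg, mul_assoc]
  have hSA := hcomm hgx
  have hSB := hcomm hgy
  rw [← QuotientGroup.mk_mul]
  generalize S * S = T at hSA hSB
  have a00 := congrFun (congrFun hSA 0) 0
  have a01 := congrFun (congrFun hSA 0) 1
  have a10 := congrFun (congrFun hSA 1) 0
  have b00 := congrFun (congrFun hSB 0) 0
  have b01 := congrFun (congrFun hSB 0) 1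
  have b10 := congrFun (congrFun hSB 1) 0
  have c00 := congrFun (congrFun hab 0) 0
  simp [Matrix.mul_apply, Fin.sum_univ_two, hA1, hB1] at a00 a01 a10 b00 b01 b10 c00
  obtain ⟨hd, hq, hr⟩ := scalar_of_comm h2 hAe hBe
    (p := T.1 0 0) (q := T.1 0 1) (r := T.1 1 0) (s := T.1 1 1)
    (by linear_combination c00) (by linear_combination a00) (by linear_combination a01)
    (by linear_combination -a10) (by linear_combination b00) (by linear_combination b01)
    (by linear_combination -b10)
  exact center_of_scalar hq hr hd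

theorem psl_center {F : Type} [Field F] [Fintype F] (hodd : Odd (Fintype.card F)) :
    center (Matrix.ProjectiveSpecialLinearGroup (Fin 2) F) = ⊥ := by
  set P := Matrix.ProjectiveSpecialLinearGroup (Fin 2) F
  have h3 : 3 ≤ Fintype.card F := by
    have := Fintype.one_lt_card (α := F)
    obtain ⟨j, hj⟩ := hodd
    omega
  rcases h3.eq_or_lt with h3 | h4
  · obtain ⟨eA⟩ := CfsgLib.Linear.Small.nonempty_psl_two_three (F := F) h3.symm
    rw [eq_bot_iff]
    intro x hx
    have : eA x ∈ center (alternatingGroup (Fin 4)) := mem_center_iff.2 fun y => by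
      obtain ⟨z, rfl⟩ := eA.surjective y
      rw [← map_mul, ← map_mul, mem_center_iff.1 hx z]
    rw [alternatingGroup.center_eq_bot (by simp), mem_bot] at this
    exact mem_bot.2 (eA.injective (this.trans (map_one eA).symm))
  · haveI : IsSimpleGroup P := CfsgLib.Linear.PSLTwo.isSimple (by rw [Nat.card_eq_fintype_card]; omega)
    refine ((inferInstance : (center P).Normal).eq_bot_or_eq_top).resolve_right fun h => ?_
    refine CfsgLib.Linear.PSLTwo.not_solvable (F := F) (by rw [Nat.card_eq_fintype_card]; omega) ?_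
    exact Group.isSolvable_of_comm fun a b => (mem_center_iff.1 (h ▸ mem_top a) b).symm

/-! ### The core -/

universe u

set_option synthInstance.maxHeartbeats 400000 in
/-- A four-group normalised by an element of order three. -/
theorem a5_four : ∀ α : alternatingGroup (Fin 5), α * α * α = 1 → α ≠ 1 → ∃ s : alternatingGroup (Fin 5),
    s * s = 1 ∧ s ≠ 1 ∧ s * (α * s * α⁻¹) = α * s * α⁻¹ * s ∧
      α * (α * s * α⁻¹) * α⁻¹ = s * (α * s * α⁻¹) ∧
      (∃ k, k * α * k⁻¹ = s * α) ∧ (∃ k, k * α * k⁻¹ = α * s * α⁻¹ * α) ∧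
      ∃ k, k * α * k⁻¹ = s * (α * s * α⁻¹) * α := by
  decide +kernel

/-- Endomorphisms of an abelian group: a four-group with fixed-point-free elements of order three. -/
theorem four_fpf {Z : Type*} [CommGroup Z] (A S R : Z →* Z) (hA : ∀ y, A (A (A y)) = y)
    (h1 : ∀ y, y * A y * A (A y) = 1) (h2 : ∀ y, y * S (A y) * S (A (S (A y))) = 1)
    (h3 : ∀ y, y * R (A y) * R (A (R (A y))) = 1)
    (h4 : ∀ y, y * S (R (A y)) * S (R (A (S (R (A y))))) = 1) (hS2 : ∀ y, S (S y) = y) (hR2 : ∀ y, R (R y) = y)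
    (hAS : ∀ y, A (S y) = R (A y)) (hAR : ∀ y, A (R y) = S (R (A y))) (hSR : ∀ y, S (R y) = R (S y)) (x : Z) :
    S (x ^ 4) = x ^ 4 := by
  have e2 : ∀ y, S (A (S (A y))) = S (R (A (A y))) := fun y => by rw [hAS]
  have e3 : ∀ y, R (A (R (A y))) = S (A (A y)) := fun y => by rw [hAR, hSR, ← hSR, hSR (A (A y)), hR2]
  have e4 : ∀ y, S (R (A (S (R (A y))))) = R (A (A y)) := fun y => by
    rw [hAS, hR2, hAR, hS2]
  have p1 := h1 x
  have p2 := h2 x
  have p3 := h3 x
  have p4 := h4 x
  rw [e2] at p2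
  rw [e3] at p3
  rw [e4] at p4
  -- the product over the four-group
  let n : Z →* Z := MonoidHom.mk' (fun y => y * S y * R y * S (R y)) fun a b => by
    simp only [map_mul]; ac_rfl
  have hn : ∀ y, n y = y * S y * R y * S (R y) := fun _ => rfl
  have q1 : x ^ 4 * n (A x) * n (A (A x)) = 1 := by
    have := congrArg₂ (· * ·) (congrArg₂ (· * ·) (congrArg₂ (· * ·) p1 p2) p3) p4
    simp only [mul_one] at this
    rw [← this, hn, hn, pow_succ, pow_succ, pow_two]
    ac_rfl
  have q2 : n x * n (A x) * n (A (A x)) = 1 := by rw [← map_mul, ← map_mul, p1, map_one]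
  have hx : x ^ 4 = n x := mul_right_cancel (mul_right_cancel (q1.trans q2.symm))
  rw [hx, hn]
  simp only [map_mul, hS2]
  ac_rfl

/-- A normal subgroup of odd order in which the centraliser of an element of order three of an alternating
subgroup is trivial. -/
theorem core_free {X : Type u} [Group X] [Finite X] {ψ : ↥(alternatingGroup (Fin 5)) →* X}
    {α : ↥(alternatingGroup (Fin 5))} (h3 : α * α * α = 1) (hα : α ≠ 1) {O : Subgroup X} [O.Normal]
    (hodd : Odd (Nat.card O)) (hfix : ∀ g ∈ O, g * ψ α = ψ α * g → g = 1) : O = ⊥ := by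
  by_contra hne
  obtain ⟨N, ⟨hNn, hNO, hN1⟩, hmin⟩ := Set.Finite.exists_minimal (Set.toFinite {N : Subgroup X | N.Normal ∧ N ≤ O ∧ N ≠ ⊥})
    ⟨O, inferInstance, le_rfl, hne⟩
  haveI := hNn
  haveI : Group.IsSolvable N := Cfsg.Agent.S0205.result (Odd.of_dvd_nat hodd (Subgroup.card_dvd_of_le hNO))
  haveI : Nontrivial N := N.nontrivial_iff_ne_bot.2 hN1
  have hlt : ⁅N, N⁆ ≠ N := by
    intro h
    refine (Group.IsSolvable.commutator_lt_top_of_nontrivial N).ne ?_
    refine Subgroup.map_injective N.subtype_injective ?_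
    rw [Subgroup.map_subtype_commutator, h, ← MonoidHom.range_eq_map, Subgroup.range_subtype]
  have hcomm : ⁅N, N⁆ = ⊥ := by
    by_contra hb
    exact hlt (le_antisymm (commutator_le_self N)
      (hmin ⟨inferInstance, (commutator_le_self N).trans hNO, hb⟩ (commutator_le_self N)))
  haveI : IsMulCommutative N := ⟨⟨fun p q => Subtype.ext (commutatorElement_eq_one_iff_mul_comm.1
    (mem_bot.1 (hcomm ▸ commutator_mem_commutator p.2 q.2)))⟩⟩
  let c : ↥(alternatingGroup (Fin 5)) →* MulAut N := MulAut.conjNormal.comp ψ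
  have hc : ∀ g y, ((c g y : N) : X) = ψ g * y * (ψ g)⁻¹ := fun g y => MulAut.conjNormal_apply _ _
  obtain ⟨s, hs2, hs1, hsc, has, ⟨k1, hk1⟩, ⟨k2, hk2⟩, k3, hk3⟩ := a5_four α h3 hα
  obtain ⟨r, hr⟩ : ∃ r, r = α * s * α⁻¹ := ⟨_, rfl⟩
  rw [← hr] at hsc has hk2 hk3
  have hfix' : ∀ k, ∀ y : N, c (k * α * k⁻¹) y = y → y = 1 := by
    intro k y hy
    have h := congrArg Subtype.val hy
    rw [hc, map_mul, map_mul, map_inv] at h
    have hm : (ψ k)⁻¹ * (y : X) * ψ k ∈ N := hNn.conj_mem' _ y.2 _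
    have := hfix _ (hNO hm) (by
      have h' := mul_inv_eq_iff_eq_mul.1 h
      calc (ψ k)⁻¹ * (y : X) * ψ k * ψ α = (ψ k)⁻¹ * ((y : X) * (ψ k * ψ α * (ψ k)⁻¹)) * ψ k := by group
        _ = (ψ k)⁻¹ * (ψ k * ψ α * (ψ k)⁻¹ * y) * ψ k := by rw [h']
        _ = ψ α * ((ψ k)⁻¹ * (y : X) * ψ k) := by group)
    exact Subtype.ext (by
      rw [show (y : X) = ψ k * ((ψ k)⁻¹ * y * ψ k) * (ψ k)⁻¹ by group, this, mul_one, mul_inv_cancel]; rfl)
  have hprod : ∀ k, ∀ y : N, y * c (k * α * k⁻¹) y * c (k * α * k⁻¹) (c (k * α * k⁻¹) y) = 1 := by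
    intro k y
    refine hfix' k _ ?_
    have h : c (k * α * k⁻¹) (c (k * α * k⁻¹) (c (k * α * k⁻¹) y)) = y := by
      rw [← MulAut.mul_apply, ← MulAut.mul_apply, ← map_mul, ← map_mul,
        show k * α * k⁻¹ * (k * α * k⁻¹) * (k * α * k⁻¹) = k * (α * α * α) * k⁻¹ by group, h3, mul_one,
        mul_inv_cancel, map_one, MulAut.one_apply]
    rw [map_mul, map_mul, h]
    ac_rfl
  have happ : ∀ p q : ↥(alternatingGroup (Fin 5)), ∀ y, c (p * q) y = c p (c q y) := fun p q y => by
    rw [map_mul, MulAut.mul_apply]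
  have key : ∀ x : N, c s (x ^ 4) = x ^ 4 := fun x => four_fpf (c α).toMonoidHom (c s).toMonoidHom
    (c r).toMonoidHom
    (fun y => by
      show c α (c α (c α y)) = y
      rw [← happ, ← happ, h3, map_one, MulAut.one_apply])
    (fun y => by simpa using hprod 1 y)
    (fun y => by have := hprod k1 y; rw [hk1] at this; simpa [happ] using this)
    (fun y => by have := hprod k2 y; rw [hk2] at this; simpa [happ] using this)
    (fun y => by have := hprod k3 y; rw [hk3] at this; simpa [happ] using this)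
    (fun y => by
      show c s (c s y) = y
      rw [← happ, hs2, map_one, MulAut.one_apply])
    (fun y => by
      show c r (c r y) = y
      rw [← happ, hr, show α * s * α⁻¹ * (α * s * α⁻¹) = α * (s * s) * α⁻¹ by group, hs2, mul_one,
        mul_inv_cancel, map_one, MulAut.one_apply])
    (fun y => by
      show c α (c s y) = c r (c α y)
      rw [← happ, ← happ, hr]; group)
    (fun y => by
      show c α (c r y) = c s (c r (c α y))
      rw [← happ, ← happ, ← happ, ← has]; group)
    (fun y => by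
      show c s (c r y) = c r (c s y)
      rw [← happ, ← happ, hsc]) x
  have hall : ∀ y : N, c s y = y := by
    intro y
    obtain ⟨m, hm⟩ : ∃ m, (y ^ 4) ^ m = y := by
      refine exists_pow_eq_self_of_coprime ?_
      exact Nat.Coprime.pow_left 2 (Nat.coprime_two_left.2
        (Odd.of_dvd_nat hodd ((_root_.orderOf_dvd_natCard y).trans (Subgroup.card_dvd_of_le hNO))))
    rw [← hm, map_pow, key]
  have hker : c.ker = ⊤ := (inferInstance : c.ker.Normal).eq_bot_or_eq_top.resolve_left fun h =>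
    hs1 (mem_bot.1 (h ▸ (show s ∈ c.ker from MulEquiv.ext hall)))
  obtain ⟨y, hy, hy1⟩ := N.bot_or_exists_ne_one.resolve_left hN1
  have h := hfix' 1 ⟨y, hy⟩ (by
    rw [show (1 : ↥(alternatingGroup (Fin 5))) * α * 1⁻¹ = α by group,
      show c α = 1 from MonoidHom.mem_ker.1 (hker ▸ mem_top α), MulAut.one_apply])
  exact hy1 (congrArg Subtype.val h)

/-- The two cases for the quotient: the linear one is excluded by an element of order three commuting with a
four-group of the derived subgroup. -/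
theorem equiv_seven {X : Type u} [Group X] [Finite X] (hO : Cfsg.oddCore X = ⊥) (T : Sylow 2 X) {n : ℕ}
    (eT : (T : Subgroup X) ≃* DihedralGroup n) {a x y : X} (hx : x * x = 1) (hx1 : x ≠ 1) (hy : y * y = 1)
    (hy1 : y ≠ 1) (hxy : x * y = y * x) (hne : x ≠ y) (hax : a * x = x * a) (hay : a * y = y * a)
    (ha : a ∈ commutator X) (hxc : x ∈ commutator X) (hyc : y ∈ commutator X) (ha3 : orderOf a = 3) :
    Nonempty (X ≃* ↥(alternatingGroup (Fin 7))) := by
  have hGW : GWApps.Statement.{u} := fun X _ _ _ S n hn hS => GW.Top.statement X S n hn hS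
  rcases GWApps.dihedral_structure hGW hO T eT with h | ⟨F, hF, hFf, hodd, K, hK, ⟨eK⟩⟩ | h
  · obtain ⟨k, hk⟩ := IsPGroup.iff_orderOf.1 h a
    rw [ha3] at hk
    have h2 : 2 ∣ 3 ∨ k = 0 := by
      rcases k.eq_zero_or_pos with e | e
      · exact Or.inr e
      · exact Or.inl (hk ▸ dvd_pow_self 2 (by omega))
    rcases h2 with h2 | rfl
    · norm_num at h2
    · norm_num at hk
  · exfalso
    set P := Matrix.ProjectiveSpecialLinearGroup (Fin 2) F
    let φ : X →* MulAut P := K.subtype.comp eK.toMonoidHom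
    have hφ : Function.Injective φ := K.subtype_injective.comp eK.injective
    have hinj : Function.Injective (MulAut.conj : P →* MulAut P) := by
      refine (injective_iff_map_eq_one _).2 fun p hp => mem_bot.1 ((psl_center hodd) ▸ mem_center_iff.2 fun q => ?_)
      exact (mul_inv_eq_iff_eq_mul.1 (DFunLike.congr_fun hp q)).symm
    have hI : ∀ g ∈ commutator X, ∃ p : P, MulAut.conj p = φ g := fun g hg =>
      GWApps.out_psl_commutator (F := F) (by
        have := Subgroup.mem_map_of_mem φ hg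
        rw [_root_.commutator_def, map_commutator] at this
        exact commutator_mono le_top le_top this)
    obtain ⟨a', ea⟩ := hI a ha
    obtain ⟨x', ex⟩ := hI x hxc
    obtain ⟨y', ey⟩ := hI y hyc
    have hne' : ∀ {p : P} {g : X}, MulAut.conj p = φ g → g ≠ 1 → p ≠ 1 := fun e hg e1 => hg (hφ (by
      rw [← e, e1, map_one, map_one]))
    have heq : ∀ {p q : P} {g h : X}, MulAut.conj p = φ g → MulAut.conj q = φ h → g * h = h * g →
        p * q = q * p := fun e e' h => hinj (by rw [map_mul, map_mul, e, e', ← map_mul, ← map_mul, h])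
    have h2 : (2 : F) ≠ 0 := by
      intro h2
      have : ringChar F = 2 := (CharP.ringChar_of_prime_eq_zero Nat.prime_two (by exact_mod_cast h2))
      have := FiniteField.even_card_of_char_two this
      exact Nat.not_even_iff_odd.2 hodd (Nat.even_iff.2 this)
    have h := psl_four h2 (x := x') (y := y') (g := a')
      (hinj (by rw [map_mul, ex, ← map_mul, hx, map_one, map_one])) (hne' ex hx1)
      (hinj (by rw [map_mul, ey, ← map_mul, hy, map_one, map_one])) (hne' ey hy1)
      (heq ex ey hxy) (fun e => hne (hφ (by rw [← ex, ← ey, e]))) (heq ea ex hax) (heq ea ey hay)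
    have h' : a * a = 1 := hφ (by rw [map_mul, ← ea, ← map_mul, h, map_one, map_one])
    have := orderOf_dvd_of_pow_eq_one (x := a) (n := 2) (by rw [pow_two, h'])
    rw [ha3] at this
    norm_num at this
  · exact h

theorem perfect_five : commutator ↥(alternatingGroup (Fin 5)) = ⊤ :=
  commutator_alternatingGroup_eq_top (by simp)

/-- The structure. -/
theorem top {C : Type u} [Group C] [Finite C] {v b a t k : C} {K U : Subgroup C}
    (hv : orderOf v = 7) (hvc : ∀ g : C, g * v = v * g)
    (hK : Nonempty (↥K ≃* ↥(alternatingGroup (Fin 5))))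
    (hbK : b ∈ K) (hb : orderOf b = 5) (hcb : ∀ g : C, g * b = b * g → ∃ i j : ℕ, g = v ^ i * b ^ j)
    (haK : a ∈ K) (ha : orderOf a = 3) (htK : t ∈ K) (ht : orderOf t = 2) (hta : t * a * t⁻¹ = a⁻¹)
    (hU : Nat.card U = 4) (hU2 : ∀ u ∈ U, u * u = 1) (hUa : ∀ u ∈ U, u * a = a * u)
    (hnU : ∀ g : C, g * a = a * g → g ∈ normalizer (U : Set C))
    (hca : ∀ g : C, g * a = a * g → (∀ u ∈ U, g * u = u * g) → ∃ i j : ℕ, ∃ u ∈ U, g = v ^ i * a ^ j * u)
    (htU : t ∈ normalizer (U : Set C)) (htU' : ∃ u ∈ U, t * u ≠ u * t)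
    (hk : k ∈ normalizer (U : Set C)) (hkU : ∀ u ∈ U, u ≠ 1 → k * u * k⁻¹ ≠ u)
    (h16 : ¬ 16 ∣ Nat.card C) : Nonempty (C ≃* Multiplicative (ZMod 7) × ↥(alternatingGroup (Fin 7))) := by
  classical
  haveI : Fact (Nat.Prime 2) := ⟨Nat.prime_two⟩
  haveI : Fact (Nat.Prime 7) := ⟨by norm_num⟩
  obtain ⟨eK⟩ := hK
  have ha3' : a ^ 3 = 1 := by rw [← ha]; exact pow_orderOf_eq_one a
  have ht2' : t ^ 2 = 1 := by rw [← ht]; exact pow_orderOf_eq_one t
  set V : Subgroup C := zpowers v with hVdef
  haveI hVn : V.Normal := ⟨fun x hx g => by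
    obtain ⟨i, rfl⟩ := hx
    have : g * v ^ i = v ^ i * g := ((show Commute g v from hvc g).zpow_right i).eq
    rw [this, mul_inv_cancel_right]
    exact zpow_mem_zpowers v i⟩
  let π : C →* C ⧸ V := QuotientGroup.mk' V
  have hπ : ∀ g, π g = 1 ↔ g ∈ V := fun g => QuotientGroup.eq_one_iff g
  have hV7 : ∀ g ∈ V, g ^ 7 = 1 := fun g ⟨i, hi⟩ => by
    rw [← hi, ← zpow_natCast, ← zpow_mul, mul_comm, zpow_mul, zpow_natCast, ← hv, pow_orderOf_eq_one, one_zpow]
  have hVpow : ∀ {g : C} {n : ℕ}, g ∈ V → g ^ n = 1 → Nat.Coprime n 7 → g = 1 := fun {g n} hg hn hc =>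
    orderOf_eq_one_iff.1 (Nat.eq_one_of_dvd_coprimes hc (orderOf_dvd_of_pow_eq_one hn)
      (orderOf_dvd_of_pow_eq_one (hV7 g hg)))
  let ψ : ↥(alternatingGroup (Fin 5)) →* C ⧸ V := π.comp (K.subtype.comp eK.symm.toMonoidHom)
  have hψ : ∀ {g : C} (hg : g ∈ K), ψ (eK ⟨g, hg⟩) = π g := fun hg => by simp [ψ]
  set α := eK ⟨a, haK⟩ with hαdef
  have hα3 : α * α * α = 1 := by
    rw [hαdef, ← map_mul, ← map_mul, show (⟨a, haK⟩ : K) * ⟨a, haK⟩ * ⟨a, haK⟩ = 1 from Subtype.ext (by
      show a * a * a = 1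
      rw [← pow_two, ← pow_succ]; exact ha3'), map_one]
  have hα1 : α ≠ 1 := fun e => by
    have := congrArg Subtype.val (eK.injective (e.trans (map_one eK).symm))
    simp only [OneMemClass.coe_one] at this
    rw [this, orderOf_one] at ha
    norm_num at ha
  -- the core is trivial
  have hfix : ∀ g ∈ Cfsg.oddCore (C ⧸ V), g * π a = π a * g → g = 1 := by
    intro g hg hga
    obtain ⟨c, rfl⟩ := QuotientGroup.mk'_surjective V g
    change π c * π a = π a * π c at hga
    have hz : c * a * c⁻¹ * a⁻¹ ∈ V := (hπ _).1 (by rw [map_mul, map_mul, map_mul, hga, map_inv, map_inv]; group)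
    have hca' : c * a = a * c := by
      have hcomm : Commute (c * a * c⁻¹ * a⁻¹) a := by
        obtain ⟨i, hi⟩ := hz
        rw [← hi]
        exact ((show Commute a v from hvc a).zpow_right i).symm
      have h3 : (c * a * c⁻¹ * a⁻¹) ^ 3 = 1 := by
        have h : (c * a * c⁻¹ * a⁻¹ * a) ^ 3 = (c * a * c⁻¹ * a⁻¹) ^ 3 * a ^ 3 := hcomm.mul_pow 3
        rw [inv_mul_cancel_right, conj_pow, ha3', mul_one, mul_inv_cancel, mul_one] at h
        exact h.symm
      have := hVpow hz h3 (by norm_num)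
      exact mul_inv_eq_iff_eq_mul.1 (mul_inv_eq_one.1 this)
    have hcU : ∀ u ∈ U, c * u = u * c := by
      intro u hu
      have hmemU : c * u * c⁻¹ * u⁻¹ ∈ U := mul_mem ((mem_normalizer_iff.1 (hnU c hca') u).1 hu) (inv_mem hu)
      have hmemO : π (c * u * c⁻¹ * u⁻¹) ∈ Cfsg.oddCore (C ⧸ V) := by
        rw [map_mul, map_mul, map_mul, map_inv, map_inv, mul_assoc, mul_assoc]
        refine mul_mem hg ?_
        rw [← mul_assoc]
        exact (DGroup.normal_oddCore _).conj_mem _ (inv_mem hg) _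
      have h1 := orderOf_dvd_of_pow_eq_one (x := π (c * u * c⁻¹ * u⁻¹)) (n := 2)
        (by rw [← map_pow, pow_two, hU2 _ hmemU, map_one])
      have h2 := DGroup.odd_orderOf (DGroup.odd_oddCore _) hmemO
      have h3 : orderOf (π (c * u * c⁻¹ * u⁻¹)) = 1 := by
        rcases (Nat.dvd_prime Nat.prime_two).1 h1 with h | h
        · exact h
        · rw [h] at h2; exact absurd h2 (by decide)
      have := hVpow ((hπ _).1 (orderOf_eq_one_iff.1 h3)) (n := 2) (by rw [pow_two, hU2 _ hmemU]) (by norm_num)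
      exact mul_inv_eq_iff_eq_mul.1 (mul_inv_eq_one.1 this)
    obtain ⟨i, j, u, hu, rfl⟩ := hca c hca' hcU
    change π (v ^ i * a ^ j * u) ∈ _ at hg
    show π (v ^ i * a ^ j * u) = 1
    rw [map_mul, map_mul, (hπ (v ^ i)).2 (pow_mem (mem_zpowers v) i), one_mul] at hg ⊢
    have hcomm : Commute (π (a ^ j)) (π u) :=
      ((show Commute u a from hUa u hu).pow_right j).symm.map π
    have hu1 : π u = 1 := by
      have h2 := DGroup.odd_orderOf (DGroup.odd_oddCore _) hg
      have h3 : (π (a ^ j) * π u) ^ 3 = π u := by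
        rw [hcomm.mul_pow, ← map_pow, ← pow_mul, mul_comm j 3, pow_mul, ha3', one_pow,
          map_one, one_mul, pow_succ, pow_two, ← map_mul, hU2 u hu, map_one, one_mul]
      have h4 : orderOf (π u) ∣ 2 := orderOf_dvd_of_pow_eq_one (by rw [pow_two, ← map_mul, hU2 u hu, map_one])
      rcases (Nat.dvd_prime Nat.prime_two).1 h4 with h | h
      · exact orderOf_eq_one_iff.1 h
      · have := h3 ▸ orderOf_pow_dvd (x := π (a ^ j) * π u) 3
        rw [h] at this
        exact absurd ((even_iff_two_dvd).2 this) (Nat.not_even_iff_odd.2 h2)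
    rw [hu1, mul_one] at hg ⊢
    -- the trace on the alternating subgroup
    rcases ((DGroup.normal_oddCore (C ⧸ V)).comap ψ).eq_bot_or_eq_top with h | h
    · have : eK ⟨a ^ j, pow_mem haK j⟩ ∈ (Cfsg.oddCore (C ⧸ V)).comap ψ := by
        rw [mem_comap, hψ (pow_mem haK j)]; exact hg
      rw [h, mem_bot] at this
      have := congrArg Subtype.val (eK.injective (this.trans (map_one eK).symm))
      change a ^ j = 1 at this
      rw [this, map_one]
    · exfalso
      have : eK ⟨t, htK⟩ ∈ (Cfsg.oddCore (C ⧸ V)).comap ψ := h ▸ mem_top _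
      rw [mem_comap, hψ htK] at this
      have h2 := DGroup.odd_orderOf (DGroup.odd_oddCore _) this
      have h3 : π t = 1 := by
        rcases (Nat.dvd_prime Nat.prime_two).1 (show orderOf (π t) ∣ 2 by rw [← ht]; exact orderOf_map_dvd π t) with e | e
        · exact orderOf_eq_one_iff.1 e
        · rw [e] at h2; exact absurd h2 (by decide)
      have := hVpow ((hπ _).1 h3) (n := 2) ht2' (by norm_num)
      rw [this, orderOf_one] at ht
      norm_num at ht
  have hO : Cfsg.oddCore (C ⧸ V) = ⊥ := by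
    haveI := DGroup.normal_oddCore (C ⧸ V)
    exact core_free (ψ := ψ) hα3 hα1 (DGroup.odd_oddCore _) (fun g hg h => hfix g hg (by rwa [hψ haK] at h))
  -- the Sylow subgroup
  obtain ⟨u, hu, htu⟩ := htU'
  have hu1 : u ≠ 1 := fun e => htu (by rw [e, mul_one, one_mul])
  have ht2 : t * t = 1 := by rw [← pow_two, ht2']
  set w := t * u * t⁻¹ * u⁻¹ with hw
  have hwU : w ∈ U := mul_mem ((mem_normalizer_iff.1 htU u).1 hu) (inv_mem hu)
  have hw1 : w ≠ 1 := fun e => htu (mul_inv_eq_iff_eq_mul.1 (mul_inv_eq_one.1 e))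
  have hinj2 : ∀ g, g ^ 4 = 1 → π g = 1 → g = 1 := fun g hg h => hVpow ((hπ g).1 h) hg (by norm_num)
  have htu2 : (t * u) ^ 2 = w := by
    rw [hw, inv_eq_of_mul_eq_one_right (hU2 u hu), inv_eq_of_mul_eq_one_right ht2, pow_two]
    simp only [mul_assoc]
  have sq4 : ∀ {g : C}, g * g = 1 → g ^ 4 = 1 := fun {g} h => by
    rw [show 4 = 2 * 2 from rfl, pow_mul, pow_two g, h, one_pow]
  have htu4 : (t * u) ^ 4 = 1 := by
    rw [show 4 = 2 * 2 from rfl, pow_mul, htu2, pow_two, hU2 w hwU]
  have hπt : orderOf (π t) = 2 := orderOf_eq_prime (by rw [← map_pow, ht2', map_one])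
    fun e => by
      have := hinj2 t (sq4 ht2) e
      rw [this, orderOf_one] at ht; norm_num at ht
  have hπu : orderOf (π u) = 2 := orderOf_eq_prime (by rw [← map_pow, pow_two, hU2 u hu, map_one])
    fun e => hu1 (hinj2 u (sq4 (hU2 u hu)) e)
  have hπtu : orderOf (π t * π u) = 4 := by
    rw [← map_mul, show (4 : ℕ) = 2 ^ (1 + 1) from rfl]
    refine orderOf_eq_prime_pow ?_ ?_
    · rw [← map_pow, pow_one, htu2]
      exact fun e => hw1 (hinj2 w (sq4 (hU2 w hwU)) e)
    · rw [← map_pow, show 2 ^ (1 + 1) = 4 from rfl, htu4, map_one]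
  have hne : π t ≠ π u := fun e => by
    rw [e, ← map_mul, hU2 u hu, map_one, orderOf_one] at hπtu; norm_num at hπtu
  obtain ⟨eD⟩ := Invol.nonempty_dihedral_equiv hπt hπu hne
  set D := closure ({π t, π u} : Set (C ⧸ V))
  have hD8 : Nat.card D = 8 := by
    rw [Nat.card_congr eD.toEquiv, hπtu, DihedralGroup.nat_card]
  obtain ⟨T, hT⟩ := (IsPGroup.of_card (n := 3) hD8 : IsPGroup 2 D).exists_le_sylow
  have hTD : (T : Subgroup (C ⧸ V)) = D := by
    refine (eq_of_le_of_card_ge hT ?_).symm
    obtain ⟨m, hm⟩ := IsPGroup.iff_card.1 T.2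
    rw [hD8, hm]
    have : m ≤ 3 := by
      by_contra hm4
      refine h16 ((pow_dvd_pow 2 (show 4 ≤ m by omega)).trans ?_)
      rw [← hm]
      exact (Subgroup.card_subgroup_dvd_card _).trans (Subgroup.card_quotient_dvd_card V)
    exact (Nat.pow_le_pow_right (by norm_num) this).trans (by norm_num)
  -- elements of the derived subgroup
  have hcK : ∀ g ∈ K, π g ∈ commutator (C ⧸ V) := by
    intro g hg
    rw [← hψ hg, _root_.commutator_def]
    have h := Subgroup.mem_map_of_mem ψ (show eK ⟨g, hg⟩ ∈ commutator _ from perfect_five ▸ mem_top _)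
    rw [_root_.commutator_def, map_commutator] at h
    exact commutator_mono le_top le_top h
  have hcw : π w ∈ commutator (C ⧸ V) := by
    rw [hw, map_mul, map_mul, map_mul, map_inv, map_inv, ← commutatorElement_def]
    exact commutator_mem_commutator (mem_top _) (mem_top _)
  set w' := k * w * k⁻¹ with hw'
  have hw'U : w' ∈ U := (mem_normalizer_iff.1 hk w).1 hwU
  have hcw' : π w' ∈ commutator (C ⧸ V) := by
    rw [hw', map_mul, map_mul, map_inv]
    exact (inferInstance : (commutator (C ⧸ V)).Normal).conj_mem _ hcw _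
  have hU4 : ∀ p ∈ U, π p = 1 → p = 1 := fun p hp h =>
    hinj2 p (sq4 (hU2 p hp)) h
  have hUcomm : ∀ p ∈ U, ∀ q ∈ U, p * q = q * p := fun p hp q hq => by
    calc p * q = p⁻¹ * q⁻¹ := by rw [inv_eq_of_mul_eq_one_right (hU2 p hp), inv_eq_of_mul_eq_one_right (hU2 q hq)]
      _ = q * p := by rw [← mul_inv_rev, inv_eq_of_mul_eq_one_right (hU2 _ (mul_mem hq hp))]
  have hπa : orderOf (π a) = 3 := orderOf_eq_prime (by rw [← map_pow, ha3', map_one])
    fun e => by
      have := hVpow ((hπ a).1 e) (n := 3) ha3' (by norm_num)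
      rw [this, orderOf_one] at ha; norm_num at ha
  obtain ⟨eX⟩ := equiv_seven hO T ((MulEquiv.subgroupCongr hTD).trans eD)
    (a := π a) (x := π w) (y := π w') (by rw [← map_mul, hU2 w hwU, map_one]) (fun e => hw1 (hU4 w hwU e))
    (by rw [← map_mul, hU2 w' hw'U, map_one]) (fun e => hw1 (by
      have := hU4 w' hw'U e
      rwa [hw', conj_eq_one_iff] at this))
    (by rw [← map_mul, ← map_mul, hUcomm w hwU w' hw'U])
    (fun e => hkU w hwU hw1 (by
      have := hU4 _ (mul_mem hw'U (inv_mem hwU)) (by rw [map_mul, map_inv, e, mul_inv_cancel])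
      exact mul_inv_eq_one.1 this))
    (by rw [← map_mul, ← map_mul, hUa w hwU]) (by rw [← map_mul, ← map_mul, hUa w' hw'U])
    (hcK a haK) hcw hcw' hπa
  -- splitting
  have hV : Nat.card V = 7 := (Nat.card_zpowers v).trans hv
  have hX : Nat.card (C ⧸ V) = 2520 := by
    rw [Nat.card_congr eX.toEquiv, nat_card_alternatingGroup, Nat.card_fin]; rfl
  have hC : Nat.card C = 49 * 360 := by
    rw [Subgroup.card_eq_card_quotient_mul_card_subgroup V, hV, hX]
  obtain ⟨P, hP⟩ := (IsPGroup.of_card (n := 1) (hV.trans (pow_one 7).symm) : IsPGroup 7 V).exists_le_sylow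
  have hPcard : Nat.card P = 7 ^ 2 := by
    rw [P.card_eq_multiplicity, hC]
    congr 1
    rw [show 49 * 360 = 7 ^ 2 * 360 from rfl, Nat.factorization_mul (by norm_num) (by norm_num),
      Finsupp.add_apply, Nat.Prime.factorization_pow (by norm_num), Finsupp.single_eq_same,
      Nat.factorization_eq_zero_of_not_dvd (show ¬ 7 ∣ 360 by norm_num)]
  haveI : IsMulCommutative (P : Subgroup C) := ⟨⟨IsPGroup.commutative_of_card_eq_prime_sq hPcard⟩⟩
  have hidx : (P : Subgroup C).index = 360 := by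
    have := (P : Subgroup C).card_mul_index
    rw [hPcard, hC] at this
    omega
  let f : C →* (P : Subgroup C) := MonoidHom.transfer (MonoidHom.id (P : Subgroup C))
  have hf : ∀ g ∈ V, (f g : C) = g ^ 360 := by
    intro g hg
    have hcen : ∀ h, h * g = g * h := fun h => by
      obtain ⟨i, rfl⟩ := hg
      exact ((show Commute h v from hvc h).zpow_right i).eq
    show ((MonoidHom.transfer (MonoidHom.id (P : Subgroup C)) g : (P : Subgroup C)) : C) = g ^ 360
    rw [MonoidHom.transfer_eq_pow _ _ (fun m g₀ _ => by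
      rw [mul_assoc, ← ((show Commute g₀ g from hcen g₀).pow_right m).eq, inv_mul_cancel_left]),
      MonoidHom.id_apply]
    show g ^ (P : Subgroup C).index = g ^ 360
    rw [hidx]
  set C' := commutator C with hC'
  have hdisj : ∀ g ∈ C', g ∈ V → g = 1 := by
    intro g hg hgV
    refine hVpow hgV (n := 360) ?_ (by norm_num)
    rw [← hf g hgV, show f g = 1 from Abelianization.commutator_subset_ker f hg]; rfl
  have hA7 : commutator (C ⧸ V) = ⊤ := by
    rw [eq_top_iff]
    intro g _
    have h := Subgroup.mem_map_of_mem eX.symm.toMonoidHom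
      (show eX g ∈ commutator _ from (commutator_alternatingGroup_eq_top (α := Fin 7) (by simp)) ▸ mem_top _)
    rw [_root_.commutator_def, map_commutator] at h
    have h' := commutator_mono le_top le_top h
    rwa [MulEquiv.coe_toMonoidHom, MulEquiv.symm_apply_apply] at h'
  let q : C' →* C ⧸ V := π.comp C'.subtype
  have hq : Function.Bijective q := by
    refine ⟨(injective_iff_map_eq_one _).2 fun g hg => Subtype.ext (hdisj g g.2 ((hπ _).1 hg)), fun g => ?_⟩
    have : g ∈ C'.map π := by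
      rw [hC', _root_.commutator_def, map_commutator, map_top_of_surjective π (QuotientGroup.mk'_surjective V),
        ← _root_.commutator_def, hA7]
      trivial
    obtain ⟨c, hc, rfl⟩ := this
    exact ⟨⟨c, hc⟩, rfl⟩
  let eC : C' ≃* ↥(alternatingGroup (Fin 7)) := (MulEquiv.ofBijective q hq).trans eX
  let μ : V × C' →* C := MonoidHom.noncommCoprod V.subtype C'.subtype fun p c => by
    obtain ⟨i, hi⟩ := p.2
    show Commute (p : C) c
    rw [← hi]
    exact ((show Commute (c : C) v from hvc c).zpow_right i).symm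
  have hμ : Function.Bijective μ := by
    refine ⟨(injective_iff_map_eq_one _).2 ?_, fun g => ?_⟩
    · rintro ⟨p, c⟩ h
      change (p : C) * c = 1 at h
      have hc : (c : C) = 1 := hdisj c c.2 (by rw [eq_inv_of_mul_eq_one_right h]; exact inv_mem p.2)
      rw [hc, mul_one] at h
      exact Prod.ext (Subtype.ext h) (Subtype.ext hc)
    · obtain ⟨c, hc⟩ := hq.2 (π g)
      have hgc : g * (c : C)⁻¹ ∈ V := (hπ _).1 (by
        rw [map_mul, map_inv, ← hc]; exact mul_inv_cancel _)
      exact ⟨(⟨_, hgc⟩, c), inv_mul_cancel_right g c⟩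
  haveI : IsCyclic V := isCyclic_of_prime_card hV
  exact ⟨(MulEquiv.ofBijective μ hμ).symm.trans (MulEquiv.prodCongr
    ((mulEquivOfCyclicCardEq (by rw [hV, Nat.card_congr Multiplicative.toAdd, Nat.card_zmod])) :
      V ≃* Multiplicative (ZMod 7)) eC)⟩

end CfsgLib.Co1Loc.SevenTop
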