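import Cfsg.Agent.Co1Loc.SevenNine
import Cfsg.Agent.Co1Loc.SevenSylow
import Cfsg.Agent.Co1Loc.SevenTop

/-!
The centraliser of an element of order seven: cyclic of order seven times alternating of degree seven.
-/

set_option autoImplicit false
set_option maxRecDepth 100000
set_option synthInstance.maxSize 4096
set_option linter.style.haveILetI false
set_option linter.unusedSectionVars false

namespace CfsgLib.Co1Loc

open CfsgLib CfsgLib.Quad CfsgLib.Co1Invol CfsgLib.Co1Five Subgroup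

variable {G : Type*} [Group G] [Finite G] {z : G}

namespace Seven

/-- An integer power is a natural power. -/
theorem exists_nat_pow {H : Type*} [Group H] [Finite H] (p : H) (j : ℤ) : ∃ m : ℕ, p ^ j = p ^ m :=
  ⟨(j % (orderOf p : ℤ)).toNat, by
    rw [← zpow_natCast, Int.toNat_of_nonneg (Int.emod_nonneg _ (by exact_mod_cast (orderOf_pos p).ne')),
      zpow_mod_orderOf]⟩

/-- A power of an element of order three is trivial, the element or its inverse. -/
theorem three_cases {H : Type*} [Group H] {p : H} (hp : p ^ 3 = 1) (j : ℤ) :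
    p ^ j = 1 ∨ p ^ j = p ∨ p ^ j = p⁻¹ := by
  rw [← Int.emod_add_mul_ediv j ((3 : ℕ) : ℤ), zpow_add, zpow_mul, zpow_natCast, hp, one_zpow, mul_one]
  have h0 : 0 ≤ j % ((3 : ℕ) : ℤ) := Int.emod_nonneg _ (by norm_num)
  have h3 : j % ((3 : ℕ) : ℤ) < 3 := Int.emod_lt_of_pos _ (by norm_num)
  obtain e | e | e : j % ((3 : ℕ) : ℤ) = 0 ∨ j % ((3 : ℕ) : ℤ) = 1 ∨ j % ((3 : ℕ) : ℤ) = 2 := by omega
  · exact Or.inl (by rw [e, zpow_zero])
  · exact Or.inr (Or.inl (by rw [e, zpow_one]))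
  · refine Or.inr (Or.inr (eq_inv_of_mul_eq_one_left ?_))
    rw [e, zpow_two, ← pow_two, ← pow_succ, hp]

variable {D : Dat z} {b x : G} {A : Subgroup G} {c t : G} {w r r' a u v y : G}
  {f : ↥(alternatingGroup (Fin 9)) →* G}

/-- The twists of the element of order three are conjugate to the element of the model. -/
theorem twist (W : Wit D b x w r r' a u v y) (N : Nine c t w a r (compl b x) f) (ha : f pA ∈ compl b x) (j : ℤ) :
    ∃ g : G, g * w * g⁻¹ = y * f pA ^ j := by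
  classical
  obtain ⟨h, hh, hy⟩ := W.conj_y
  have hA : (f pA) ^ 3 = 1 := by rw [pow_succ, pow_two, ← map_mul, ← map_mul, pA_facts.1, map_one]
  have hha : ∀ i : ℤ, Commute h (f pA ^ i) := fun i =>
    ((show Commute (f pA) h from mem_centralizer_iff.1 hh _ ha).symm).zpow_right i
  have he : h * (y * f pA ^ j) * h⁻¹ = w * f pA ^ j := by
    rw [show h * (y * f pA ^ j) * h⁻¹ = (h * y * h⁻¹) * (h * f pA ^ j * h⁻¹) by group, hy, (hha j).eq,
      mul_inv_cancel_right]
  have hback : ∀ g : G, g * w * g⁻¹ = w * f pA ^ j → ∃ g' : G, g' * w * g'⁻¹ = y * f pA ^ j := fun g hg =>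
    ⟨h⁻¹ * g, by rw [show h⁻¹ * g * w * (h⁻¹ * g)⁻¹ = h⁻¹ * (g * w * g⁻¹) * h by group, hg, ← he]; group⟩
  obtain ⟨pa, hpa, hlow⟩ := N.four_a
  obtain ⟨ρ, hρ⟩ := NineW.mem_j54_right hlow
  have hpa1 : pa ≠ 1 := fun e => by
    have h1 := W.orda
    rw [← hpa, e, map_one, orderOf_one] at h1
    omega
  have hpa3 : pa * pa * pa = 1 := N.inj (by
    rw [map_mul, map_mul, hpa, map_one, ← pow_two, ← pow_succ]
    show a ^ 3 = 1
    rw [← W.orda, pow_orderOf_eq_one])
  have hpac : (pa : Equiv.Perm (Fin 9)).IsThreeCycle := by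
    rw [← card_support_eq_three_iff, hρ]
    refine three_high ρ ?_ fun e => hpa1 (Subtype.ext ?_)
    · have e := congrArg Subtype.val hpa3
      simp only [Subgroup.coe_mul, Subgroup.coe_one, hρ, ← map_mul] at e
      exact congrArg Prod.snd (NineW.j54_inj (e.trans (map_one _).symm))
    · rw [hρ, e]
      exact map_one _
  have hmain : ∀ q : ↥(alternatingGroup (Fin 9)), (q : Equiv.Perm (Fin 9)).support.card = 3 → f q = f pA ^ j →
      ∃ g : G, g * w * g⁻¹ = w * f pA ^ j := by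
    intro q hq hqe
    obtain ⟨s, hs⟩ := isConj_iff.1 (alternatingGroup.isThreeCycle_isConj
      (by rw [Nat.card_eq_fintype_card, Fintype.card_fin]; norm_num)
      (card_support_eq_three_iff.1 hq) hpac)
    obtain ⟨h₂, hh₂, hwa⟩ := W.conj_wa
    have e1 : f s * f q * (f s)⁻¹ = a := by rw [← map_inv, ← map_mul, ← map_mul, hs, hpa]
    have e2 : f s * w * (f s)⁻¹ = w := by rw [N.comm s, mul_inv_cancel_right]
    refine ⟨(h₂ * f s)⁻¹, ?_⟩
    calc (h₂ * f s)⁻¹ * w * ((h₂ * f s)⁻¹)⁻¹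
        = (f s)⁻¹ * (h₂⁻¹ * w * h₂) * f s := by group
      _ = (f s)⁻¹ * (h₂⁻¹ * (h₂ * (w * a) * h₂⁻¹) * h₂) * f s := by rw [hwa]
      _ = (f s)⁻¹ * ((f s * w * (f s)⁻¹) * (f s * f q * (f s)⁻¹)) * f s := by rw [e1, e2]; group
      _ = w * f pA ^ j := by rw [hqe]; group
  rcases three_cases hA j with e | e | e
  · exact hback 1 (by rw [e]; group)
  · obtain ⟨g, hg⟩ := hmain pA pA_facts.2.2.2.2.2.1 e.symm
    exact hback g hg
  · obtain ⟨g, hg⟩ := hmain pA⁻¹ pA_facts.2.2.2.2.2.2.1 (by rw [map_inv, e])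
    exact hback g hg

/-- The data on the element of order seven. -/
theorem exists_sev {g₀ : G} (h₀ : g₀ * z * g₀⁻¹ ∈ D.Q) (hne : g₀ * z * g₀⁻¹ ≠ z) (F : Five D b)
    (S : Split D b x) (hK : Nonempty (↥(compl b x) ≃* ↥(alternatingGroup (Fin 5))))
    (hdec : ∀ g ∈ centralizer ({b} : Set G), ∃ h ∈ centralizer (compl b x : Set G), ∃ i : ℤ, g = h * b ^ i)
    (W : Wit D b x w r r' a u v y) (N : Nine c t w a r (compl b x) f) :
    ∃ U : Subgroup G, Sev v y (f pA) (f pT) b U := by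
  classical
  obtain ⟨hA3, hA1, hT2, hT1, htA, -, -, fA, fT⟩ := pA_facts
  have ha := low_mem N hK fA
  have ht := low_mem N hK fT
  have hb : b ∈ compl b x := Subgroup.subset_closure (Or.inr rfl)
  have hc : ∀ {g k : G}, g ∈ centralizer (compl b x : Set G) → k ∈ compl b x → Commute g k := fun hg hk =>
    (mem_centralizer_iff.1 hg _ hk).symm
  have ha3 : f pA ^ 3 = 1 := by rw [pow_succ, pow_two, ← map_mul, ← map_mul, hA3, map_one]
  have ha1 : f pA ≠ 1 := fun e => hA1 (N.inj (by rw [e, map_one]))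
  obtain ⟨ψ, hψ, hker⟩ := exists_psi h₀ hne ha F S ha3 ha1 W.ordv (hc W.memv ha)
  obtain ⟨U, hU⟩ := exists_quad ha3 W.ordv (hc W.memv ha) hψ hker
  have hthirty : ∀ g : G, Commute g v → Commute g b → g ^ 35 = 1 := by
    intro g hgv hgb
    obtain ⟨h, hh, i, rfl⟩ := hdec g (mem_centralizer_singleton_iff.2 hgb)
    have hhv : Commute h v := by
      have := hgv.mul_left ((hc W.memv hb).symm.zpow_left i).inv_left
      rwa [mul_inv_cancel_right] at this
    obtain ⟨j, rfl⟩ := mem_zpowers_iff.1 (W.cent_v h hh hhv)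
    rw [((hc W.memv hb).zpow_zpow j i).mul_pow, ← zpow_natCast (v ^ j), ← zpow_natCast (b ^ i), ← zpow_mul,
      ← zpow_mul, mul_comm j, mul_comm i, zpow_mul, zpow_mul, zpow_natCast, zpow_natCast,
      show (35 : ℕ) = 7 * 5 from rfl, pow_mul, ← W.ordv, pow_orderOf_eq_one, one_pow, one_zpow, one_mul, W.ordv,
      mul_comm 7 5, pow_mul, F.pow, one_pow, one_zpow]
  refine ⟨U, {
    toQuad4 := hU, v7 := W.ordv, y3 := W.ordy ▸ pow_orderOf_eq_one y, a3 := ha3, a_ne := ha1,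
    t2 := by rw [← map_mul, hT2, map_one], tinv := by rw [← map_inv, ← map_mul, ← map_mul, htA, map_inv],
    va := hc W.memv ha, vt := hc W.memv ht, ya := hc W.memy ha, yt := hc W.memy ht, yv := W.norm_v,
    thirty := hthirty, nine := ?_ }⟩
  intro k hkv hky hka hkt hk9
  obtain ⟨h, hh, hy⟩ := W.conj_y
  set k' := h * k * h⁻¹ with hk'
  have hk'w : k' * w = w * k' := by rw [← hy]; exact ((Commute.conj_iff h).2 hky).eq
  obtain ⟨p, i, hp⟩ := N.decomp k' hk'w
  have hfix : ∀ {g : G}, g ∈ compl b x → h * g * h⁻¹ = g := fun hg => by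
    rw [(hc hh hg).eq, mul_inv_cancel_right]
  have hcancel : ∀ q, f q ∈ compl b x → Commute k (f q) → p * q = q * p := fun q hq hkq => N.inj (by
    have h1 : Commute k' (f q) := hfix hq ▸ (Commute.conj_iff h).2 hkq
    rw [hp] at h1
    have h2 : Commute (w ^ i) (f q) := ((show Commute (f q) w from N.comm q).symm).pow_left i
    have h3 := h1.mul_left h2.inv_left
    rw [mul_inv_cancel_right] at h3
    rw [map_mul, map_mul, h3.eq])
  have hp9 : p ^ 9 = 1 := N.inj (by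
    have h1 : k' ^ 9 = 1 := by rw [hk', conj_pow, hk9, mul_one, mul_inv_cancel]
    rw [hp, ((show Commute (f p) w from N.comm p).pow_right i).mul_pow, ← pow_mul, mul_comm i 9,
      show 9 * i = orderOf w * (3 * i) by rw [W.ordw]; ring, pow_mul, pow_orderOf_eq_one, one_pow, mul_one] at h1
    rw [map_pow, h1, map_one])
  have hlow := comm_pair hp9 (hcancel pA ha hka) (hcancel pT ht hkt)
  obtain ⟨qb, hqb, hqfix⟩ := N.five b hb
  have hdis : Equiv.Perm.Disjoint (p : Equiv.Perm (Fin 9)) (qb : Equiv.Perm (Fin 9)) := fun i =>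
    (lt_or_ge i 5).elim (fun hi => Or.inl (hlow i hi)) fun hi => Or.inr (hqfix i hi)
  have hpq : Commute (f p) b := hqb ▸ (show Commute p qb from Subtype.ext hdis.commute.eq).map f
  have hkb : Commute k b := by
    have h1 : Commute k' b := hp ▸ hpq.mul_left ((hc W.memw hb).pow_left i)
    have h2 := (Commute.conj_iff h⁻¹).2 h1
    rw [hk', show h⁻¹ * (h * k * h⁻¹) * h⁻¹⁻¹ = k by group] at h2
    have e : h⁻¹ * b * h⁻¹⁻¹ = b := by
      rw [((hc hh hb).inv_left).eq, mul_inv_cancel_right]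
    rwa [e] at h2
  exact orderOf_eq_one_iff.1 (Nat.dvd_one.1 ((Nat.dvd_gcd (orderOf_dvd_of_pow_eq_one (hthirty k hkv hkb))
    (orderOf_dvd_of_pow_eq_one hk9)).trans (by norm_num)))

end Seven

open Seven in
/-- The centraliser of the element of order seven is cyclic of order seven times alternating of degree seven. -/
theorem v_part {D : Dat z} {g₀ : G} (h₀ : g₀ * z * g₀⁻¹ ∈ D.Q) (hne : g₀ * z * g₀⁻¹ ≠ z)
    {b x : G} (F : Five D b) (S : Split D b x) {A : Subgroup G} {c t : G}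
    (hK : Nonempty (↥(compl b x) ≃* ↥(alternatingGroup (Fin 5))))
    (hdec : ∀ g ∈ centralizer ({b} : Set G), ∃ h ∈ centralizer (compl b x : Set G), ∃ i : ℤ, g = h * b ^ i)
    (Cl : Cls D A c t) {w r r' a u v y : G} (W : Wit D b x w r r' a u v y)
    {f : ↥(alternatingGroup (Fin 9)) →* G} (N : Nine c t w a r (compl b x) f) :
    Nonempty (↥(centralizer (zpowers v : Set G)) ≃* Multiplicative (ZMod 7) × alternatingGroup (Fin 7)) := by
  classical
  obtain ⟨hA3, hA1, hT2, hT1, htA, -, -, fA, fT⟩ := pA_facts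
  have ha := low_mem N hK fA
  have ht := low_mem N hK fT
  have hb : b ∈ compl b x := Subgroup.subset_closure (Or.inr rfl)
  obtain ⟨U, V⟩ := exists_sev h₀ hne F S hK hdec W N
  set a₀ := f pA with ha₀
  set t₀ := f pT with ht₀
  have hno8 : ∀ (j : ℤ) (R : Subgroup G), Nat.card R = 8 → (∀ p ∈ R, ∀ q ∈ R, p * q = q * p) →
      (∀ p ∈ R, Commute p (y * a₀ ^ j)) → (∀ p ∈ R, Commute p v) → False := by
    intro j R h8 hR hRe hRv
    obtain ⟨g, hg⟩ := twist W N ha j
    exact no_eight_cent Cl W.ordw N (g := g) W.ordv h8 hR (fun p hp => hg ▸ (hRe p hp).eq) fun p hp => (hRv p hp).eq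
  have hno16 : ∀ R : Subgroup G, 16 ∣ Nat.card R → (∀ p ∈ R, Commute p y) → (∀ p ∈ R, Commute p v) → False := by
    intro R h16 hRy hRv
    obtain ⟨g, hg⟩ := twist W N ha 0
    rw [zpow_zero, mul_one] at hg
    exact no_sixteen_cent Cl W.ordw N (g := g) W.ordv h16 (fun p hp => hg ▸ (hRy p hp).eq) fun p hp => (hRv p hp).eq
  set C := centralizer (zpowers v : Set G) with hC
  have hmem : ∀ {g : G}, g ∈ C ↔ Commute g v := fun {g} => by
    rw [hC, mem_centralizer_iff]
    refine ⟨fun h => (h v (mem_zpowers v)).symm, fun h k hk => ?_⟩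
    obtain ⟨i, rfl⟩ := mem_zpowers_iff.1 hk
    exact (h.zpow_right i).symm.eq
  have hKC : compl b x ≤ C := fun k hk => hmem.2 (mem_centralizer_iff.1 W.memv k hk)
  have hUC : U ≤ C := fun p hp => hmem.2 (V.comm_v p hp)
  have ho : ∀ {g : G} (h : g ∈ C) {n : ℕ}, orderOf g = n → orderOf (⟨g, h⟩ : C) = n := fun h n e => by
    rw [Subgroup.orderOf_mk]; exact e
  obtain ⟨m, hmv, hma, hmn, hmf⟩ := V.moved
  obtain ⟨eK⟩ := hK
  have hnorm : ∀ {g : C}, (∀ p ∈ U, (g : G) * p * (g : G)⁻¹ ∈ U) → (∀ p ∈ U, (g : G)⁻¹ * p * g ∈ U) →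
      g ∈ normalizer (U.subgroupOf C : Set C) := fun {g} h1 h2 => mem_normalizer_iff.2 fun p => by
    rw [mem_subgroupOf, mem_subgroupOf]
    push_cast
    refine ⟨h1 p, fun h => ?_⟩
    have := h2 _ h
    rwa [show (g : G)⁻¹ * ((g : G) * p * (g : G)⁻¹) * g = p by group] at this
  have hperm : ∀ {g : C}, (∀ p ∈ U, (g : G) * p * (g : G)⁻¹ ∈ U) → g ∈ normalizer (U.subgroupOf C : Set C) := by
    intro g h1
    refine hnorm h1 fun p hp => ?_
    let φ : U → U := fun q => ⟨(g : G) * q * (g : G)⁻¹, h1 q q.2⟩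
    obtain ⟨q, hq⟩ := (Finite.injective_iff_surjective.1 (show Function.Injective φ from fun q q' e =>
      Subtype.ext (mul_left_cancel (mul_right_cancel (congrArg Subtype.val e))))) ⟨p, hp⟩
    have hq' : (g : G) * q * (g : G)⁻¹ = p := congrArg Subtype.val hq
    rw [← hq', show (g : G)⁻¹ * ((g : G) * q * (g : G)⁻¹) * g = q by group]
    exact q.2
  obtain ⟨u₁, hu₁, htu⟩ := V.t_moves hno8
  refine SevenTop.top (C := ↥C) (v := ⟨v, hmem.2 (Commute.refl v)⟩) (b := ⟨b, hKC hb⟩) (a := ⟨a₀, hKC ha⟩)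
    (t := ⟨t₀, hKC ht⟩) (k := ⟨m, hmem.2 hmv⟩) (K := (compl b x).subgroupOf C) (U := U.subgroupOf C)
    (ho _ W.ordv) (fun g => Subtype.ext (hmem.1 g.2).eq) ⟨(subgroupOfEquivOfLe hKC).trans eK⟩
    (mem_subgroupOf.2 hb) (ho _ (haveI : Fact (Nat.Prime 5) := ⟨by norm_num⟩; orderOf_eq_prime F.pow F.ne_one)) ?_
    (mem_subgroupOf.2 ha) (ho _ (haveI : Fact (Nat.Prime 3) := ⟨Nat.prime_three⟩; orderOf_eq_prime V.a3 V.a_ne))
    (mem_subgroupOf.2 ht) (ho _ (orderOf_eq_prime (by rw [pow_two, V.t2]) fun e => hT1 (N.inj (by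
      rw [← ht₀, e, map_one]))))
    (Subtype.ext V.tinv) ?_ ?_ ?_ ?_ ?_ ?_ ?_ ?_ ?_ ?_
  · intro g hg
    obtain ⟨h, hh, i, e⟩ := hdec g (mem_centralizer_singleton_iff.2 (congrArg Subtype.val hg))
    have hbv : Commute b v := (mem_centralizer_iff.1 W.memv b hb)
    have hhv : Commute h v := by
      have := (e ▸ hmem.1 g.2 : Commute (h * b ^ i) v).mul_left (hbv.zpow_left i).inv_left
      rwa [mul_inv_cancel_right] at this
    obtain ⟨j, rfl⟩ := mem_zpowers_iff.1 (W.cent_v h hh hhv)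
    obtain ⟨j', hj⟩ := exists_nat_pow v j
    obtain ⟨i', hi⟩ := exists_nat_pow b i
    exact ⟨j', i', Subtype.ext (by push_cast; rw [e, hj, hi])⟩
  · rw [Nat.card_congr (subgroupOfEquivOfLe hUC).toEquiv, V.card]
  · exact fun p hp => Subtype.ext (V.sq p (mem_subgroupOf.1 hp))
  · exact fun p hp => Subtype.ext (V.comm_a p (mem_subgroupOf.1 hp)).eq
  · exact fun g hg => hperm fun p hp => V.M_norm (hmem.1 g.2) (congrArg Subtype.val hg) hp
  · intro g hg hgU
    obtain ⟨q, hq, i, j, e⟩ := V.cent g (hmem.1 g.2) (congrArg Subtype.val hg) fun p hp =>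
      congrArg Subtype.val (hgU ⟨p, hUC hp⟩ (mem_subgroupOf.2 hp))
    obtain ⟨i', hi⟩ := exists_nat_pow a₀ i
    obtain ⟨j', hj⟩ := exists_nat_pow v j
    refine ⟨j', i', ⟨q, hUC hq⟩, mem_subgroupOf.2 hq, Subtype.ext ?_⟩
    push_cast
    rw [e, hi, hj, ((V.comm_a q hq).pow_right i').eq, mul_assoc, ((V.comm_v q hq).pow_right j').eq, ← mul_assoc,
      ((V.va.pow_left j').pow_right i').eq]
  · exact hperm fun p hp => V.t_norm hp
  · exact ⟨⟨u₁, hUC hu₁⟩, mem_subgroupOf.2 hu₁, fun e => htu (mul_inv_eq_iff_eq_mul.2 (congrArg Subtype.val e))⟩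
  · exact hperm hmn
  · exact fun p hp hp1 e => hmf p (mem_subgroupOf.1 hp) (fun e1 => hp1 (Subtype.ext e1)) (congrArg Subtype.val e)
  · have e : C = centralizer ({v} : Set G) := Subgroup.ext fun g => by
      rw [hmem, mem_centralizer_singleton_iff]; rfl
    rw [e]
    exact V.not_sixteen hno8 hno16

end CfsgLib.Co1Loc
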