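import Cfsg.Agent.Co1Loc.SevenTorus

/-!
The elements around the element of order seven: conjugacy to the element of order three, and the triviality of
the action of the normalising element of order three on the four-group.
-/

set_option autoImplicit false
set_option maxRecDepth 100000
set_option synthInstance.maxSize 4096
set_option linter.style.haveILetI false
set_option linter.unusedSectionVars false

namespace CfsgLib.Co1Loc.Seven

open CfsgLib CfsgLib.Quad CfsgLib.Co1Invol CfsgLib.Co1Five Subgroup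

variable {G : Type*} [Group G] [Finite G] {z : G}

theorem conj_two {H : Type*} [Group H] (g x : H) : g * (g * x * g⁻¹) * g⁻¹ = g ^ 2 * x * (g ^ 2)⁻¹ := by
  simp only [pow_succ, pow_zero, one_mul, mul_inv_rev, mul_assoc]

theorem conj_three {H : Type*} [Group H] (g x : H) :
    g * (g * (g * x * g⁻¹) * g⁻¹) * g⁻¹ = g ^ 3 * x * (g ^ 3)⁻¹ := by
  simp only [pow_succ, pow_zero, one_mul, mul_inv_rev, mul_assoc]

/-- The data used for the centraliser of the element of order seven. -/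
structure Sev (v y a₀ t₀ b : G) (U : Subgroup G) : Prop extends Quad4 v a₀ U where
  v7 : orderOf v = 7
  y3 : y ^ 3 = 1
  a3 : a₀ ^ 3 = 1
  a_ne : a₀ ≠ 1
  t2 : t₀ * t₀ = 1
  tinv : t₀ * a₀ * t₀⁻¹ = a₀⁻¹
  va : Commute v a₀
  vt : Commute v t₀
  ya : Commute y a₀
  yt : Commute y t₀
  yv : y * v * y⁻¹ = v ^ 2
  thirty : ∀ g : G, Commute g v → Commute g b → g ^ 35 = 1
  nine : ∀ k : G, Commute k v → Commute k y → Commute k a₀ → Commute k t₀ → k ^ 9 = 1 → k = 1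

/-! ### Four-groups -/

omit [Finite G] in
theorem four_cases [Finite G] {U : Subgroup G} (hU : Nat.card U = 4) {p q : G} (hp : p ∈ U) (hq : q ∈ U)
    (hp1 : p ≠ 1) (hq1 : q ≠ 1) (hne : p ≠ q) (hsq : ∀ u ∈ U, u * u = 1) {g : G} (hg : g ∈ U) :
    g = 1 ∨ g = p ∨ g = q ∨ g = p * q := by
  classical
  haveI := Fintype.ofFinite U
  have hc : Fintype.card U = 4 := by rw [← Nat.card_eq_fintype_card, hU]
  set S : Finset U := {1, ⟨p, hp⟩, ⟨q, hq⟩, ⟨p, hp⟩ * ⟨q, hq⟩} with hS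
  have e1 : (1 : U) ∉ ({⟨p, hp⟩, ⟨q, hq⟩, ⟨p, hp⟩ * ⟨q, hq⟩} : Finset U) := by
    simp only [Finset.mem_insert, Finset.mem_singleton, not_or]
    refine ⟨fun e => hp1 (congrArg Subtype.val e).symm, fun e => hq1 (congrArg Subtype.val e).symm, fun e => hne ?_⟩
    have e' : p * q = 1 := (congrArg Subtype.val e).symm
    rw [← inv_eq_of_mul_eq_one_right e', inv_eq_of_mul_eq_one_right (hsq p hp)]
  have e2 : (⟨p, hp⟩ : U) ∉ ({⟨q, hq⟩, ⟨p, hp⟩ * ⟨q, hq⟩} : Finset U) := by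
    simp only [Finset.mem_insert, Finset.mem_singleton, not_or]
    exact ⟨fun e => hne (congrArg Subtype.val e),
      fun e => hq1 (mul_eq_left.1 (congrArg Subtype.val e).symm)⟩
  have e3 : (⟨q, hq⟩ : U) ∉ ({⟨p, hp⟩ * ⟨q, hq⟩} : Finset U) := by
    simp only [Finset.mem_singleton]
    exact fun e => hp1 (mul_eq_right.1 (congrArg Subtype.val e).symm)
  have hcard : S.card = 4 := by
    rw [hS, Finset.card_insert_of_notMem e1, Finset.card_insert_of_notMem e2, Finset.card_insert_of_notMem e3,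
      Finset.card_singleton]
  have hmem : (⟨g, hg⟩ : U) ∈ S := by
    rw [Finset.eq_univ_of_card S (hcard.trans hc.symm)]
    exact Finset.mem_univ _
  simp only [hS, Finset.mem_insert, Finset.mem_singleton] at hmem
  rcases hmem with e | e | e | e
  exacts [Or.inl (congrArg Subtype.val e), Or.inr (Or.inl (congrArg Subtype.val e)),
    Or.inr (Or.inr (Or.inl (congrArg Subtype.val e))), Or.inr (Or.inr (Or.inr (congrArg Subtype.val e)))]

omit [Finite G] in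
theorem four_exists [Finite G] {U : Subgroup G} (hU : Nat.card U = 4) : ∃ p ∈ U, p ≠ 1 := by
  by_contra h
  push Not at h
  rw [(Subgroup.eq_bot_iff_forall U).2 h, Subgroup.card_bot] at hU
  omega

omit [Finite G] in
theorem four_exists_two [Finite G] {U : Subgroup G} (hU : Nat.card U = 4) {p : G} :
    ∃ q ∈ U, q ≠ 1 ∧ q ≠ p := by
  classical
  haveI := Fintype.ofFinite U
  obtain ⟨a, b, c, hab, hac, hbc⟩ := Fintype.two_lt_card_iff.1
    (show 2 < Fintype.card U by rw [← Nat.card_eq_fintype_card, hU]; norm_num)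
  by_cases ha : (a : G) = 1 ∨ (a : G) = p
  swap
  · exact ⟨a, a.2, fun e => ha (Or.inl e), fun e => ha (Or.inr e)⟩
  by_cases hb : (b : G) = 1 ∨ (b : G) = p
  swap
  · exact ⟨b, b.2, fun e => hb (Or.inl e), fun e => hb (Or.inr e)⟩
  refine ⟨c, c.2, fun e => ?_, fun e => ?_⟩
  · rcases ha with h1 | h1
    · exact hac (Subtype.ext (h1.trans e.symm))
    · rcases hb with h2 | h2
      · exact hbc (Subtype.ext (h2.trans e.symm))
      · exact hab (Subtype.ext (h1.trans h2.symm))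
  · rcases ha with h1 | h1
    · rcases hb with h2 | h2
      · exact hab (Subtype.ext (h1.trans h2.symm))
      · exact hbc (Subtype.ext (h2.trans e.symm))
    · exact hac (Subtype.ext (h1.trans e.symm))

/-- The orbit of a fixed-point-free action. -/
theorem four_orbit {U : Subgroup G} (hU : Nat.card U = 4) (hsq : ∀ u ∈ U, u * u = 1) {g : G}
    (hg : ∀ u ∈ U, g * u * g⁻¹ ∈ U) (hf : ∀ u ∈ U, u ≠ 1 → g * u * g⁻¹ ≠ u) {u : G} (hu : u ∈ U) (hu1 : u ≠ 1) :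
    g * (g * u * g⁻¹) * g⁻¹ = u * (g * u * g⁻¹) := by
  have h1 : g * u * g⁻¹ ≠ 1 := fun e => hu1 (conj_eq_one_iff.1 e)
  have hne : u ≠ g * u * g⁻¹ := (hf u hu hu1).symm
  rcases four_cases hU hu (hg u hu) hu1 h1 hne hsq (hg _ (hg u hu)) with e | e | e | e
  · exact absurd (conj_eq_one_iff.1 e) h1
  · exfalso
    refine hf (u * (g * u * g⁻¹)) (mul_mem hu (hg u hu)) (fun e1 => hne ?_) ?_
    · rw [← inv_eq_of_mul_eq_one_right e1, inv_eq_of_mul_eq_one_right (hsq u hu)]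
    · calc g * (u * (g * u * g⁻¹)) * g⁻¹ = (g * u * g⁻¹) * (g * (g * u * g⁻¹) * g⁻¹) := by group
        _ = (g * u * g⁻¹) * u := by rw [e]
        _ = u * (g * u * g⁻¹) := by
          have h3 := hsq _ (mul_mem (hg u hu) hu)
          rw [← inv_eq_of_mul_eq_one_right h3, mul_inv_rev, inv_eq_of_mul_eq_one_right (hsq _ (hg u hu)),
            inv_eq_of_mul_eq_one_right (hsq u hu)]
  · exact absurd e (hf _ (hg u hu) h1)
  · exact e

namespace Sev

variable {v y a₀ t₀ b : G} {U : Subgroup G} (S : Sev v y a₀ t₀ b U)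
include S

theorem v_pow : v ^ 7 = 1 := S.v7 ▸ pow_orderOf_eq_one v

theorem comm {p q : G} (hp : p ∈ U) (hq : q ∈ U) : Commute p q := by
  have h := S.sq _ (mul_mem hp hq)
  show p * q = q * p
  rw [← inv_eq_of_mul_eq_one_right h, mul_inv_rev, inv_eq_of_mul_eq_one_right (S.sq p hp),
    inv_eq_of_mul_eq_one_right (S.sq q hq)]

/-- Elements centralising or inverting the pair normalise the four-group. -/
theorem norm_of {g : G} {n : ℕ} (hv : g * v * g⁻¹ = v ^ n) (hn : n.Coprime 7)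
    (ha : g * a₀ * g⁻¹ = a₀ ∨ g * a₀ * g⁻¹ = a₀⁻¹) {p : G} (hp : p ∈ U) : g * p * g⁻¹ ∈ U := by
  refine S.two _ ?_ ?_ (by rw [show g * p * g⁻¹ * (g * p * g⁻¹) = g * (p * p) * g⁻¹ by group, S.sq p hp]; group)
  · have h1 : Commute (g * p * g⁻¹) (v ^ n) := hv ▸ (Commute.conj_iff g).2 (S.comm_v p hp)
    obtain ⟨m, hm⟩ := exists_pow_eq_self_of_coprime (x := v) (n := n) (by rw [S.v7]; exact hn)
    exact hm ▸ h1.pow_right m
  · rcases ha with e | e
    · exact e ▸ (Commute.conj_iff g).2 (S.comm_a p hp)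
    · exact Commute.inv_right_iff.1 (e ▸ (Commute.conj_iff g).2 (S.comm_a p hp))

theorem y_norm {p : G} (hp : p ∈ U) : y * p * y⁻¹ ∈ U :=
  S.norm_of S.yv (by norm_num) (Or.inl (by rw [S.ya.eq, mul_inv_cancel_right])) hp

theorem t_norm {p : G} (hp : p ∈ U) : t₀ * p * t₀⁻¹ ∈ U :=
  S.norm_of (n := 1) (by rw [pow_one, ← S.vt.eq, mul_inv_cancel_right]) (by norm_num) (Or.inr S.tinv) hp

theorem M_norm {g : G} (hv : Commute g v) (ha : Commute g a₀) {p : G} (hp : p ∈ U) : g * p * g⁻¹ ∈ U :=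
  S.norm_of (n := 1) (by rw [pow_one, hv.eq, mul_inv_cancel_right]) (by norm_num)
    (Or.inl (by rw [ha.eq, mul_inv_cancel_right])) hp

theorem y_three (g : G) : y * (y * (y * g * y⁻¹) * y⁻¹) * y⁻¹ = g := by
  rw [conj_three, S.y3]; group

theorem a_pow {i : ℤ} (h : (a₀ ^ i) ^ 4 = 1) : a₀ ^ i = 1 := by
  have h3 : (a₀ ^ i) ^ 3 = 1 := by rw [← zpow_natCast, ← zpow_mul, mul_comm, zpow_mul, zpow_natCast, S.a3, one_zpow]
  rwa [pow_succ, h3, one_mul] at h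

/-- The element of order three centralises the four-group. -/
theorem y_fix : ∀ u ∈ U, Commute u y := by
  by_contra hcon
  push Not at hcon
  obtain ⟨u₁, hu₁, hne⟩ := hcon
  have hy1 : y * u₁ * y⁻¹ ≠ u₁ := fun e => hne (mul_inv_eq_iff_eq_mul.1 e).symm
  have hu₁1 : u₁ ≠ 1 := fun e => hy1 (by rw [e]; group)
  have hnorm := fun {p : G} (hp : p ∈ U) => S.y_norm hp
  -- fixed-point-free
  have hf : ∀ u ∈ U, u ≠ 1 → y * u * y⁻¹ ≠ u := by
    intro u hu h1 e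
    have hu₁u : u ≠ u₁ := fun e1 => hy1 (e1 ▸ e)
    rcases four_cases S.card hu hu₁ h1 hu₁1 hu₁u S.sq (hnorm hu₁) with e1 | e1 | e1 | e1
    · exact hu₁1 (conj_eq_one_iff.1 e1)
    · rw [← e] at e1
      exact hu₁u (mul_left_cancel (mul_right_cancel e1)).symm
    · exact hy1 e1
    · have e2 : y * (y * u₁ * y⁻¹) * y⁻¹ = u₁ := by
        rw [e1, show y * (u * u₁) * y⁻¹ = (y * u * y⁻¹) * (y * u₁ * y⁻¹) by group, e, e1, ← mul_assoc, S.sq u hu,
          one_mul]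
      have e3 := S.y_three u₁
      rw [e2] at e3
      exact hy1 e3
  -- the involution centralises the four-group
  have ht : ∀ u ∈ U, t₀ * u * t₀⁻¹ = u := by
    by_contra hn
    push Not at hn
    obtain ⟨u, hu, hun⟩ := hn
    set d := u * (t₀ * u * t₀⁻¹) with hd
    have hdU : d ∈ U := mul_mem hu (S.t_norm hu)
    have hd1 : d ≠ 1 := fun e => hun (by
      rw [← inv_eq_of_mul_eq_one_right e, inv_eq_of_mul_eq_one_right (S.sq u hu)])
    have hdt : t₀ * d * t₀⁻¹ = d := by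
      rw [hd, show t₀ * (u * (t₀ * u * t₀⁻¹)) * t₀⁻¹ = (t₀ * u * t₀⁻¹) * ((t₀ * t₀) * u * (t₀ * t₀)⁻¹) by group,
        S.t2, inv_one, mul_one, one_mul, (S.comm (S.t_norm hu) hu).eq]
    have hdt' : t₀ * (y * d * y⁻¹) * t₀⁻¹ = y * d * y⁻¹ := by
      rw [show t₀ * (y * d * y⁻¹) * t₀⁻¹ = (t₀ * y) * d * (t₀ * y)⁻¹ by group, ← S.yt.eq,
        show y * t₀ * d * (y * t₀)⁻¹ = y * (t₀ * d * t₀⁻¹) * y⁻¹ by group, hdt]
    rcases four_cases S.card hdU (hnorm hdU) hd1 (fun e => hd1 (conj_eq_one_iff.1 e)) (hf d hdU hd1).symm S.sq hu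
      with e | e | e | e <;> refine hun ?_ <;> rw [e]
    · group
    · exact hdt
    · exact hdt'
    · rw [show t₀ * (d * (y * d * y⁻¹)) * t₀⁻¹ = (t₀ * d * t₀⁻¹) * (t₀ * (y * d * y⁻¹) * t₀⁻¹) by group, hdt, hdt']
  -- an element of the centraliser with the same action
  obtain ⟨m₀, hm0v, hm0a, hm0n, hm0f⟩ := S.moved
  obtain ⟨m₁, hm1v, hm1a, hm1f, hm1u⟩ : ∃ m, Commute m v ∧ Commute m a₀ ∧
      (∀ u ∈ U, u ≠ 1 → m * u * m⁻¹ ≠ u) ∧ m * u₁ * m⁻¹ = y * u₁ * y⁻¹ := by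
    rcases four_cases S.card hu₁ (hnorm hu₁) hu₁1 (fun e => hu₁1 (conj_eq_one_iff.1 e)) (Ne.symm hy1) S.sq
        (hm0n u₁ hu₁) with e | e | e | e
    · exact absurd (conj_eq_one_iff.1 e) hu₁1
    · exact absurd e (hm0f u₁ hu₁ hu₁1)
    · exact ⟨m₀, hm0v, hm0a, hm0f, e⟩
    · refine ⟨m₀ * m₀, hm0v.mul_left hm0v, hm0a.mul_left hm0a, fun u hu h1 e1 => ?_, ?_⟩
      · rw [show m₀ * m₀ * u * (m₀ * m₀)⁻¹ = m₀ * (m₀ * u * m₀⁻¹) * m₀⁻¹ by group,
          four_orbit S.card S.sq hm0n hm0f hu h1] at e1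
        exact h1 (conj_eq_one_iff.1 (mul_eq_left.1 e1))
      · rw [show m₀ * m₀ * u₁ * (m₀ * m₀)⁻¹ = m₀ * (m₀ * u₁ * m₀⁻¹) * m₀⁻¹ by group,
          four_orbit S.card S.sq hm0n hm0f hu₁ hu₁1, e, ← mul_assoc, S.sq u₁ hu₁, one_mul]
  have hact : ∀ u ∈ U, m₁ * u * m₁⁻¹ = y * u * y⁻¹ := by
    have h2 : m₁ * (y * u₁ * y⁻¹) * m₁⁻¹ = y * (y * u₁ * y⁻¹) * y⁻¹ := by
      rw [four_orbit S.card S.sq (fun u hu => hnorm hu) hf hu₁ hu₁1, ← hm1u,
        four_orbit S.card S.sq (fun u hu => S.M_norm hm1v hm1a hu) hm1f hu₁ hu₁1]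
    intro u hu
    rcases four_cases S.card hu₁ (hnorm hu₁) hu₁1 (fun e => hu₁1 (conj_eq_one_iff.1 e)) (Ne.symm hy1) S.sq hu
      with e | e | e | e <;> rw [e]
    · group
    · exact hm1u
    · exact h2
    · rw [show m₁ * (u₁ * (y * u₁ * y⁻¹)) * m₁⁻¹ = (m₁ * u₁ * m₁⁻¹) * (m₁ * (y * u₁ * y⁻¹) * m₁⁻¹) by group,
        hm1u, h2]
      group
  -- restriction to elements of three-power order
  have hpow : ∀ n : ℕ, ∀ u ∈ U, m₁ ^ n * u * (m₁ ^ n)⁻¹ = y ^ n * u * (y ^ n)⁻¹ := by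
    intro n
    induction n with
    | zero => intro u _; simp
    | succ n ih =>
      intro u hu
      rw [pow_succ, pow_succ, show m₁ ^ n * m₁ * u * (m₁ ^ n * m₁)⁻¹ = m₁ ^ n * (m₁ * u * m₁⁻¹) * (m₁ ^ n)⁻¹ by
        group, hact u hu, ih _ (hnorm hu)]
      group
  have hm3 : ∀ u ∈ U, Commute (m₁ ^ 3) u := fun u hu => by
    have := hpow 3 u hu
    rw [S.y3, inv_one, mul_one, one_mul] at this
    exact mul_inv_eq_iff_eq_mul.1 this
  set k₀ := m₁ ^ 28 with hk₀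
  have hk0v : Commute k₀ v := hm1v.pow_left _
  have hk0a : Commute k₀ a₀ := hm1a.pow_left _
  have hk09 : k₀ ^ 9 = 1 := by
    obtain ⟨u', hu', i, j, e⟩ := S.cent (m₁ ^ 3) (hm1v.pow_left _) (hm1a.pow_left _) hm3
    rw [hk₀, ← pow_mul, show 28 * 9 = 3 * 84 from rfl, pow_mul, e,
      (((S.comm_v u' hu').zpow_right j).mul_left (((S.va.symm).zpow_left i).zpow_right j)).mul_pow,
      ((S.comm_a u' hu').zpow_right i).mul_pow,
      show (84 : ℕ) = 2 * 42 from rfl, pow_mul, pow_two, S.sq u' hu', one_pow, one_mul,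
      ← zpow_natCast, ← zpow_mul, mul_comm, zpow_mul, zpow_natCast, show (2 * 42 : ℕ) = 3 * 28 from rfl,
      pow_mul, S.a3, one_pow, one_zpow, one_mul, ← zpow_natCast, ← zpow_mul, mul_comm, zpow_mul, zpow_natCast,
      show (3 * 28 : ℕ) = 7 * 12 from rfl, pow_mul, S.v_pow, one_pow, one_zpow]
  have hk0act : ∀ u ∈ U, k₀ * u * k₀⁻¹ = y * u * y⁻¹ := fun u hu => by
    rw [hk₀, hpow 28 u hu, show (28 : ℕ) = 3 * 9 + 1 from rfl, pow_succ, pow_mul, S.y3, one_pow, one_mul]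
  -- uniqueness
  have hsurj : ∀ u' ∈ U, ∃ w ∈ U, w * (y * w * y⁻¹) = u' := by
    intro u' hu'
    let φ : U → U := fun p => ⟨(p : G) * (y * p * y⁻¹), mul_mem p.2 (hnorm p.2)⟩
    have hinj : Function.Injective φ := by
      intro p q e
      have e' : (p : G) * (y * p * y⁻¹) = (q : G) * (y * q * y⁻¹) := congrArg Subtype.val e
      by_contra hpq
      have hi : ∀ g ∈ U, g⁻¹ = g := fun g hg => inv_eq_of_mul_eq_one_right (S.sq g hg)
      refine hf _ (mul_mem p.2 q.2) (fun e1 => hpq (Subtype.ext ?_)) ?_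
      · exact (eq_inv_of_mul_eq_one_left e1).trans (hi q q.2)
      · have h1 : y * p * y⁻¹ = (p : G) * q * (y * q * y⁻¹) := by
          rw [mul_assoc (p : G) q, ← e', ← mul_assoc, S.sq p p.2, one_mul]
        rw [show y * ((p : G) * q) * y⁻¹ = (y * p * y⁻¹) * (y * q * y⁻¹) by group, h1, mul_assoc,
          S.sq _ (hnorm q.2), mul_one]
    obtain ⟨p, hp⟩ := (Finite.injective_iff_surjective.1 hinj) ⟨u', hu'⟩
    exact ⟨p, p.2, congrArg Subtype.val hp⟩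
  have huniq : ∀ n : G, Commute n v → Commute n a₀ → n ^ 9 = 1 → (∀ u ∈ U, n * u * n⁻¹ = y * u * y⁻¹) →
      ∃ w ∈ U, ∃ i : ℤ, n = w * k₀ * w * a₀ ^ i := by
    intro n hnv hna hn9 hnact
    obtain ⟨u', hu', i, j, e⟩ := S.cent (n * k₀⁻¹) (hnv.mul_left hk0v.inv_left) (hna.mul_left hk0a.inv_left)
      fun u hu => mul_inv_eq_iff_eq_mul.1 (by
        have h1 : k₀ * (k₀⁻¹ * u * k₀) * k₀⁻¹ = u := by group
        have hu2 : k₀⁻¹ * u * k₀ ∈ U := by
          have := S.M_norm hk0v.inv_left hk0a.inv_left hu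
          rwa [inv_inv] at this
        calc n * k₀⁻¹ * u * (n * k₀⁻¹)⁻¹ = n * (k₀⁻¹ * u * k₀) * n⁻¹ := by group
          _ = k₀ * (k₀⁻¹ * u * k₀) * k₀⁻¹ := by rw [hnact _ hu2, hk0act _ hu2]
          _ = u := h1)
    obtain ⟨w, hw, hw'⟩ := hsurj u' hu'
    have hwk : (y * w * y⁻¹) * k₀ = k₀ * w := by rw [← hk0act w hw]; group
    have hcu : ∀ g : G, Commute g v → Commute g a₀ → Commute (a₀ ^ i * v ^ j) g := fun g h1 h2 =>
      ((h2.zpow_right i).mul_right (h1.zpow_right j)).symm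
    have hn : n = w * k₀ * w * (a₀ ^ i * v ^ j) := by
      calc n = n * k₀⁻¹ * k₀ := by group
        _ = u' * ((a₀ ^ i * v ^ j) * k₀) := by rw [e]; group
        _ = w * (y * w * y⁻¹) * (k₀ * (a₀ ^ i * v ^ j)) := by rw [(hcu k₀ hk0v hk0a).eq, hw']
        _ = w * ((y * w * y⁻¹) * k₀) * (a₀ ^ i * v ^ j) := by group
        _ = w * k₀ * w * (a₀ ^ i * v ^ j) := by rw [hwk]; group
    have hkw9 : (w * k₀ * w) ^ 9 = 1 := by
      have hwi : w⁻¹ = w := inv_eq_of_mul_eq_one_right (S.sq w hw)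
      nth_rewrite 2 [← hwi]
      rw [conj_pow, hk09, mul_one, mul_inv_cancel]
    have hc9 : (a₀ ^ i * v ^ j) ^ 9 = 1 := by
      have hcom : Commute (w * k₀ * w) (a₀ ^ i * v ^ j) := (hcu _
        (((S.comm_v w hw).mul_left hk0v).mul_left (S.comm_v w hw))
        (((S.comm_a w hw).mul_left hk0a).mul_left (S.comm_a w hw))).symm
      rw [hn, hcom.mul_pow, hkw9, one_mul] at hn9
      exact hn9
    have hvj : v ^ j = 1 := by
      rw [((S.va.symm.zpow_left i).zpow_right j).mul_pow, show (9 : ℕ) = 3 * 3 from rfl, pow_mul (a₀ ^ i),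
        ← zpow_natCast (a₀ ^ i) 3, ← zpow_mul, mul_comm i, zpow_mul, zpow_natCast, S.a3, one_zpow, one_pow,
        one_mul] at hc9
      refine orderOf_eq_one_iff.1 (Nat.dvd_one.1 ?_)
      have h7 : (v ^ j) ^ 7 = 1 := by rw [← zpow_natCast, ← zpow_mul, mul_comm, zpow_mul, zpow_natCast, S.v_pow, one_zpow]
      exact (Nat.dvd_gcd (orderOf_dvd_of_pow_eq_one hc9) (orderOf_dvd_of_pow_eq_one h7)).trans (by norm_num)
    exact ⟨w, hw, i, by rw [hn, hvj, mul_one]⟩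
  have hzero : ∀ w ∈ U, ∀ i : ℤ, w * k₀ * w = k₀ * a₀ ^ i → w = 1 := by
    intro w hw i e
    by_contra hw1
    have hwk : w * k₀ * w = w * (y * w * y⁻¹) * k₀ := by rw [← hk0act w hw]; group
    have hc : k₀ * a₀ ^ i = a₀ ^ i * k₀ := (hk0a.zpow_right i).eq
    have he : w * (y * w * y⁻¹) = a₀ ^ i := mul_right_cancel (hwk.symm.trans (e.trans hc))
    have h4 : (a₀ ^ i) ^ 4 = 1 := by
      rw [← he, show (4 : ℕ) = 2 * 2 from rfl, pow_mul, pow_two (w * (y * w * y⁻¹)), S.sq _ (mul_mem hw (hnorm hw)), one_pow]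
    rw [S.a_pow h4] at he
    exact hf w hw hw1 (by rw [← inv_eq_of_mul_eq_one_right he, inv_eq_of_mul_eq_one_right (S.sq w hw)])
  -- the element fixed modulo the element of order three
  have hyk : ∀ n : G, Commute n v → Commute (y * n * y⁻¹) v := fun n h => by
    have h1 : Commute (y * n * y⁻¹) (v ^ 2) := S.yv ▸ (Commute.conj_iff y).2 h
    have h2 := h1.pow_right 4
    rwa [← pow_mul, show 2 * 4 = 7 + 1 from rfl, pow_succ, S.v_pow, one_mul] at h2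
  have hya : ∀ n : G, Commute n a₀ → Commute (y * n * y⁻¹) a₀ := fun n h => by
    have := (Commute.conj_iff y).2 h
    rwa [S.ya.eq, mul_inv_cancel_right] at this
  have hyact : ∀ n : G, (∀ u ∈ U, n * u * n⁻¹ = y * u * y⁻¹) → ∀ u ∈ U,
      (y * n * y⁻¹) * u * (y * n * y⁻¹)⁻¹ = y * u * y⁻¹ := fun n hn u hu => by
    have hu2 : y⁻¹ * u * y ∈ U := by
      have h1 := hnorm (hnorm hu)
      rwa [show y * (y * u * y⁻¹) * y⁻¹ = y⁻¹ * (y ^ 3 * u * (y ^ 3)⁻¹) * y by rw [← conj_three]; group, S.y3, inv_one, mul_one,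
        one_mul] at h1
    rw [show y * n * y⁻¹ * u * (y * n * y⁻¹)⁻¹ = y * (n * (y⁻¹ * u * y) * n⁻¹) * y⁻¹ by group, hn _ hu2]
    group
  obtain ⟨u', hu', i, hi⟩ := huniq (y * k₀ * y⁻¹) (hyk _ hk0v) (hya _ hk0a)
    (by rw [conj_pow, hk09]; group) (hyact _ hk0act)
  obtain ⟨w, hw, hww⟩ := hsurj u' hu'
  set k₁ := w * k₀ * w with hk₁
  have hk1v : Commute k₁ v := ((S.comm_v w hw).mul_left hk0v).mul_left (S.comm_v w hw)
  have hk1a : Commute k₁ a₀ := ((S.comm_a w hw).mul_left hk0a).mul_left (S.comm_a w hw)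
  have hk19 : k₁ ^ 9 = 1 := by
    have hwi : w⁻¹ = w := inv_eq_of_mul_eq_one_right (S.sq w hw)
    rw [hk₁]
    nth_rewrite 2 [← hwi]
    rw [conj_pow, hk09, mul_one, mul_inv_cancel]
  have hk1act : ∀ u ∈ U, k₁ * u * k₁⁻¹ = y * u * y⁻¹ := fun u hu => by
    have hwi : w⁻¹ = w := inv_eq_of_mul_eq_one_right (S.sq w hw)
    have h1 : w * u * w⁻¹ = u := by rw [(S.comm hw hu).eq, mul_inv_cancel_right]
    rw [hk₁, show w * k₀ * w * u * (w * k₀ * w)⁻¹ = w * (k₀ * (w * u * w⁻¹) * k₀⁻¹) * w⁻¹ by group, h1,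
      hk0act u hu, (S.comm hw (hnorm hu)).eq, mul_inv_cancel_right]
  have hyk1 : y * k₁ * y⁻¹ = k₁ * a₀ ^ i := by
    have hiu : ∀ g : G, Commute g a₀ → Commute (a₀ ^ i) g := fun g h => (h.zpow_right i).symm
    have hyw := hnorm hw
    have e1 : (y * w * y⁻¹) * u' = w := by
      rw [← hww, ← mul_assoc, (S.comm hyw hw).eq, mul_assoc, S.sq _ hyw, mul_one]
    have e2 : u' * (y * w * y⁻¹) = w := by rw [← (S.comm hyw hu').eq, e1]
    calc y * k₁ * y⁻¹ = (y * w * y⁻¹) * (y * k₀ * y⁻¹) * (y * w * y⁻¹) := by rw [hk₁]; group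
      _ = (y * w * y⁻¹) * u' * k₀ * u' * (a₀ ^ i * (y * w * y⁻¹)) := by rw [hi]; group
      _ = w * k₀ * (u' * (y * w * y⁻¹)) * a₀ ^ i := by rw [(hiu _ (S.comm_a _ hyw)).eq, e1]; group
      _ = k₁ * a₀ ^ i := by rw [e2]
  -- the involution fixes it modulo the element of order three
  have hti : t₀⁻¹ = t₀ := inv_eq_of_mul_eq_one_right S.t2
  have htv : ∀ n : G, Commute n v → Commute (t₀ * n * t₀⁻¹) v := fun n h => by
    have := (Commute.conj_iff t₀).2 h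
    rwa [S.vt.symm.eq, mul_inv_cancel_right] at this
  have hta : ∀ n : G, Commute n a₀ → Commute (t₀ * n * t₀⁻¹) a₀ := fun n h => by
    have := (Commute.conj_iff t₀).2 h
    rw [S.tinv] at this
    exact Commute.inv_right_iff.1 this
  obtain ⟨p, hp, j, hj⟩ := huniq (t₀ * k₁ * t₀⁻¹) (htv _ hk1v) (hta _ hk1a) (by rw [conj_pow, hk19]; group)
    fun u hu => by
      have hu2 : t₀⁻¹ * u * t₀ = u := by
        conv_lhs => rw [← ht u hu]
        group
      rw [show t₀ * k₁ * t₀⁻¹ * u * (t₀ * k₁ * t₀⁻¹)⁻¹ = t₀ * (k₁ * (t₀⁻¹ * u * t₀) * k₁⁻¹) * t₀⁻¹ by group, hu2,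
        hk1act u hu, ht _ (hnorm hu)]
  set q := p * w with hq
  have hqU : q ∈ U := mul_mem hp hw
  have htk : t₀ * k₁ * t₀⁻¹ = q * k₁ * q * a₀ ^ j := by
    rw [hj, hq, hk₁, show p * w * (w * k₀ * w) * (p * w) = p * (w * w) * k₀ * ((w * p) * w) by group, S.sq w hw,
      mul_one, (S.comm hw hp).eq, mul_assoc p w w, S.sq w hw, mul_one]
  have hq1 : q = 1 := by
    have hta_i : t₀ * a₀ ^ i * t₀⁻¹ = a₀ ^ (-i) := by
      rw [← conj_zpow, S.tinv, inv_zpow, zpow_neg]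
    have hyc : y * a₀ ^ j * y⁻¹ = a₀ ^ j := by rw [(S.ya.zpow_right j).eq, mul_inv_cancel_right]
    set q' := y * q * y⁻¹ with hq'
    have hq'U : q' ∈ U := hnorm hqU
    have e1 : y * (t₀ * k₁ * t₀⁻¹) * y⁻¹ = q' * k₁ * a₀ ^ i * q' * a₀ ^ j := by
      rw [htk, show y * (q * k₁ * q * a₀ ^ j) * y⁻¹ = (y * q * y⁻¹) * (y * k₁ * y⁻¹) * (y * q * y⁻¹) * (y * a₀ ^ j * y⁻¹) by
        group, hyk1, hyc, ← hq']
      group
    have e2 : y * (t₀ * k₁ * t₀⁻¹) * y⁻¹ = q * k₁ * q * a₀ ^ j * a₀ ^ (-i) := by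
      rw [show y * (t₀ * k₁ * t₀⁻¹) * y⁻¹ = (y * t₀) * k₁ * (y * t₀)⁻¹ by group, S.yt.eq,
        show t₀ * y * k₁ * (t₀ * y)⁻¹ = t₀ * (y * k₁ * y⁻¹) * t₀⁻¹ by group, hyk1,
        show t₀ * (k₁ * a₀ ^ i) * t₀⁻¹ = (t₀ * k₁ * t₀⁻¹) * (t₀ * a₀ ^ i * t₀⁻¹) by group, htk, hta_i]
    have e3 : q' * k₁ * q' = q * k₁ * q * a₀ ^ (-(2 * i)) := by
      have h1 := e1.symm.trans e2
      rw [show q' * k₁ * a₀ ^ i * q' = q' * k₁ * (a₀ ^ i * q') by group,
        ((S.comm_a _ hq'U).zpow_right i).symm.eq,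
        show q' * k₁ * (q' * a₀ ^ i) * a₀ ^ j = q' * k₁ * q' * (a₀ ^ i * a₀ ^ j) by group] at h1
      rw [← mul_left_inj (a₀ ^ i * a₀ ^ j), h1]
      group
    have hqq : q * q' * (q * k₁ * q) * (q * q') = q' * k₁ * q' := by
      rw [show q * q' * (q * k₁ * q) * (q * q') = (q * q' * q) * k₁ * ((q * q) * q') by group, S.sq q hqU, one_mul,
        (S.comm hqU hq'U).eq, mul_assoc q' q q, S.sq q hqU, mul_one]
    by_contra hne1
    have hw' : w * (q * q') * w = q * q' := by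
      rw [(S.comm hw (mul_mem hqU hq'U)).eq, mul_assoc, S.sq w hw, mul_one]
    have h0 : (q * q') * k₀ * (q * q') = k₀ * a₀ ^ (-(2 * i)) := by
      have hqw : Commute w q := S.comm hw hqU
      have hqw' : Commute w q' := S.comm hw hq'U
      have h1 : q' * k₁ * q' = (q * w) * ((q * q') * k₀ * (q * q')) * (q * w) := by
        rw [hk₁, show q' * (w * k₀ * w) * q' = (q' * w) * k₀ * (w * q') by group, hqw'.eq, ← hqw'.eq]
        have e4 : q * w * (q * q') = w * q' := by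
          rw [← hqw.eq, show w * q * (q * q') = w * (q * q) * q' by group, S.sq q hqU, mul_one]
        have e5 : q * q' * (q * w) = w * q' := by
          rw [(S.comm (mul_mem hqU hq'U) (mul_mem hqU hw)).eq, e4]
        rw [show q * w * (q * q' * k₀ * (q * q')) * (q * w) = (q * w * (q * q')) * k₀ * (q * q' * (q * w)) by group,
          e4, e5]
      have hc : Commute (a₀ ^ (-(2 * i))) (q * w) :=
        (((S.comm_a q hqU).mul_left (S.comm_a w hw)).zpow_right _).symm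
      have h2 : q * k₁ * q * a₀ ^ (-(2 * i)) = (q * w) * (k₀ * a₀ ^ (-(2 * i))) * (q * w) := by
        rw [hk₁, show q * w * (k₀ * a₀ ^ (-(2 * i))) * (q * w) = q * w * k₀ * (a₀ ^ (-(2 * i)) * (q * w)) by group,
          hc.eq]
        nth_rewrite 2 [← hqw.eq]
        group
      exact mul_left_cancel (mul_right_cancel (h1.symm.trans (e3.trans h2)))
    have h1 := hzero _ (mul_mem hqU hq'U) _ h0
    exact hf q hqU hne1 (by rw [← hq', ← inv_eq_of_mul_eq_one_right h1, inv_eq_of_mul_eq_one_right (S.sq q hqU)])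
  rw [hq1, one_mul, mul_one] at htk
  -- the fixed element
  set k := k₁ * (k₁ * a₀ ^ j) with hk
  have hkv : Commute k v := hk1v.mul_left (hk1v.mul_left ((S.va.symm).zpow_left j))
  have hka : Commute k a₀ := hk1a.mul_left (hk1a.mul_left ((Commute.refl a₀).zpow_left j))
  have hkt : Commute k t₀ := by
    refine (mul_inv_eq_iff_eq_mul.1 (?_ : t₀ * k * t₀⁻¹ = k)).symm
    have e := congrArg (fun g => t₀ * g * t₀⁻¹) htk
    rw [show t₀ * (t₀ * k₁ * t₀⁻¹) * t₀⁻¹ = (t₀ * t₀) * k₁ * (t₀ * t₀)⁻¹ by group, S.t2, one_mul, inv_one,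
      mul_one] at e
    calc t₀ * k * t₀⁻¹ = (t₀ * k₁ * t₀⁻¹) * (t₀ * (k₁ * a₀ ^ j) * t₀⁻¹) := by rw [hk]; group
      _ = k₁ * a₀ ^ j * k₁ := by rw [htk, ← e]
      _ = k := by rw [hk, mul_assoc, (hk1a.zpow_right j).eq]
  have hk9 : k ^ 9 = 1 := by
    rw [hk, ((Commute.refl k₁).mul_right (hk1a.zpow_right j)).mul_pow, (hk1a.zpow_right j).mul_pow, hk19, one_mul,
      one_mul, ← zpow_natCast, ← zpow_mul, mul_comm, zpow_mul, zpow_natCast, show (9 : ℕ) = 3 * 3 from rfl, pow_mul,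
      S.a3, one_pow, one_zpow]
  have hky : Commute k y := by
    refine (mul_inv_eq_iff_eq_mul.1 (?_ : y * k * y⁻¹ = k)).symm
    have hyj : y * a₀ ^ j * y⁻¹ = a₀ ^ j := by rw [(S.ya.zpow_right j).eq, mul_inv_cancel_right]
    have h1 : y * k * y⁻¹ = k * a₀ ^ (2 * i) := by
      rw [hk, show y * (k₁ * (k₁ * a₀ ^ j)) * y⁻¹ = (y * k₁ * y⁻¹) * ((y * k₁ * y⁻¹) * (y * a₀ ^ j * y⁻¹)) by group,
        hyk1, hyj, show k₁ * a₀ ^ i * (k₁ * a₀ ^ i * a₀ ^ j) = k₁ * (a₀ ^ i * k₁) * (a₀ ^ i * a₀ ^ j) by group,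
        ← (hk1a.zpow_right i).eq]
      group
    have h2 : t₀ * (y * k * y⁻¹) * t₀⁻¹ = y * k * y⁻¹ := by
      rw [show t₀ * (y * k * y⁻¹) * t₀⁻¹ = (t₀ * y) * k * (t₀ * y)⁻¹ by group, ← S.yt.eq,
        show y * t₀ * k * (y * t₀)⁻¹ = y * (t₀ * k * t₀⁻¹) * y⁻¹ by group, hkt.symm.eq, mul_inv_cancel_right]
    rw [h1, show t₀ * (k * a₀ ^ (2 * i)) * t₀⁻¹ = (t₀ * k * t₀⁻¹) * (t₀ * a₀ ^ (2 * i) * t₀⁻¹) by group,
      hkt.symm.eq, mul_inv_cancel_right, ← conj_zpow, S.tinv, mul_right_inj, inv_zpow] at h2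
    have h3 : (a₀ ^ (2 * i)) ^ 4 = 1 := by
      rw [show (4 : ℕ) = 2 * 2 from rfl, pow_mul, pow_two (a₀ ^ (2 * i))]
      nth_rewrite 1 [← h2]
      rw [inv_mul_cancel, one_pow]
    rw [h1, S.a_pow h3, mul_one]
  -- it acts without fixed points
  have hk1' := S.nine k hkv hky hka hkt hk9
  refine hf _ (hnorm hu₁) (fun e => hu₁1 (conj_eq_one_iff.1 e)) ?_
  have e4 : k * u₁ * k⁻¹ = y * (y * u₁ * y⁻¹) * y⁻¹ := by
    have e5 : k₁ * a₀ ^ j * u₁ * (k₁ * a₀ ^ j)⁻¹ = y * u₁ * y⁻¹ := by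
      rw [show k₁ * a₀ ^ j * u₁ * (k₁ * a₀ ^ j)⁻¹ = k₁ * (a₀ ^ j * u₁ * (a₀ ^ j)⁻¹) * k₁⁻¹ by group,
        ← ((S.comm_a u₁ hu₁).zpow_right j).eq, mul_inv_cancel_right, hk1act u₁ hu₁]
    rw [hk, show k₁ * (k₁ * a₀ ^ j) * u₁ * (k₁ * (k₁ * a₀ ^ j))⁻¹ =
      k₁ * (k₁ * a₀ ^ j * u₁ * (k₁ * a₀ ^ j)⁻¹) * k₁⁻¹ by group, e5, hk1act _ (hnorm hu₁)]
  rw [hk1', inv_one, mul_one, one_mul] at e4
  calc y * (y * u₁ * y⁻¹) * y⁻¹ = u₁ := e4.symm
    _ = y * (y * (y * u₁ * y⁻¹) * y⁻¹) * y⁻¹ := (S.y_three u₁).symm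
    _ = y * u₁ * y⁻¹ := by rw [← e4]

end Sev

end CfsgLib.Co1Loc.Seven
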