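import Cfsg.Agent.Co1Loc.Defs
import Cfsg.Agent.SpecBlow.AltSpectrum
import Mathlib.GroupTheory.GroupAction.Quotient
import Mathlib.GroupTheory.Sylow
import Mathlib.GroupTheory.PGroup

/-!
An abelian subgroup of order eight of the alternating group of degree nine has an involution moving eight
points, hence no element of order seven commutes with such a subgroup next to the element of order three.
-/

set_option autoImplicit false
set_option maxRecDepth 100000
set_option synthInstance.maxSize 4096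
set_option linter.style.haveILetI false
set_option linter.unusedSectionVars false

namespace CfsgLib.Co1Loc

open CfsgLib CfsgLib.Quad CfsgLib.Co1Invol CfsgLib.Co1Five Subgroup

namespace SevenNine

theorem ne_eight : ∀ g : alternatingGroup (Fin 9), orderOf g ≠ 8 := fun g => by
  have h := SpecBlow.orderOf_mem_of_cycleData ({1, 2, 3, 4, 5, 6, 7, 9, 10, 12, 15} : Finset ℕ)
    (by decide +kernel) g
  intro e
  rw [e] at h
  exact absurd h (by decide)

theorem two_four (m : Multiset ℕ) (h : ∀ n ∈ m, n = 2 ∨ n = 4) :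
    ∃ a b : ℕ, m.sum = 2 * a + 4 * b ∧ Multiset.card m = a + b ∧ (a = 0 → 2 ∉ m) ∧ (b = 0 → 4 ∉ m) := by
  induction m using Multiset.induction with
  | empty => exact ⟨0, 0, rfl, rfl, fun _ => Multiset.notMem_zero _, fun _ => Multiset.notMem_zero _⟩
  | cons n m ih =>
    obtain ⟨a, b, hs, hc, ha, hb⟩ := ih fun k hk => h k (Multiset.mem_cons_of_mem hk)
    rcases h n (Multiset.mem_cons_self _ _) with rfl | rfl
    · refine ⟨a + 1, b, by rw [Multiset.sum_cons, hs]; ring, by rw [Multiset.card_cons, hc]; ring,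
        fun e => absurd e (by omega), fun e => ?_⟩
      simp [hb e]
    · refine ⟨a, b + 1, by rw [Multiset.sum_cons, hs]; ring, by rw [Multiset.card_cons, hc]; ring,
        fun e => ?_, fun e => absurd e (by omega)⟩
      simp [ha e]

open Equiv.Perm in
/-- The supports of the elements of order dividing four. -/
theorem support_cases (p : alternatingGroup (Fin 9)) (h4 : p ^ 4 = 1) :
    (p * p = 1 → p ≠ 1 → (p : Equiv.Perm (Fin 9)).support.card = 4 ∨ (p : Equiv.Perm (Fin 9)).support.card = 8) ∧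
    (p * p ≠ 1 → (p : Equiv.Perm (Fin 9)).support.card = 6 ∨
      ((p * p : alternatingGroup (Fin 9)) : Equiv.Perm (Fin 9)).support.card = 8) := by
  classical
  set s : Equiv.Perm (Fin 9) := p.1 with hs
  have hs4 : s ^ 4 = 1 := by rw [hs, ← SubgroupClass.coe_pow, h4]; rfl
  have hsgn : Equiv.Perm.sign s = 1 := Equiv.Perm.mem_alternatingGroup.1 p.2
  have hle : s.cycleType.sum ≤ 9 := (sum_cycleType_le s).trans (Fintype.card_fin 9).le
  have h24 : ∀ n ∈ s.cycleType, n = 2 ∨ n = 4 := fun n hn => by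
    have h1 : n ∣ 4 := (dvd_of_mem_cycleType hn).trans (orderOf_dvd_of_pow_eq_one hs4)
    have h2 := two_le_of_mem_cycleType hn
    have h3 := Nat.le_of_dvd (by norm_num) h1
    interval_cases n <;> omega
  obtain ⟨a, b, hsum, hcard, ha, hb⟩ := two_four _ h24
  have hpar : (a + b) % 2 = 0 := by
    rw [sign_of_cycleType, hsum, hcard] at hsgn
    rcases Nat.even_or_odd (a + b) with h | h
    · exact Nat.even_iff.1 h
    · rw [Odd.neg_one_pow (by rw [Nat.odd_iff] at h ⊢; omega)] at hsgn
      exact absurd hsgn (by decide)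
  have hcardS : s.support.card = 2 * a + 4 * b := by rw [← sum_cycleType, hsum]
  constructor
  · intro h2 h1
    have hs2 : s ^ 2 = 1 := by rw [pow_two, hs, ← Subgroup.coe_mul, h2]; rfl
    have hb0 : b = 0 := by
      by_contra hb0
      have hne : s.cycleType.sum ≠ 2 * Multiset.card s.cycleType := by omega
      refine hne ?_
      have e : s.cycleType = Multiset.replicate (Multiset.card s.cycleType) 2 :=
        Multiset.eq_replicate_card.2 fun n hn => Nat.le_antisymm (Nat.le_of_dvd (by norm_num)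
          ((dvd_of_mem_cycleType hn).trans (orderOf_dvd_of_pow_eq_one hs2))) (two_le_of_mem_cycleType hn)
      conv_lhs => rw [e]
      rw [Multiset.sum_replicate, smul_eq_mul, mul_comm]
    have ha0 : a ≠ 0 := fun e => h1 (Subtype.ext (by
      show s = 1
      rw [← support_eq_empty_iff, ← Finset.card_eq_zero, hcardS, e, hb0]))
    omega
  · intro h2
    have hb1 : b ≠ 0 := fun e => h2 (Subtype.ext (by
      show s * s = 1
      rw [← pow_two, ← orderOf_dvd_iff_pow_eq_one, ← lcm_cycleType, Multiset.lcm_dvd]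
      intro n hn
      rcases h24 n hn with rfl | rfl
      · exact dvd_rfl
      · exact absurd hn (hb e)))
    by_cases ha0 : a = 0
    · refine Or.inr ?_
      show (s * s).support.card = 8
      rw [show (s * s).support = s.support from ?_, hcardS]
      · omega
      refine Finset.ext fun x => ⟨fun hx => ?_, fun hx => ?_⟩
      · rw [mem_support] at hx ⊢
        exact fun e => hx (by rw [Equiv.Perm.mul_apply, e, e])
      · rw [mem_support]
        intro e
        have hx' := mem_support.1 hx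
        have hc : (s.cycleOf x).IsCycle := isCycle_cycleOf s hx'
        have hcx : s.cycleOf x x ≠ x := by rw [cycleOf_apply_self]; exact hx'
        have hc2 : s.cycleOf x ^ 2 = 1 := (hc.pow_eq_one_iff' hcx).2 (by
          rw [cycleOf_pow_apply_self, pow_two]; exact e)
        have hord : orderOf (s.cycleOf x) = 2 :=
          orderOf_eq_prime (hp := ⟨Nat.prime_two⟩) hc2 hc.ne_one
        refine ha ha0 ?_
        rw [cycleType_def, Multiset.mem_map]
        exact ⟨s.cycleOf x, cycleOf_mem_cycleFactorsFinset_iff.2 hx, hc.orderOf.symm.trans hord⟩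
    · omega

/-- An abelian subgroup of order eight has an involution moving eight points. -/
theorem exists_quad (P : Subgroup (alternatingGroup (Fin 9))) (h8 : Nat.card P = 8)
    (hP : ∀ p ∈ P, ∀ q ∈ P, p * q = q * p) :
    ∃ p ∈ P, p * p = 1 ∧ (p : Equiv.Perm (Fin 9)).support.card = 8 := by
  classical
  by_contra! hno
  haveI : Fintype P := Fintype.ofFinite P
  have h4 : ∀ p : P, (p : alternatingGroup (Fin 9)) ^ 4 = 1 := fun p => by
    have hd : orderOf (p : alternatingGroup (Fin 9)) ∣ 8 := h8 ▸ Subgroup.orderOf_dvd_natCard P p.2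
    rw [← orderOf_dvd_iff_pow_eq_one]
    have hne := ne_eight (p : alternatingGroup (Fin 9))
    have := Nat.le_of_dvd (by norm_num) hd
    interval_cases orderOf (p : alternatingGroup (Fin 9)) <;> simp_all
  let sq : P →* P := MonoidHom.mk' (fun p => p * p) fun p q => by
    rw [mul_assoc, ← mul_assoc q, show q * p = p * q from Subtype.ext (hP q q.2 p p.2), mul_assoc, mul_assoc]
  haveI : Fintype sq.ker := Fintype.ofFinite _
  haveI : ∀ p : P, Fintype (MulAction.fixedBy (Fin 9) p) := fun p => Fintype.ofFinite _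
  haveI : Fintype (Quotient (MulAction.orbitRel P (Fin 9))) := Fintype.ofFinite _
  have hb := MulAction.sum_card_fixedBy_eq_card_orbits_mul_card_group P (Fin 9)
  have hfix : ∀ p : P, Fintype.card (MulAction.fixedBy (Fin 9) p) =
      if p = 1 then 9 else if p * p = 1 then 5 else 3 := fun p => by
    have hc : Fintype.card (MulAction.fixedBy (Fin 9) p) = 9 - ((p : alternatingGroup (Fin 9)) : Equiv.Perm (Fin 9)).support.card := by
      rw [show 9 - ((p : alternatingGroup (Fin 9)) : Equiv.Perm (Fin 9)).support.card =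
        ((p : alternatingGroup (Fin 9)) : Equiv.Perm (Fin 9)).supportᶜ.card by
          rw [Finset.card_compl, Fintype.card_fin], ← Fintype.card_coe]
      exact Fintype.card_congr (Equiv.subtypeEquivRight fun x => by
        rw [Finset.mem_compl, Equiv.Perm.mem_support, not_not]; rfl)
    obtain ⟨c2, c4⟩ := support_cases (p : alternatingGroup (Fin 9)) (h4 p)
    by_cases h1 : p = 1
    · rw [if_pos h1, hc, h1]; simp
    rw [if_neg h1]
    by_cases h2 : p * p = 1
    · rw [if_pos h2, hc]
      have h2' : (p : alternatingGroup (Fin 9)) * p = 1 := congrArg Subtype.val h2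
      rcases c2 h2' (fun e => h1 (Subtype.ext e)) with e | e
      · omega
      · exact absurd e (hno _ p.2 h2')
    · rw [if_neg h2, hc]
      rcases c4 (fun e => h2 (Subtype.ext e)) with e | e
      · omega
      · refine absurd e (hno _ (mul_mem p.2 p.2) ?_)
        rw [← h4 p]; simp [pow_succ, mul_assoc]
  set k := (Finset.univ.filter fun p : P => p * p = 1).card with hk
  have hkker : Nat.card sq.ker = k := by
    rw [Nat.card_eq_fintype_card, hk, ← Fintype.card_coe]
    exact Fintype.card_congr (Equiv.subtypeEquivRight fun p => by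
      rw [MonoidHom.mem_ker, Finset.mem_filter]; exact ⟨fun h => ⟨Finset.mem_univ _, h⟩, fun h => h.2⟩)
  have hkdvd : k ∣ 8 := hkker ▸ h8 ▸ Subgroup.card_subgroup_dvd_card sq.ker
  have hcard : Fintype.card P = 8 := by rw [← Nat.card_eq_fintype_card, h8]
  have hk2 : k ≠ 2 := fun e => by
    have h := Subgroup.card_eq_card_quotient_mul_card_subgroup sq.ker
    rw [h8, Nat.card_congr (QuotientGroup.quotientKerEquivRange sq).toEquiv, hkker, e] at h
    have hle : sq.range ≤ sq.ker := by
      rintro _ ⟨p, rfl⟩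
      rw [MonoidHom.mem_ker]
      refine Subtype.ext ?_
      show (p : alternatingGroup (Fin 9)) * p * ((p : alternatingGroup (Fin 9)) * p) = 1
      rw [← h4 p]; simp [pow_succ, mul_assoc]
    have := Nat.le_of_dvd (by rw [hkker, e]; norm_num) (Subgroup.card_dvd_of_le hle)
    rw [hkker, e] at this
    omega
  have hsum : (∑ p : P, (if p = 1 then 9 else if p * p = 1 then 5 else 3)) = 28 + 2 * k := by
    have h1 : ∀ p : P, (if p = 1 then 9 else if p * p = 1 then 5 else 3) =
        (if p = 1 then 4 else 0) + ((if p * p = 1 then 2 else 0) + 3) := fun p => by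
      by_cases h : p = 1
      · subst h; simp
      · by_cases h' : p * p = 1 <;> simp [h, h']
    rw [Finset.sum_congr rfl fun p _ => h1 p, Finset.sum_add_distrib, Finset.sum_ite_eq',
      if_pos (Finset.mem_univ _), Finset.sum_add_distrib, ← Finset.sum_filter, Finset.sum_const, Finset.sum_const,
      Finset.card_univ, hcard, ← hk]
    simp only [smul_eq_mul]
    ring
  rw [Finset.sum_congr rfl fun p _ => hfix p, hsum, hcard] at hb
  have := Nat.le_of_dvd (by norm_num) hkdvd
  interval_cases k <;> omega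

/-- A group of order divisible by sixteen has an abelian subgroup of order eight. -/
theorem exists_abelian_eight {P : Type*} [Group P] [Finite P] (h : 16 ∣ Nat.card P) :
    ∃ H : Subgroup P, Nat.card H = 8 ∧ ∀ p ∈ H, ∀ q ∈ H, p * q = q * p := by
  classical
  haveI : Fact (Nat.Prime 2) := ⟨Nat.prime_two⟩
  obtain ⟨S, hS⟩ := Sylow.exists_subgroup_card_pow_prime (G := P) 2 (n := 4) h
  suffices H : ∃ H : Subgroup S, Nat.card H = 8 ∧ ∀ p ∈ H, ∀ q ∈ H, p * q = q * p by
    obtain ⟨H, h8, hc⟩ := H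
    refine ⟨H.map S.subtype, by rw [Subgroup.card_map_of_injective S.subtype_injective, h8], ?_⟩
    rintro _ ⟨p, hp, rfl⟩ _ ⟨q, hq, rfl⟩
    rw [← map_mul, ← map_mul, hc p hp q hq]
  -- a subgroup of order eight whose centre has order at least three
  have key : ∀ (C : Subgroup S) (K : Subgroup S), Nat.card C = 8 → K ≤ C → 3 ≤ Nat.card K →
      (∀ p ∈ K, ∀ q ∈ C, q * p = p * q) → ∀ p ∈ C, ∀ q ∈ C, p * q = q * p := by
    intro C K h8 hKC hK3 hKcen p hp q hq
    have hle : K.subgroupOf C ≤ Subgroup.center C := fun u hu =>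
      Subgroup.mem_center_iff.2 fun v => Subtype.ext (hKcen u hu v v.2)
    have hc3 : 3 ≤ Nat.card (Subgroup.center C) := hK3.trans (by
      rw [← Nat.card_congr (Subgroup.subgroupOfEquivOfLe hKC).toEquiv]
      exact Subgroup.card_le_of_le hle)
    have hq' := Subgroup.card_eq_card_quotient_mul_card_subgroup (Subgroup.center C)
    rw [h8] at hq'
    have hcyc : IsCyclic (C ⧸ Subgroup.center C) := by
      have hd : Nat.card (C ⧸ Subgroup.center C) ∣ 8 := Dvd.intro _ hq'.symm
      have hlt : Nat.card (C ⧸ Subgroup.center C) ≤ 2 := by nlinarith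
      rcases (Nat.card (C ⧸ Subgroup.center C)).eq_zero_or_pos with e | e
      · rw [e, zero_mul] at hq'; omega
      · interval_cases hn : Nat.card (C ⧸ Subgroup.center C)
        · haveI := (Nat.card_eq_one_iff_unique.1 hn).1
          exact isCyclic_of_subsingleton
        · exact isCyclic_of_prime_card hn
    exact congrArg Subtype.val (commutative_of_cyclic_center_quotient (QuotientGroup.mk' (Subgroup.center C))
      (by rw [QuotientGroup.ker_mk']) ⟨p, hp⟩ ⟨q, hq⟩)
  have hdZ : Nat.card (Subgroup.center S) ∣ 2 ^ 4 := hS ▸ Subgroup.card_subgroup_dvd_card _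
  obtain ⟨j, hj, hjZ⟩ := (Nat.dvd_prime_pow Nat.prime_two).1 hdZ
  by_cases hj2 : 2 ≤ j
  · obtain ⟨K₀, hK₀⟩ := Sylow.exists_subgroup_card_pow_prime (G := ↥(Subgroup.center S)) 2 (n := 2)
      (hjZ ▸ pow_dvd_pow 2 hj2)
    set K := K₀.map (Subgroup.center S).subtype
    have hK : Nat.card K = 2 ^ 2 := by
      rw [Subgroup.card_map_of_injective (Subgroup.center S).subtype_injective, hK₀]
    obtain ⟨C, hC, hKC⟩ := Sylow.exists_subgroup_card_pow_succ (p := 2) (n := 2) (by rw [hS]; norm_num) hK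
    refine ⟨C, hC, key C K hC hKC (by rw [hK]; norm_num) ?_⟩
    rintro _ ⟨p, -, rfl⟩ q -
    exact Subgroup.mem_center_iff.1 p.2 q
  have hpS : IsPGroup 2 S := IsPGroup.of_card hS
  haveI : Nontrivial S := Finite.one_lt_card_iff_nontrivial.1 (by rw [hS]; norm_num)
  have hZnt := hpS.center_nontrivial
  have hZ2 : Nat.card (Subgroup.center S) = 2 := by
    have := Finite.one_lt_card_iff_nontrivial.2 hZnt
    rw [hjZ] at this ⊢
    interval_cases j <;> simp_all
  have hQnt : Nontrivial (S ⧸ Subgroup.center S) := Finite.one_lt_card_iff_nontrivial.1 (by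
    have h := Subgroup.card_eq_card_quotient_mul_card_subgroup (Subgroup.center S)
    rw [hS, hZ2] at h; omega)
  haveI := (hpS.to_quotient (Subgroup.center S)).center_nontrivial
  obtain ⟨⟨Y, hY⟩, hY1⟩ := exists_ne (1 : ↥(Subgroup.center (S ⧸ Subgroup.center S)))
  obtain ⟨y, rfl⟩ := QuotientGroup.mk'_surjective _ Y
  have hyZ : y ∉ Subgroup.center S := fun e => hY1 (Subtype.ext ((QuotientGroup.eq_one_iff y).2 e))
  have hval : ∀ g : S, g * y * g⁻¹ * y⁻¹ ∈ Subgroup.center S := fun g => by
    rw [← QuotientGroup.eq_one_iff]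
    have h := Subgroup.mem_center_iff.1 hY (QuotientGroup.mk g)
    show (QuotientGroup.mk g : S ⧸ Subgroup.center S) * QuotientGroup.mk y * (QuotientGroup.mk g)⁻¹ *
      (QuotientGroup.mk y)⁻¹ = 1
    rw [show (QuotientGroup.mk g : S ⧸ Subgroup.center S) * QuotientGroup.mk y =
      QuotientGroup.mk y * QuotientGroup.mk g from h, mul_inv_cancel_right, mul_inv_cancel]
  let φ : S →* Subgroup.center S := MonoidHom.mk' (fun g => ⟨_, hval g⟩) fun g h => Subtype.ext (by
    show g * h * y * (g * h)⁻¹ * y⁻¹ = g * y * g⁻¹ * y⁻¹ * (h * y * h⁻¹ * y⁻¹)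
    rw [show g * h * y * (g * h)⁻¹ * y⁻¹ = g * (h * y * h⁻¹ * y⁻¹) * (y * g⁻¹ * y⁻¹) by group,
      Subgroup.mem_center_iff.1 (hval h) g]
    rw [show g * y * g⁻¹ * y⁻¹ * (h * y * h⁻¹ * y⁻¹) = g * y * g⁻¹ * y⁻¹ * (h * y * h⁻¹ * y⁻¹) from rfl,
      Subgroup.mem_center_iff.1 (hval h) (g * y * g⁻¹ * y⁻¹)]
    group)
  have hmem : ∀ g, g ∈ φ.ker ↔ g * y = y * g := fun g => by
    rw [MonoidHom.mem_ker]
    refine ⟨fun e => ?_, fun e => Subtype.ext ?_⟩
    · have e' : g * y * g⁻¹ * y⁻¹ = 1 := congrArg Subtype.val e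
      rwa [mul_inv_eq_one, mul_inv_eq_iff_eq_mul] at e'
    · show g * y * g⁻¹ * y⁻¹ = 1
      rw [e, mul_inv_cancel_right, mul_inv_cancel]
  have h8 : Nat.card φ.ker = 8 := by
    have h := Subgroup.card_eq_card_quotient_mul_card_subgroup φ.ker
    rw [hS, Nat.card_congr (QuotientGroup.quotientKerEquivRange φ).toEquiv] at h
    have hr := hZ2 ▸ Subgroup.card_le_card_group φ.range
    have hne : Nat.card φ.range ≠ 1 := fun e => hyZ (Subgroup.mem_center_iff.2 fun g => (hmem g).1 (by
      rw [MonoidHom.mem_ker]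
      have hb := Subgroup.card_eq_one.1 e
      exact (Subgroup.eq_bot_iff_forall _).1 hb _ ⟨g, rfl⟩))
    have hpos : 0 < Nat.card φ.range := Nat.card_pos
    have : Nat.card φ.range = 2 := by omega
    rw [this] at h
    omega
  set K := Subgroup.center S ⊔ Subgroup.zpowers y
  have hKker : K ≤ φ.ker := sup_le (fun g hg => (hmem g).2 (Subgroup.mem_center_iff.1 hg y).symm)
    (Subgroup.zpowers_le.2 ((hmem y).2 rfl))
  refine ⟨φ.ker, h8, key φ.ker K h8 hKker ?_ ?_⟩
  · by_contra hlt
    have e : Subgroup.center S = K := Subgroup.eq_of_le_of_card_ge le_sup_left (by rw [hZ2]; omega)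
    exact hyZ (e ▸ (le_sup_right : Subgroup.zpowers y ≤ K) (Subgroup.mem_zpowers y))
  · intro p hp q hq
    refine ((Subgroup.centralizer_le (le_refl _)) (?_ : q ∈ Subgroup.centralizer (K : Set S)) p hp).symm
    have hK' : K ≤ Subgroup.centralizer ({q} : Set S) := sup_le
      (fun g hg => Subgroup.mem_centralizer_singleton_iff.2 (Subgroup.mem_center_iff.1 hg q).symm)
      (Subgroup.zpowers_le.2 (Subgroup.mem_centralizer_singleton_iff.2 ((hmem q).1 hq).symm))
    exact Subgroup.mem_centralizer_iff.2 fun g hg => (Subgroup.mem_centralizer_singleton_iff.1 (hK' hg))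

end SevenNine

variable {G : Type*} [Group G] [Finite G] {z : G}

/-- No element of order seven commutes with an abelian subgroup of order eight centralising a conjugate of the element of order three. -/
theorem no_eight_cent {D : Dat z} {b x : G} {A : Subgroup G} {c t : G} (Cl : Cls D A c t) {w a r : G}
    (hw : orderOf w = 3) {f : ↥(alternatingGroup (Fin 9)) →* G} (N : Nine c t w a r (compl b x) f) {g v : G}
    (hv : orderOf v = 7) {R : Subgroup G} (h8 : Nat.card R = 8) (hR : ∀ p ∈ R, ∀ q ∈ R, p * q = q * p)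
    (hRe : ∀ p ∈ R, p * (g * w * g⁻¹) = g * w * g⁻¹ * p) (hRv : ∀ p ∈ R, p * v = v * p) : False := by
  have himg : ∀ p ∈ R, ∃ q, f q = g⁻¹ * p * g := fun p hp => by
    have hcomm : g⁻¹ * p * g * w = w * (g⁻¹ * p * g) := by
      calc g⁻¹ * p * g * w = g⁻¹ * (p * (g * w * g⁻¹)) * g := by group
        _ = g⁻¹ * (g * w * g⁻¹ * p) * g := by rw [hRe p hp]
        _ = w * (g⁻¹ * p * g) := by group
    obtain ⟨q, i, e⟩ := N.decomp _ hcomm
    have hp8 : p ^ 8 = 1 := orderOf_dvd_iff_pow_eq_one.1 (h8 ▸ Subgroup.orderOf_dvd_natCard R hp)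
    have h1 : f (q ^ 8) * w ^ (i * 8) = 1 := by
      rw [map_pow, pow_mul, ← ((show Commute (f q) w from N.comm q).pow_right i).mul_pow,
        ← e, show g⁻¹ * p * g = g⁻¹ * p * g⁻¹⁻¹ by rw [inv_inv], conj_pow, hp8, mul_one, inv_inv, inv_mul_cancel]
    have hq : q ^ 8 = 1 := N.meet _ (by
      rw [eq_inv_of_mul_eq_one_left h1]
      exact inv_mem (Subgroup.pow_mem _ (Subgroup.mem_zpowers w) _))
    rw [hq, map_one, one_mul] at h1
    have h3 : 3 ∣ i := Nat.Coprime.dvd_of_dvd_mul_right (by norm_num) (hw ▸ orderOf_dvd_of_pow_eq_one h1)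
    refine ⟨q, ?_⟩
    rw [e, orderOf_dvd_iff_pow_eq_one.1 (hw.symm ▸ h3), mul_one]
  have hcard : Nat.card ↥((R.map (MulAut.conj g⁻¹).toMonoidHom).comap f) = 8 := by
    refine (Nat.card_congr ?_).trans h8
    refine Equiv.ofBijective (fun q => ⟨g * f q.1 * g⁻¹, ?_⟩) ⟨fun q q' h => ?_, fun p => ?_⟩
    · obtain ⟨p, hp, e⟩ := Subgroup.mem_map.1 (Subgroup.mem_comap.1 q.2)
      rw [← e]
      show g * (g⁻¹ * p * g⁻¹⁻¹) * g⁻¹ ∈ R
      rwa [show g * (g⁻¹ * p * g⁻¹⁻¹) * g⁻¹ = p by group]
    · exact Subtype.ext (N.inj (mul_left_cancel (mul_right_cancel (congrArg Subtype.val h))))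
    · obtain ⟨q, e⟩ := himg p p.2
      refine ⟨⟨q, Subgroup.mem_comap.2 (Subgroup.mem_map.2 ⟨p, p.2, ?_⟩)⟩, Subtype.ext ?_⟩
      · show g⁻¹ * (p : G) * g⁻¹⁻¹ = f q
        rw [e, inv_inv]
      · show g * f q * g⁻¹ = p
        rw [e]; group
  obtain ⟨p, hp, hp2, hsupp⟩ := SevenNine.exists_quad _ hcard (by
    intro p hp q hq
    obtain ⟨p', hp', ep⟩ := Subgroup.mem_map.1 (Subgroup.mem_comap.1 hp)
    obtain ⟨q', hq', eq⟩ := Subgroup.mem_map.1 (Subgroup.mem_comap.1 hq)
    refine N.inj ?_
    rw [map_mul, map_mul, ← ep, ← eq, ← map_mul, ← map_mul, hR p' hp' q' hq'])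
  obtain ⟨p', hp', ep⟩ := Subgroup.mem_map.1 (Subgroup.mem_comap.1 hp)
  obtain ⟨h, hh⟩ := isConj_iff.1 (N.quad p hp2 hsupp)
  -- `v`, moved to the centraliser of the class representative
  refine Cl.seven (hv ▸ ?_)
  have hmem : (g * h)⁻¹ * v * (g * h) ∈ centralizer ({c} : Set G) := by
    rw [mem_centralizer_singleton_iff]
    have e : p' = g * h * c * (g * h)⁻¹ := by
      have ep' : g⁻¹ * p' * g⁻¹⁻¹ = f p := ep
      calc p' = g * (g⁻¹ * p' * g⁻¹⁻¹) * g⁻¹ := by group
        _ = g * (h * c * h⁻¹) * g⁻¹ := by rw [ep', hh]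
        _ = g * h * c * (g * h)⁻¹ := by group
    calc (g * h)⁻¹ * v * (g * h) * c = (g * h)⁻¹ * (v * p') * (g * h) := by rw [e]; group
      _ = (g * h)⁻¹ * (p' * v) * (g * h) := by rw [hRv p' hp']
      _ = c * ((g * h)⁻¹ * v * (g * h)) := by rw [e]; group
  have := Subgroup.orderOf_dvd_natCard _ hmem
  rwa [show (g * h)⁻¹ * v * (g * h) = MulAut.conj (g * h)⁻¹ v by
    rw [MulAut.conj_apply, inv_inv], MulEquiv.orderOf_eq] at this

/-- The same without commutativity, for order divisible by sixteen. -/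
theorem no_sixteen_cent {D : Dat z} {b x : G} {A : Subgroup G} {c t : G} (Cl : Cls D A c t) {w a r : G}
    (hw : orderOf w = 3) {f : ↥(alternatingGroup (Fin 9)) →* G} (N : Nine c t w a r (compl b x) f) {g v : G}
    (hv : orderOf v = 7) {R : Subgroup G} (h16 : 16 ∣ Nat.card R)
    (hRe : ∀ p ∈ R, p * (g * w * g⁻¹) = g * w * g⁻¹ * p) (hRv : ∀ p ∈ R, p * v = v * p) : False := by
  obtain ⟨H, hH, hHc⟩ := SevenNine.exists_abelian_eight (P := R) h16
  refine no_eight_cent Cl hw N (g := g) hv (R := H.map R.subtype)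
    (by rw [Subgroup.card_map_of_injective R.subtype_injective, hH]) ?_ ?_ ?_
  · rintro _ ⟨p, hp, rfl⟩ _ ⟨q, hq, rfl⟩
    rw [← map_mul, ← map_mul, hHc p hp q hq]
  · rintro _ ⟨p, -, rfl⟩
    exact hRe p p.2
  · rintro _ ⟨p, -, rfl⟩
    exact hRv p p.2

end CfsgLib.Co1Loc
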