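import Cfsg.Agent.Co1Loc.SevenFix
import Cfsg.Agent.Solvable.CoprimeAct
import Mathlib.GroupTheory.Transfer

/-!
The centraliser of the element of order seven and of the four-group: its 2-elements lie in the four-group and it
has no element of order three commuting with the involution inverting the element of order three.
-/

set_option autoImplicit false
set_option maxRecDepth 100000
set_option synthInstance.maxSize 4096
set_option linter.style.haveILetI false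
set_option linter.unusedSectionVars false

namespace CfsgLib.Co1Loc.Seven

open CfsgLib CfsgLib.Quad CfsgLib.Co1Invol CfsgLib.Co1Five Subgroup
open scoped Pointwise

/-- A group of order a power of two with two commuting automorphisms of order three, one of them fixed-point-free:
a composite fixes an involution. -/
theorem exists_fixed {Q : Type*} [Group Q] [Finite Q] [Nontrivial Q] (hQ : IsPGroup 2 Q) {α η : Q →* Q}
    (hα : ∀ q, α (α (α q)) = q) (hη : ∀ q, η (η (η q)) = q) (hc : ∀ q, α (η q) = η (α q))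
    (hf : ∀ q, α q = q → q = 1) :
    ∃ q : Q, q ≠ 1 ∧ q * q = 1 ∧ (η q = q ∨ η (α q) = q ∨ η (α (α q)) = q) := by
  classical
  haveI : Fact (Nat.Prime 2) := ⟨Nat.prime_two⟩
  haveI := hQ.center_nontrivial
  obtain ⟨⟨q, hqc⟩, hq⟩ := exists_prime_orderOf_dvd_card' (G := ↥(center Q)) 2 (by
    obtain ⟨k, hk⟩ := IsPGroup.iff_card.1 (hQ.to_subgroup (center Q))
    rcases k with _ | k
    · have := Finite.one_lt_card (α := ↥(center Q))
      rw [hk] at this
      simp at this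
    · rw [hk, pow_succ]; exact dvd_mul_left 2 _)
  rw [orderOf_mk] at hq
  have hq2 : q * q = 1 := by rw [← pow_two, ← hq, pow_orderOf_eq_one]
  have hq1 : q ≠ 1 := fun e => by rw [e, orderOf_one] at hq; omega
  have hcen : ∀ g : Q →* Q, (∀ p, g (g (g p)) = p) → ∀ p ∈ center Q, g p ∈ center Q := fun g hg p hp =>
    mem_center_iff.2 fun d => by
      conv_lhs => rw [← hg d]
      conv_rhs => rw [← hg d]
      rw [← map_mul, ← map_mul, mem_center_iff.1 hp]
  -- the sum of an orbit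
  have horb : ∀ g : Q →* Q, (∀ p, g (g (g p)) = p) → g (q * (g q * g (g q))) = q * (g q * g (g q)) ∧
      (q * (g q * g (g q))) * (q * (g q * g (g q))) = 1 := by
    intro g hg
    have h1 := hcen g hg q hqc
    have h2 := hcen g hg _ h1
    have hsq : ∀ p, p * p = 1 → g p * g p = 1 := fun p hp => by rw [← map_mul, hp, map_one]
    refine ⟨?_, ?_⟩
    · rw [map_mul, map_mul, hg, ← mul_assoc, mem_center_iff.1 hqc]
    · have c1 : Commute q (g q * g (g q)) := (mem_center_iff.1 hqc _).symm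
      have c2 : Commute (g q) (g (g q)) := (mem_center_iff.1 h1 _).symm
      rw [c1.symm.mul_mul_mul_comm, hq2, one_mul, c2.symm.mul_mul_mul_comm, hsq q hq2, one_mul, hsq _ (hsq q hq2)]
  have h1 : ∀ q : Q, η (α (η (α (η (α q))))) = q := fun q => by simp only [hc, hα, hη]
  have h2 : ∀ q : Q, η (α (α (η (α (α (η (α (α q)))))))) = q := fun q => by simp only [hc, hα, hη]
  obtain ⟨a0, b0⟩ := horb η hη
  obtain ⟨a1, b1⟩ := horb (η.comp α) h1
  obtain ⟨a2, b2⟩ := horb (η.comp (α.comp α)) h2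
  obtain ⟨aα, -⟩ := horb α hα
  simp only [MonoidHom.comp_apply] at a1 b1 a2 b2
  by_contra hcon
  push Not at hcon
  have n0 : q * (η q * η (η q)) = 1 := by_contra fun h => (hcon _ h b0).1 a0
  have n1 : q * (η (α q) * η (α (η (α q)))) = 1 := by_contra fun h => (hcon _ h b1).2.1 a1
  have n2 : q * (η (α (α q)) * η (α (α (η (α (α q)))))) = 1 := by_contra fun h => (hcon _ h b2).2.2 a2
  have nα : q * (α q * α (α q)) = 1 := hf _ aα
  simp only [hc, hα] at n1 n2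
  -- the three sums multiply to the element
  letI : CommGroup ↥(center Q) := CommGroup.mk fun p p' => Subtype.ext (mem_center_iff.1 p'.2 p)
  have hm : ∀ (g : Q →* Q) (_ : ∀ p, g (g (g p)) = p) (p : ↥(center Q)), g p ∈ center Q := fun g hg p =>
    hcen g hg p p.2
  let αc : ↥(center Q) →* ↥(center Q) := (α.comp (center Q).subtype).codRestrict _ (hm α hα)
  let ηc : ↥(center Q) →* ↥(center Q) := (η.comp (center Q).subtype).codRestrict _ (hm η hη)
  set p : ↥(center Q) := ⟨q, hqc⟩ with hp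
  have e0 : p * (ηc p * ηc (ηc p)) = 1 := Subtype.ext n0
  have e1 : p * (ηc (αc p) * ηc (ηc (αc (αc p)))) = 1 := Subtype.ext n1
  have e2 : p * (ηc (αc (αc p)) * ηc (ηc (αc p))) = 1 := Subtype.ext (by
    show q * (η (α (α q)) * η (η (α q))) = 1
    exact n2)
  have eα : p * (αc p * αc (αc p)) = 1 := Subtype.ext nα
  have e : p * (ηc p * ηc (ηc p)) * (p * (ηc (αc p) * ηc (ηc (αc (αc p))))) *
      (p * (ηc (αc (αc p)) * ηc (ηc (αc p)))) =
      p * (p * p) * ηc (p * (αc p * αc (αc p))) * ηc (ηc (p * (αc p * αc (αc p)))) := by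
    simp only [map_mul]
    ac_rfl
  rw [e0, e1, e2, eα, map_one, map_one, show p * p = 1 from Subtype.ext hq2] at e
  simp only [mul_one] at e
  exact hq1 (congrArg Subtype.val e).symm

variable {G : Type*} [Group G] [Finite G]

namespace Sev

variable {v y a₀ t₀ b : G} {U : Subgroup G} (S : Sev v y a₀ t₀ b U)

/-- The four-group times the element of order seven. -/
def Nv (S : Sev v y a₀ t₀ b U) : Subgroup G where
  carrier := {g | ∃ u ∈ U, ∃ j : ℤ, g = u * v ^ j}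
  one_mem' := ⟨1, one_mem U, 0, by simp⟩
  mul_mem' := by
    rintro _ _ ⟨u, hu, j, rfl⟩ ⟨u', hu', j', rfl⟩
    refine ⟨u * u', mul_mem hu hu', j + j', ?_⟩
    rw [show u * v ^ j * (u' * v ^ j') = u * (v ^ j * u') * v ^ j' by group, ← ((S.comm_v u' hu').zpow_right j).eq,
      zpow_add]
    group
  inv_mem' := by
    rintro _ ⟨u, hu, j, rfl⟩
    refine ⟨u, hu, -j, ?_⟩
    rw [mul_inv_rev, inv_eq_of_mul_eq_one_right (S.sq u hu), ← zpow_neg, ((S.comm_v u hu).zpow_right (-j)).eq]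

theorem U_le_Nv : U ≤ S.Nv := fun u hu => ⟨u, hu, 0, by simp⟩

include S

theorem zpow_seven (j : ℤ) : (v ^ j) ^ 7 = 1 := by
  rw [← zpow_natCast, ← zpow_mul, mul_comm, zpow_mul, zpow_natCast, S.v_pow, one_zpow]

theorem zpow_three (i : ℤ) : (a₀ ^ i) ^ 3 = 1 := by
  rw [← zpow_natCast, ← zpow_mul, mul_comm, zpow_mul, zpow_natCast, S.a3, one_zpow]

/-- Elements of the four-group times the element of order seven of order dividing four lie in the four-group. -/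
theorem mem_U_of_four {g : G} (hg : g ∈ S.Nv) (h4 : g ^ 4 = 1) : g ∈ U := by
  obtain ⟨u, hu, j, rfl⟩ := hg
  rw [((S.comm_v u hu).zpow_right j).mul_pow, show (4 : ℕ) = 2 * 2 from rfl, pow_mul u, pow_two u, S.sq u hu,
    one_pow, one_mul] at h4
  have h7 := S.zpow_seven j
  have hj : v ^ j = 1 := orderOf_eq_one_iff.1 (Nat.dvd_one.1
    ((Nat.dvd_gcd (orderOf_dvd_of_pow_eq_one h4) (orderOf_dvd_of_pow_eq_one h7)).trans (by norm_num)))
  rw [hj, mul_one]
  exact hu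

theorem Nv_three {g : G} (hg : g ∈ S.Nv) (h3 : g ^ 3 = 1) : g = 1 := by
  obtain ⟨u, hu, j, rfl⟩ := hg
  have h28 : (u * v ^ j) ^ 28 = 1 := by
    rw [((S.comm_v u hu).zpow_right j).mul_pow]
    nth_rewrite 2 [show (28 : ℕ) = 7 * 4 from rfl]
    rw [show (28 : ℕ) = 2 * 14 from rfl, pow_mul u, pow_two u, S.sq u hu, one_pow, one_mul, pow_mul,
      S.zpow_seven j, one_pow]
  rwa [show (28 : ℕ) = 3 * 9 + 1 from rfl, pow_succ, pow_mul, h3, one_pow, one_mul] at h28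

theorem eq_one_of_two_power {g : G} {k : ℕ} (h2 : g ^ 2 ^ k = 1) (h3 : g ^ 3 = 1) : g = 1 :=
  orderOf_eq_one_iff.1 (Nat.dvd_one.1 ((Nat.dvd_gcd (orderOf_dvd_of_pow_eq_one h2) (orderOf_dvd_of_pow_eq_one h3)).trans
    (by
      have : Nat.Coprime (2 ^ k) 3 := Nat.Coprime.pow_left _ (by norm_num)
      rw [this.gcd_eq_one])))

/-- The centraliser of the element of order seven and the four-group. -/
def W₀ (_S : Sev v y a₀ t₀ b U) : Subgroup G := centralizer ({v} : Set G) ⊓ centralizer (U : Set G)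

theorem mem_W₀ {g : G} : g ∈ S.W₀ ↔ Commute g v ∧ ∀ u ∈ U, Commute g u := by
  rw [W₀, mem_inf, mem_centralizer_singleton_iff, mem_centralizer_iff]
  exact ⟨fun h => ⟨h.1, fun u hu => (h.2 u hu).symm⟩, fun h => ⟨h.1, fun u hu => (h.2 u hu).symm⟩⟩

theorem v_mem : v ∈ S.W₀ := S.mem_W₀.2 ⟨Commute.refl v, fun u hu => (S.comm_v u hu).symm⟩

theorem a_mem : a₀ ∈ S.W₀ := S.mem_W₀.2 ⟨S.va.symm, fun u hu => (S.comm_a u hu).symm⟩

theorem U_le : U ≤ S.W₀ := fun _ hu => S.mem_W₀.2 ⟨S.comm_v _ hu, fun _ hu' => S.comm hu hu'⟩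

theorem Nv_le : S.Nv ≤ S.W₀ := by
  rintro _ ⟨u, hu, j, rfl⟩
  exact mul_mem (S.U_le hu) (zpow_mem S.v_mem j)

theorem Nv_central {g n : G} (hg : g ∈ S.W₀) (hn : n ∈ S.Nv) : Commute g n := by
  obtain ⟨u, hu, j, rfl⟩ := hn
  exact ((S.mem_W₀.1 hg).2 u hu).mul_right ((S.mem_W₀.1 hg).1.zpow_right j)

theorem cent_a {g : G} (hg : g ∈ S.W₀) (ha : Commute g a₀) : ∃ i : ℤ, ∃ n ∈ S.Nv, g = a₀ ^ i * n := by
  obtain ⟨u, hu, i, j, rfl⟩ := S.cent g (S.mem_W₀.1 hg).1 ha (S.mem_W₀.1 hg).2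
  exact ⟨i, u * v ^ j, ⟨u, hu, j, rfl⟩, by rw [← mul_assoc, ((S.comm_a u hu).zpow_right i).eq]⟩

/-- Fixing modulo the centre of the group means fixing, for the element of order three. -/
theorem commute_of_conj {g : G} (hg : g ∈ S.W₀) {n : G} (hn : n ∈ S.Nv) (h : g * a₀ * g⁻¹ = a₀ * n) :
    Commute g a₀ := by
  have hn1 : n = 1 := by
    refine S.Nv_three hn ?_
    have h3 : (a₀ * n) ^ 3 = 1 := by rw [← h, conj_pow, S.a3]; group
    rwa [(S.Nv_central S.a_mem hn).mul_pow, S.a3, one_mul] at h3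
  rw [hn1, mul_one] at h
  exact mul_inv_eq_iff_eq_mul.1 h

theorem norm_W₀ {g : G} {n : ℕ} (hv : g * v * g⁻¹ = v ^ n) (hn : n.Coprime 7)
    (hU : ∀ u ∈ U, g⁻¹ * u * g ∈ U) {p : G} (hp : p ∈ S.W₀) : g * p * g⁻¹ ∈ S.W₀ := by
  refine S.mem_W₀.2 ⟨?_, fun u hu => ?_⟩
  · have h1 : Commute (g * p * g⁻¹) (v ^ n) := hv ▸ (Commute.conj_iff g).2 (S.mem_W₀.1 hp).1
    obtain ⟨m, hm⟩ := exists_pow_eq_self_of_coprime (x := v) (n := n) (by rw [S.v7]; exact hn)
    exact hm ▸ h1.pow_right m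
  · have := (Commute.conj_iff g).2 ((S.mem_W₀.1 hp).2 _ (hU u hu))
    rwa [show g * (g⁻¹ * u * g) * g⁻¹ = u by group] at this

variable (hno8 : ∀ (j : ℤ) (R : Subgroup G), Nat.card R = 8 → (∀ p ∈ R, ∀ q ∈ R, p * q = q * p) →
  (∀ p ∈ R, Commute p (y * a₀ ^ j)) → (∀ p ∈ R, Commute p v) → False)

include hno8

/-- No element outside the four-group with square inside it is centralised by a twist of the element of order
three. -/
theorem no_fixed {r : G} (hr : r ∈ S.W₀) (hrr : r * r ∈ U) (hrU : r ∉ U) {j : ℤ}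
    (he : Commute r (y * a₀ ^ j)) : False := by
  classical
  have hru : ∀ u ∈ U, r * u = u * r := fun u hu => ((S.mem_W₀.1 hr).2 u hu).eq
  let R : Subgroup G :=
    { carrier := {g | g ∈ U ∨ r * g ∈ U}
      one_mem' := Or.inl (one_mem U)
      mul_mem' := by
        rintro p q (hp | hp) (hq | hq)
        · exact Or.inl (mul_mem hp hq)
        · refine Or.inr ?_
          rw [← mul_assoc, hru p hp, mul_assoc]
          exact mul_mem hp hq
        · refine Or.inr ?_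
          rw [← mul_assoc]
          exact mul_mem hp hq
        · refine Or.inl ?_
          have h1 := mul_mem (mul_mem hp hq) (inv_mem hrr)
          have e : r * p * (r * q) * (r * r)⁻¹ = p * q := by
            have hp' : p = r⁻¹ * (r * p) := by group
            have hq' : q = r⁻¹ * (r * q) := by group
            have c1 : Commute r (r * p) := hru _ hp
            have c2 : Commute r (r * q) := hru _ hq
            calc r * p * (r * q) * (r * r)⁻¹ = (r * r)⁻¹ * (r * p * (r * q)) :=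
                  (((c1.mul_left c1).mul_right (c2.mul_left c2)).inv_left.eq).symm
              _ = r⁻¹ * (r⁻¹ * (r * p)) * (r * q) := by group
              _ = r⁻¹ * ((r * p) * r⁻¹) * (r * q) := by rw [c1.inv_left.eq]
              _ = p * q := by group
          exact e ▸ h1
      inv_mem' := by
        rintro p (hp | hp)
        · exact Or.inl (inv_mem hp)
        · refine Or.inr ?_
          have c1 : Commute r p := by
            have := ((Commute.refl r).inv_right).mul_right (show Commute r (r * p) from hru _ hp)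
            rwa [inv_mul_cancel_left] at this
          have h1 := mul_mem (inv_mem hp) hrr
          rwa [show (r * p)⁻¹ * (r * r) = p⁻¹ * r by group, ← c1.inv_right.eq] at h1 }
  have hUR : U ≤ R := fun u hu => Or.inl hu
  have hcard : Nat.card R = 8 := by
    have h1 := Subgroup.card_mul_index (U.subgroupOf R)
    rw [Nat.card_congr (subgroupOfEquivOfLe hUR).toEquiv, S.card] at h1
    have h2 : (U.subgroupOf R).index = 2 := by
      rw [index_eq_two_iff]
      refine ⟨⟨r, Or.inr hrr⟩, fun g => ?_⟩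
      rw [mem_subgroupOf, mem_subgroupOf]
      push_cast
      rcases g.2 with hg | hg
      · exact Or.inr ⟨hg, fun h => hrU (by
          have := mul_mem (inv_mem hg) h
          rwa [inv_mul_cancel_left] at this)⟩
      · have hgr : (g : G) * r = r * g := by
          have c : Commute r (r * (g : G)) := hru _ hg
          have := ((Commute.refl r).inv_right).mul_right c
          rw [inv_mul_cancel_left] at this
          exact this.eq.symm
        refine Or.inl ⟨hgr ▸ hg, fun h => hrU ?_⟩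
        have := mul_mem hg (inv_mem h)
        rwa [mul_inv_cancel_right] at this
    rw [h2] at h1
    omega
  have hgen : ∀ g ∈ R, g ∈ U ∨ ∃ u ∈ U, g = r⁻¹ * u := fun g hg =>
    hg.imp id fun h => ⟨r * g, h, by group⟩
  have hye : ∀ u ∈ U, Commute u (y * a₀ ^ j) := fun u hu =>
    (S.y_fix u hu).mul_right ((S.comm_a u hu).zpow_right j)
  refine hno8 j R hcard (fun p hp q hq => ?_) (fun p hp => ?_) fun p hp => ?_
  · rcases hgen p hp with h | ⟨u, hu, rfl⟩ <;> rcases hgen q hq with h' | ⟨u', hu', rfl⟩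
    · exact (S.comm h h').eq
    · exact ((show Commute p r from (hru p h).symm).inv_right.mul_right (S.comm h hu')).eq
    · exact ((show Commute q r from (hru q h').symm).inv_right.mul_right (S.comm h' hu)).eq.symm
    · exact (((show Commute r⁻¹ r⁻¹ from Commute.refl _).mul_right (show Commute r u' from hru u' hu').inv_left).mul_left
        ((show Commute u r from (hru u hu).symm).inv_right.mul_right (S.comm hu hu'))).eq
  · rcases hgen p hp with h | ⟨u, hu, rfl⟩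
    · exact hye p h
    · exact he.inv_left.mul_left (hye u hu)
  · rcases hgen p hp with h | ⟨u, hu, rfl⟩
    · exact S.comm_v p h
    · exact (S.mem_W₀.1 hr).1.inv_left.mul_left (S.comm_v u hu)

/-- No element of the centraliser inverts the element of order three. -/
theorem no_inverter {g : G} (hg : g ∈ S.W₀) {n : G} (hn : n ∈ S.Nv) (h : g * a₀ * g⁻¹ = a₀⁻¹ * n) : False := by
  have hn1 : n = 1 := by
    refine S.Nv_three hn ?_
    have h3 : (a₀⁻¹ * n) ^ 3 = 1 := by rw [← h, conj_pow, S.a3]; group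
    rwa [((S.Nv_central S.a_mem hn).inv_left).mul_pow, inv_pow, S.a3, inv_one, one_mul] at h3
  rw [hn1, mul_one] at h
  have hgg : Commute (g * g) a₀ := by
    refine mul_inv_eq_iff_eq_mul.1 ?_
    rw [show g * g * a₀ * (g * g)⁻¹ = g * (g * a₀ * g⁻¹) * g⁻¹ by group, h,
      show g * a₀⁻¹ * g⁻¹ = (g * a₀ * g⁻¹)⁻¹ by group, h, inv_inv]
  have h2 : g ^ 21 * a₀ * (g ^ 21)⁻¹ = a₀⁻¹ := by
    have e : Commute ((g * g) ^ 10) a₀⁻¹ := (hgg.pow_left _).inv_right
    rw [show (21 : ℕ) = 2 * 10 + 1 from rfl, pow_succ, pow_mul, pow_two,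
      show (g * g) ^ 10 * g * a₀ * ((g * g) ^ 10 * g)⁻¹ = (g * g) ^ 10 * (g * a₀ * g⁻¹) * ((g * g) ^ 10)⁻¹ by group,
      h, e.eq, mul_inv_cancel_right]
  set r := g ^ 21 with hr
  have hrW : r ∈ S.W₀ := pow_mem hg _
  have hrr : r * r ∈ U := by
    obtain ⟨i, m, hm, e⟩ := S.cent_a (mul_mem hg hg) hgg
    obtain ⟨u, hu, j, rfl⟩ := hm
    have e2 : r * r = (g * g) ^ 21 := ((Commute.refl g).mul_pow 21).symm
    rw [e2, e, ((((S.comm_a u hu).symm).mul_right (S.va.symm.zpow_right j)).zpow_left i).mul_pow,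
      ((S.comm_v u hu).zpow_right j).mul_pow, show (21 : ℕ) = 3 * 7 from rfl, pow_mul, S.zpow_three i, one_pow,
      one_mul]
    nth_rewrite 2 [mul_comm 3 7]
    rw [pow_mul (v ^ j), S.zpow_seven j, one_pow, mul_one]
    exact pow_mem hu _
  have hrU : r ∉ U := fun h0 => S.a_ne (by
    rw [(S.comm_a r h0).eq, mul_inv_cancel_right] at h2
    have h3 : a₀ * a₀ = 1 := by nth_rewrite 2 [h2]; exact mul_inv_cancel _
    have := S.a3
    rwa [pow_succ, pow_two, h3, one_mul] at this)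
  -- the twist fixing it
  have hyinv : ∀ u ∈ U, y⁻¹ * u * y ∈ U := fun u hu => by
    rw [show y⁻¹ * u * y = y⁻¹ * (u * y) by group, (S.y_fix u hu).eq, inv_mul_cancel_left]
    exact hu
  have hrW' := S.norm_W₀ S.yv (by norm_num) hyinv hrW
  have hr' : y * r * y⁻¹ * a₀ * (y * r * y⁻¹)⁻¹ = a₀⁻¹ := by
    have e1 : y⁻¹ * a₀ * y = a₀ := by rw [mul_assoc, ← S.ya.eq, inv_mul_cancel_left]
    rw [show y * r * y⁻¹ * a₀ * (y * r * y⁻¹)⁻¹ = y * (r * (y⁻¹ * a₀ * y) * r⁻¹) * y⁻¹ by group, e1, h2,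
      S.ya.inv_right.eq, mul_inv_cancel_right]
  have hcc : Commute (r⁻¹ * (y * r * y⁻¹)) a₀ := by
    refine mul_inv_eq_iff_eq_mul.1 ?_
    rw [show r⁻¹ * (y * r * y⁻¹) * a₀ * (r⁻¹ * (y * r * y⁻¹))⁻¹ =
      r⁻¹ * (y * r * y⁻¹ * a₀ * (y * r * y⁻¹)⁻¹) * r by group, hr', ← h2]
    group
  obtain ⟨i, m, hm, e⟩ := S.cent_a (mul_mem (inv_mem hrW) hrW') hcc
  have hk3 : ∀ k : ℤ, r * a₀ ^ k = a₀ ^ (-k) * r := fun k => by
    rw [← mul_inv_eq_iff_eq_mul, ← conj_zpow, h2, inv_zpow, zpow_neg]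
  have ha3 : a₀ ^ (-(3 * i)) = 1 := by
    rw [show -(3 * i) = ((3 : ℕ) : ℤ) * (-i) by ring, zpow_mul, zpow_natCast, S.a3, one_zpow]
  set e' := y * a₀ ^ (2 * i) with he'
  have hfix : e' * r * e'⁻¹ = r * m := by
    have hya : y * a₀ ^ (-(4 * i)) * y⁻¹ = a₀ ^ (-(4 * i)) := by
      rw [(S.ya.zpow_right _).eq, mul_inv_cancel_right]
    have e1 : a₀ ^ (2 * i) * r * (a₀ ^ (2 * i))⁻¹ = r * a₀ ^ (-(4 * i)) := by
      rw [show (2 * i) = -(-(2 * i)) by ring, ← hk3 (-(2 * i))]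
      group
    calc e' * r * e'⁻¹ = y * (a₀ ^ (2 * i) * r * (a₀ ^ (2 * i))⁻¹) * y⁻¹ := by rw [he']; group
      _ = (y * r * y⁻¹) * (y * a₀ ^ (-(4 * i)) * y⁻¹) := by rw [e1]; group
      _ = r * (r⁻¹ * (y * r * y⁻¹)) * a₀ ^ (-(4 * i)) := by rw [hya]; group
      _ = r * (a₀ ^ i * (m * a₀ ^ (-(4 * i)))) := by rw [e]; group
      _ = r * (a₀ ^ (-(3 * i)) * m) := by
        rw [((S.Nv_central S.a_mem hm).symm.zpow_right _).eq]; group
      _ = r * m := by rw [ha3, one_mul]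
  refine S.no_fixed hno8 hrW hrr hrU (j := 2 * i) ?_
  have he3 : e' ^ 3 = 1 := by
    rw [he', (S.ya.zpow_right _).mul_pow, S.y3, S.zpow_three, one_mul]
  have hm2 : m * m = 1 := by
    have hrru : e' * (r * r) * e'⁻¹ = r * r := by
      have hc : Commute e' (r * r) := ((S.y_fix _ hrr).mul_right ((S.comm_a _ hrr).zpow_right _)).symm
      rw [hc.eq, mul_inv_cancel_right]
    have h5 : (r * m) * (r * m) = r * r := by rw [← hfix]; rw [← hrru]; group
    rw [(S.Nv_central hrW hm).symm.mul_mul_mul_comm] at h5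
    exact mul_eq_left.1 h5
  have hmU : m ∈ U := S.mem_U_of_four hm (by rw [show (4 : ℕ) = 2 * 2 from rfl, pow_mul, pow_two m, hm2, one_pow])
  have hem : e' * m * e'⁻¹ = m := by
    have hc : Commute e' m := ((S.y_fix m hmU).mul_right ((S.comm_a m hmU).zpow_right _)).symm
    rw [hc.eq, mul_inv_cancel_right]
  have h3e : r * (m * m * m) = r := by
    calc r * (m * m * m) = e' * (e' * (e' * r * e'⁻¹) * e'⁻¹) * e'⁻¹ := by
          rw [hfix, show e' * (r * m) * e'⁻¹ = (e' * r * e'⁻¹) * (e' * m * e'⁻¹) by group, hfix, hem,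
            show e' * (r * m * m) * e'⁻¹ = (e' * r * e'⁻¹) * (e' * m * e'⁻¹) * (e' * m * e'⁻¹) by group, hfix, hem]
          group
      _ = e' ^ 3 * r * (e' ^ 3)⁻¹ := conj_three e' r
      _ = r := by rw [he3]; group
  rw [hm2, one_mul] at h3e
  rw [mul_eq_left.1 h3e, mul_one] at hfix
  exact (mul_inv_eq_iff_eq_mul.1 hfix).symm

/-- The normal complement to the element of order three. -/
theorem exists_compl : ∃ N₀ : Subgroup G, N₀ ≤ S.W₀ ∧ S.Nv ≤ N₀ ∧ ¬ 3 ∣ Nat.card N₀ ∧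
    (∀ g ∈ S.W₀, ∃ i : ℤ, g * a₀ ^ i ∈ N₀) ∧ (∀ g ∈ S.W₀, ∀ p ∈ N₀, g * p * g⁻¹ ∈ N₀) := by
  classical
  haveI : Fact (Nat.Prime 3) := ⟨Nat.prime_three⟩
  set W := S.W₀ with hW
  set NN := S.Nv.subgroupOf W with hNN
  haveI hNN' : NN.Normal := ⟨fun n hn g => by
    refine mem_subgroupOf.2 ?_
    push_cast
    rw [(S.Nv_central g.2 (mem_subgroupOf.1 hn)).eq, mul_inv_cancel_right]
    exact mem_subgroupOf.1 hn⟩
  set π := QuotientGroup.mk' NN with hπ
  set aW : W := ⟨a₀, S.a_mem⟩ with haW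
  set ā := π aW with hā
  have hā3 : ā ^ 3 = 1 := by
    rw [hā, ← map_pow, show aW ^ 3 = 1 from Subtype.ext S.a3, map_one]
  have hā1 : ā ≠ 1 := fun e => S.a_ne (S.Nv_three (mem_subgroupOf.1 ((QuotientGroup.eq_one_iff aW).1 e)) S.a3)
  have hāo : orderOf ā = 3 := orderOf_eq_prime hā3 hā1
  have hlift : ∀ g : W, Commute (π g) ā → π g ∈ zpowers ā := fun g h => by
    have e1 : π (aW⁻¹ * (g * aW * g⁻¹)) = 1 := by
      rw [map_mul, map_inv, map_mul, map_mul, map_inv, h.eq, mul_inv_cancel_right, inv_mul_cancel]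
    have hmem := mem_subgroupOf.1 ((QuotientGroup.eq_one_iff _).1 e1)
    have hc : Commute (g : G) a₀ := S.commute_of_conj g.2 hmem (by
      show (g : G) * a₀ * (g : G)⁻¹ = a₀ * (a₀⁻¹ * ((g : G) * a₀ * (g : G)⁻¹))
      group)
    obtain ⟨i, n, hn, e⟩ := S.cent_a g.2 hc
    have eg : g = aW ^ i * ⟨n, S.Nv_le hn⟩ := Subtype.ext (by push_cast; exact e)
    rw [eg, map_mul, map_zpow, show π ⟨n, S.Nv_le hn⟩ = 1 from (QuotientGroup.eq_one_iff _).2 (mem_subgroupOf.2 hn),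
      mul_one]
    exact zpow_mem (mem_zpowers _) i
  obtain ⟨P, hP⟩ := (IsPGroup.of_card (p := 3) (n := 1)
    (show Nat.card (zpowers ā) = 3 ^ 1 by rw [Nat.card_zpowers, hāo, pow_one])).exists_le_sylow
  have hPeq : (P : Subgroup (↥W ⧸ NN)) = zpowers ā := by
    refine le_antisymm ?_ hP
    haveI : Nontrivial ↥(P : Subgroup (↥W ⧸ NN)) :=
      (nontrivial_iff_ne_bot _).2 (ne_bot_of_le_ne_bot (zpowers_ne_bot.2 hā1) hP)
    haveI := P.2.center_nontrivial
    obtain ⟨⟨c, hc⟩, hc1⟩ := exists_ne (1 : ↥(center ↥(P : Subgroup (↥W ⧸ NN))))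
    have hcP : ∀ p : ↥(P : Subgroup (↥W ⧸ NN)), Commute (p : ↥W ⧸ NN) (c : ↥W ⧸ NN) := fun p =>
      congrArg Subtype.val (mem_center_iff.1 hc p)
    obtain ⟨gc, hgc⟩ := QuotientGroup.mk'_surjective NN (c : ↥W ⧸ NN)
    have hcz : (c : ↥W ⧸ NN) ∈ zpowers ā := by
      rw [← hgc]
      exact hlift gc (by rw [hπ, hgc]; exact (hcP ⟨ā, hP (mem_zpowers ā)⟩).symm)
    have hc3 : zpowers (c : ↥W ⧸ NN) = zpowers ā := by
      refine eq_of_le_of_card_ge (zpowers_le.2 hcz) ?_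
      have hd : orderOf (c : ↥W ⧸ NN) ∣ 3 := by
        have hd := Subgroup.orderOf_dvd_natCard _ hcz
        rwa [Nat.card_zpowers, hāo] at hd
      rcases (Nat.dvd_prime Nat.prime_three).1 hd with e | e
      · exact absurd (Subtype.ext (Subtype.ext (orderOf_eq_one_iff.1 e))) hc1
      · rw [Nat.card_zpowers, Nat.card_zpowers, hāo, e]
    intro p hp
    obtain ⟨gp, rfl⟩ := QuotientGroup.mk'_surjective NN p
    refine hlift gp ?_
    obtain ⟨i, hi⟩ := mem_zpowers_iff.1 (hc3.ge (mem_zpowers ā))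
    rw [← hi]
    exact (hcP ⟨_, hp⟩).zpow_right i
  have hburn : normalizer ((P : Subgroup (↥W ⧸ NN)) : Set (↥W ⧸ NN)) ≤
      centralizer ((P : Subgroup (↥W ⧸ NN)) : Set (↥W ⧸ NN)) := by
    intro g hg
    obtain ⟨gw, rfl⟩ := QuotientGroup.mk'_surjective NN g
    rw [hPeq] at hg ⊢
    have hga : π gw * ā * (π gw)⁻¹ ∈ zpowers ā := (mem_normalizer_iff.1 hg ā).1 (mem_zpowers ā)
    obtain ⟨i, hi⟩ := mem_zpowers_iff.1 hga
    rw [← zpow_mod_orderOf, hāo] at hi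
    have h0 : 0 ≤ i % (3 : ℕ) := Int.emod_nonneg _ (by norm_num)
    have h3 : i % (3 : ℕ) < 3 := Int.emod_lt_of_pos _ (by norm_num)
    obtain e | e | e : i % (3 : ℕ) = 0 ∨ i % (3 : ℕ) = 1 ∨ i % (3 : ℕ) = 2 := by omega
    · rw [e, zpow_zero] at hi
      exact absurd (conj_eq_one_iff.1 hi.symm) hā1
    · rw [e, zpow_one] at hi
      refine mem_centralizer_iff.2 fun k hk => ?_
      obtain ⟨n, rfl⟩ := mem_zpowers_iff.1 hk
      exact ((show Commute (π gw) ā from (mul_inv_eq_iff_eq_mul.1 hi.symm)).zpow_right n).eq.symm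
    · exfalso
      rw [e] at hi
      have e1 : π (aW * (gw * aW * gw⁻¹)) = 1 := by
        rw [map_mul, map_mul, map_mul, map_inv, ← hi, ← hā, zpow_two, ← mul_assoc, ← pow_two, ← pow_succ, hā3]
      have hmem := mem_subgroupOf.1 ((QuotientGroup.eq_one_iff _).1 e1)
      exact S.no_inverter hno8 gw.2 hmem (by
        show (gw : G) * a₀ * (gw : G)⁻¹ = a₀⁻¹ * (a₀ * ((gw : G) * a₀ * (gw : G)⁻¹))
        group)
  set K := (MonoidHom.transferSylow P hburn).ker with hK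
  have hKc := MonoidHom.ker_transferSylow_isComplement' P hburn
  have hKnd := MonoidHom.not_dvd_card_ker_transferSylow P hburn
  haveI : K.Normal := inferInstance
  set N₀ := (K.comap π).map W.subtype with hN
  have hmemN : ∀ {g : G} (hg : g ∈ W), (g ∈ N₀ ↔ π ⟨g, hg⟩ ∈ K) := fun {g} hg =>
    ⟨fun ⟨k, hk, e⟩ => by rwa [show (⟨g, hg⟩ : W) = k from Subtype.ext e.symm],
      fun h => ⟨⟨g, hg⟩, h, rfl⟩⟩
  refine ⟨N₀, map_subtype_le _, fun n hn => (hmemN (S.Nv_le hn)).2 ?_, fun h3 => ?_, fun g hg => ?_,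
    fun g hg p hp => ?_⟩
  · rw [show π ⟨n, S.Nv_le hn⟩ = 1 from (QuotientGroup.eq_one_iff _).2 (mem_subgroupOf.2 hn)]
    exact one_mem K
  · obtain ⟨⟨p, hp⟩, hpo⟩ := exists_prime_orderOf_dvd_card' (G := N₀) 3 h3
    rw [orderOf_mk] at hpo
    have hpW : p ∈ W := map_subtype_le _ hp
    have hp3 : p ^ 3 = 1 := hpo ▸ pow_orderOf_eq_one p
    have hπp : π ⟨p, hpW⟩ = 1 := by
      by_contra hne
      refine hKnd ?_
      have ho : orderOf (π ⟨p, hpW⟩) = 3 := orderOf_eq_prime (by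
        rw [← map_pow, show (⟨p, hpW⟩ : W) ^ 3 = 1 from Subtype.ext hp3, map_one]) hne
      have hd := Subgroup.orderOf_dvd_natCard _ ((hmemN hpW).1 hp)
      rwa [ho] at hd
    have e1 : p = 1 := S.Nv_three (mem_subgroupOf.1 ((QuotientGroup.eq_one_iff _).1 hπp)) hp3
    rw [e1, orderOf_one] at hpo
    omega
  · obtain ⟨⟨⟨k, hk⟩, ⟨q, hq⟩⟩, e⟩ := (hKc.existsUnique (π ⟨g, hg⟩)).exists
    simp only at e
    have hq' : q ∈ zpowers ā := hPeq ▸ hq
    obtain ⟨i, rfl⟩ := mem_zpowers_iff.1 hq'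
    refine ⟨-i, (hmemN (mul_mem hg (zpow_mem S.a_mem _))).2 ?_⟩
    rw [show (⟨g * a₀ ^ (-i), mul_mem hg (zpow_mem S.a_mem _)⟩ : W) = ⟨g, hg⟩ * aW ^ (-i) from Subtype.ext (by
      push_cast; rfl), map_mul, map_zpow, ← e, ← hā, zpow_neg, mul_inv_cancel_right]
    exact hk
  · have hpW : p ∈ W := map_subtype_le _ hp
    refine (hmemN (mul_mem (mul_mem hg hpW) (inv_mem hg))).2 ?_
    rw [show (⟨g * p * g⁻¹, mul_mem (mul_mem hg hpW) (inv_mem hg)⟩ : W) = ⟨g, hg⟩ * ⟨p, hpW⟩ * ⟨g, hg⟩⁻¹ from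
      Subtype.ext (by push_cast; rfl), map_mul, map_mul, map_inv]
    exact (inferInstance : K.Normal).conj_mem _ ((hmemN hpW).1 hp) _

omit hno8 in
/-- Fixing modulo the four-group means fixing, for elements of order three centralising the four-group. -/
theorem fix_three {e p : G} (he : e ^ 3 = 1) (heU : ∀ u ∈ U, Commute e u)
    (h : (e * p * e⁻¹)⁻¹ * p ∈ U) : Commute p e := by
  set d := (e * p * e⁻¹)⁻¹ * p with hd
  have h1 : e * p * e⁻¹ = p * d⁻¹ := by rw [hd]; group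
  have h2 : e * d⁻¹ * e⁻¹ = d⁻¹ := by rw [(heU d h).inv_right.eq, mul_inv_cancel_right]
  have h3 : p = p * d⁻¹ * d⁻¹ * d⁻¹ := by
    calc p = e ^ 3 * p * (e ^ 3)⁻¹ := by rw [he]; group
      _ = e * (e * (e * p * e⁻¹) * e⁻¹) * e⁻¹ := (conj_three e p).symm
      _ = p * d⁻¹ * d⁻¹ * d⁻¹ := by
        rw [h1, show e * (p * d⁻¹) * e⁻¹ = (e * p * e⁻¹) * (e * d⁻¹ * e⁻¹) by group, h1, h2,
          show e * (p * d⁻¹ * d⁻¹) * e⁻¹ = (e * p * e⁻¹) * (e * d⁻¹ * e⁻¹) * (e * d⁻¹ * e⁻¹) by group, h1, h2]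
  have h4 : d⁻¹ = 1 := by
    rw [mul_assoc, mul_assoc, S.sq _ (inv_mem h), mul_one] at h3
    exact mul_eq_left.1 h3.symm
  rw [h4, mul_one] at h1
  exact (mul_inv_eq_iff_eq_mul.1 h1).symm

/-- An invariant 2-subgroup containing the four-group is the four-group. -/
theorem two_sylow {P : Subgroup G} (hPW : P ≤ S.W₀) (hP : IsPGroup 2 P) (hUP : U ≤ P)
    (hy : ∀ p ∈ P, y * p * y⁻¹ ∈ P) (ha : ∀ p ∈ P, a₀ * p * a₀⁻¹ ∈ P) : P ≤ U := by
  classical
  by_contra hcon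
  set UU := U.subgroupOf P with hUU
  haveI : UU.Normal := ⟨fun n hn g => by
    refine mem_subgroupOf.2 ?_
    push_cast
    rw [((S.mem_W₀.1 (hPW g.2)).2 _ (mem_subgroupOf.1 hn)).eq, mul_inv_cancel_right]
    exact mem_subgroupOf.1 hn⟩
  let aH : P →* P := MonoidHom.mk' (fun p => ⟨a₀ * p * a₀⁻¹, ha p p.2⟩) fun p q => Subtype.ext (by push_cast; group)
  let yH : P →* P := MonoidHom.mk' (fun p => ⟨y * p * y⁻¹, hy p p.2⟩) fun p q => Subtype.ext (by push_cast; group)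
  have haU : ∀ u ∈ U, Commute a₀ u := fun u hu => (S.comm_a u hu).symm
  have hyU : ∀ u ∈ U, Commute y u := fun u hu => (S.y_fix u hu).symm
  let α : ↥P ⧸ UU →* ↥P ⧸ UU := QuotientGroup.map UU UU aH fun p hp => mem_subgroupOf.2 (by
    show a₀ * (p : G) * a₀⁻¹ ∈ U
    rw [(haU _ (mem_subgroupOf.1 hp)).eq, mul_inv_cancel_right]
    exact mem_subgroupOf.1 hp)
  let η : ↥P ⧸ UU →* ↥P ⧸ UU := QuotientGroup.map UU UU yH fun p hp => mem_subgroupOf.2 (by
    show y * (p : G) * y⁻¹ ∈ U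
    rw [(hyU _ (mem_subgroupOf.1 hp)).eq, mul_inv_cancel_right]
    exact mem_subgroupOf.1 hp)
  haveI : Nontrivial (↥P ⧸ UU) := by
    obtain ⟨g, hg, hgU⟩ := Set.not_subset.1 hcon
    exact ⟨⟨((⟨g, hg⟩ : P) : ↥P ⧸ UU), 1, fun e => hgU (mem_subgroupOf.1 ((QuotientGroup.eq_one_iff _).1 e))⟩⟩
  have hα : ∀ q, α (α (α q)) = q := fun q => QuotientGroup.induction_on q fun p => by
    show ((aH (aH (aH p)) : P) : ↥P ⧸ UU) = (p : ↥P ⧸ UU)
    congr 1
    refine Subtype.ext ?_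
    show a₀ * (a₀ * (a₀ * (p : G) * a₀⁻¹) * a₀⁻¹) * a₀⁻¹ = p
    calc a₀ * (a₀ * (a₀ * (p : G) * a₀⁻¹) * a₀⁻¹) * a₀⁻¹ = a₀ ^ 3 * p * (a₀ ^ 3)⁻¹ := conj_three _ _
      _ = p := by rw [S.a3]; group
  have hη : ∀ q, η (η (η q)) = q := fun q => QuotientGroup.induction_on q fun p => by
    show ((yH (yH (yH p)) : P) : ↥P ⧸ UU) = (p : ↥P ⧸ UU)
    congr 1
    exact Subtype.ext (S.y_three p)
  have hc : ∀ q, α (η q) = η (α q) := fun q => QuotientGroup.induction_on q fun p => by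
    show ((aH (yH p) : P) : ↥P ⧸ UU) = ((yH (aH p) : P) : ↥P ⧸ UU)
    congr 1
    refine Subtype.ext ?_
    show a₀ * (y * (p : G) * y⁻¹) * a₀⁻¹ = y * (a₀ * p * a₀⁻¹) * y⁻¹
    rw [show a₀ * (y * (p : G) * y⁻¹) * a₀⁻¹ = (a₀ * y) * p * (a₀ * y)⁻¹ by group, ← S.ya.eq]
    group
  have htwo : ∀ p : P, ∀ i : ℤ, ∀ n ∈ S.Nv, (p : G) = a₀ ^ i * n → (p : G) ∈ U := by
    intro p i n hn e
    obtain ⟨k, hk⟩ := hP p
    have hk' : (p : G) ^ 2 ^ k = 1 := by exact_mod_cast congrArg Subtype.val hk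
    rw [e, ((S.Nv_central S.a_mem hn).zpow_left i).mul_pow] at hk'
    have h1 : (a₀ ^ i) ^ 2 ^ k = 1 := by
      refine S.Nv_three ?_ (by rw [← pow_mul, mul_comm, pow_mul, S.zpow_three, one_pow])
      rw [eq_inv_of_mul_eq_one_left hk']
      exact inv_mem (pow_mem hn _)
    rw [S.eq_one_of_two_power h1 (S.zpow_three i), one_mul] at e
    obtain ⟨u, hu, j, rfl⟩ := hn
    have hvP : v ^ j ∈ P := by
      have h2 := mul_mem (inv_mem (hUP hu)) p.2
      rwa [e, inv_mul_cancel_left] at h2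
    obtain ⟨m, hm⟩ := hP ⟨_, hvP⟩
    have hm' : (v ^ j) ^ 2 ^ m = 1 := congrArg Subtype.val hm
    have hj : v ^ j = 1 := orderOf_eq_one_iff.1 (Nat.dvd_one.1
      ((Nat.dvd_gcd (orderOf_dvd_of_pow_eq_one hm') (orderOf_dvd_of_pow_eq_one (S.zpow_seven j))).trans
        (by rw [(Nat.Coprime.pow_left m (by norm_num : Nat.Coprime 2 7)).gcd_eq_one])))
    rw [e, hj, mul_one]
    exact hu
  have hf : ∀ q, α q = q → q = 1 := fun q => QuotientGroup.induction_on q fun p hp => by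
    have hmem : (a₀ * (p : G) * a₀⁻¹)⁻¹ * p ∈ U := mem_subgroupOf.1 (QuotientGroup.eq.1 hp)
    obtain ⟨i, n, hn, e⟩ := S.cent_a (hPW p.2) (S.fix_three S.a3 haU hmem)
    exact (QuotientGroup.eq_one_iff _).2 (mem_subgroupOf.2 (htwo p i n hn e))
  obtain ⟨q, hq1, hqq, hq⟩ := exists_fixed (hP.to_quotient UU) hα hη hc hf
  obtain ⟨p, rfl⟩ := QuotientGroup.mk_surjective q
  have hpU : (p : G) ∉ U := fun h => hq1 ((QuotientGroup.eq_one_iff _).2 (mem_subgroupOf.2 h))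
  have hpp : (p : G) * p ∈ U := by
    rw [← QuotientGroup.mk_mul, QuotientGroup.eq_one_iff] at hqq
    exact mem_subgroupOf.1 hqq
  have key : ∀ j : ℕ, (y * a₀ ^ j * (p : G) * (y * a₀ ^ j)⁻¹)⁻¹ * p ∈ U → False := fun j h =>
    S.no_fixed hno8 (hPW p.2) hpp hpU (j := j) (by
      rw [zpow_natCast]
      refine S.fix_three ?_ (fun u hu => (hyU u hu).mul_left ((haU u hu).pow_left j)) h
      rw [(S.ya.pow_right j).mul_pow, S.y3, one_mul, ← pow_mul, mul_comm, pow_mul, S.a3, one_pow])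
  rcases hq with e | e | e
  · refine key 0 ?_
    have h : (y * (p : G) * y⁻¹)⁻¹ * p ∈ U := mem_subgroupOf.1 (QuotientGroup.eq.1 e)
    rwa [pow_zero, mul_one]
  · refine key 1 ?_
    have h : (y * (a₀ * (p : G) * a₀⁻¹) * y⁻¹)⁻¹ * p ∈ U := mem_subgroupOf.1 (QuotientGroup.eq.1 e)
    rwa [show y * a₀ ^ 1 * (p : G) * (y * a₀ ^ 1)⁻¹ = y * (a₀ * p * a₀⁻¹) * y⁻¹ by group]
  · refine key 2 ?_
    have h : (y * (a₀ * (a₀ * (p : G) * a₀⁻¹) * a₀⁻¹) * y⁻¹)⁻¹ * p ∈ U := mem_subgroupOf.1 (QuotientGroup.eq.1 e)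
    rwa [show y * a₀ ^ 2 * (p : G) * (y * a₀ ^ 2)⁻¹ = y * (a₀ * (a₀ * p * a₀⁻¹) * a₀⁻¹) * y⁻¹ by rw [pow_two]; group]

/-- The 2-elements of the centraliser lie in the four-group; no element of order three commutes with the
involution. -/
theorem core_facts : (∀ g ∈ S.W₀, ∀ k : ℕ, g ^ 2 ^ k = 1 → g ∈ U) ∧
    ∀ g ∈ S.W₀, g ^ 3 = 1 → Commute g t₀ → g = 1 := by
  classical
  haveI : Fact (Nat.Prime 2) := ⟨Nat.prime_two⟩
  obtain ⟨N₀, hNW, hNvN, h3N, hdec, hconj⟩ := S.exists_compl hno8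
  have hcop : ∀ g ∈ N₀, g ^ 3 = 1 → g = 1 := fun g hg h3 => by
    have h1 := orderOf_dvd_natCard _ hg
    rcases (Nat.dvd_prime Nat.prime_three).1 (orderOf_dvd_of_pow_eq_one h3) with e | e
    · exact orderOf_eq_one_iff.1 e
    · exact absurd (e ▸ h1) h3N
  have hchar : ∀ g ∈ S.W₀, (orderOf g).Coprime 3 → g ∈ N₀ := by
    intro g hg hco
    obtain ⟨i, hi⟩ := hdec g hg
    obtain ⟨m, hm⟩ : ∃ m : ℕ, orderOf g ∣ m ∧ m % 3 = 1 := by
      have : orderOf g % 3 = 1 ∨ orderOf g % 3 = 2 := by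
        have h0 : ¬ 3 ∣ orderOf g := fun h => by
          have := Nat.dvd_gcd h (dvd_refl 3)
          rw [hco.gcd_eq_one] at this
          omega
        omega
      rcases this with e | e
      · exact ⟨_, dvd_rfl, e⟩
      · exact ⟨orderOf g * 2, Dvd.intro _ rfl, by omega⟩
    -- the power of the product is the power of the element of order three
    have hkey : ∀ n : ℕ, (g * a₀ ^ i) ^ n * a₀ ^ (-(i * n)) ∈ N₀ → g ^ n ∈ N₀ →
        a₀ ^ (i * n) ∈ N₀ := fun n h1 h2 => by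
      have h3 := mul_mem (inv_mem h1) (pow_mem hi n)
      rw [mul_inv_rev, zpow_neg, inv_inv, inv_mul_cancel_right] at h3
      exact h3
    have hnorm : ∀ p ∈ N₀, ∀ k : ℤ, a₀ ^ k * p * (a₀ ^ k)⁻¹ ∈ N₀ := fun p hp k =>
      hconj _ (zpow_mem S.a_mem k) p hp
    have hpow : ∀ n : ℕ, g ^ n * a₀ ^ (i * n) ∈ N₀ := by
      intro n
      induction n with
      | zero => simp
      | succ n ih =>
        have h1 := mul_mem ih (hnorm _ hi (-(i * n)))
        convert h1 using 1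
        push_cast
        rw [mul_add, mul_one]
        group
    obtain ⟨hm1, hm2⟩ := hm
    have h4 := hpow m
    rw [orderOf_dvd_iff_pow_eq_one.1 hm1, one_mul] at h4
    have h5 : a₀ ^ (i * m) = 1 := hcop _ h4 (S.zpow_three _)
    have h6 : a₀ ^ i = 1 := by
      have e : i * (m : ℤ) = i + ((3 : ℕ) : ℤ) * (i * (((m / 3 : ℕ)) : ℤ)) := by
        conv_lhs => rw [show m = 1 + 3 * (m / 3) by omega]
        push_cast; ring
      rwa [e, zpow_add, zpow_mul a₀ ((3 : ℕ) : ℤ), zpow_natCast, S.a3, one_zpow, mul_one] at h5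
    rwa [h6, mul_one] at hi
  refine ⟨?_, fun g hg h3 hgt => ?_⟩
  swap
  · obtain ⟨i, hi⟩ := hdec g hg
    have ht' : t₀ * (g * a₀ ^ i) * t₀⁻¹ = g * a₀ ^ (-i) := by
      rw [show t₀ * (g * a₀ ^ i) * t₀⁻¹ = (t₀ * g * t₀⁻¹) * (t₀ * a₀ ^ i * t₀⁻¹) by group, hgt.symm.eq,
        mul_inv_cancel_right, ← conj_zpow, S.tinv, inv_zpow, zpow_neg]
    have htU : ∀ u ∈ U, t₀⁻¹ * u * t₀ ∈ U := fun u hu => by
      have h1 := S.t_norm hu
      rwa [show t₀⁻¹ = t₀ from inv_eq_of_mul_eq_one_right S.t2] at h1 ⊢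
    have hWt : t₀ * (g * a₀ ^ i) * t₀⁻¹ ∈ S.W₀ :=
      S.norm_W₀ (n := 1) (by rw [pow_one, ← S.vt.eq, mul_inv_cancel_right]) (by norm_num) htU (hNW hi)
    have h2 : g * a₀ ^ (-i) ∈ N₀ := ht' ▸ hchar _ hWt (by
      rw [CfsgLib.Invol.orderOf_conj_eq]
      exact ((Nat.prime_three.coprime_iff_not_dvd).2 fun h => h3N (h.trans (orderOf_dvd_natCard _ hi))).symm)
    have h4 := mul_mem (inv_mem h2) hi
    rw [show (g * a₀ ^ (-i))⁻¹ * (g * a₀ ^ i) = a₀ ^ (2 * i) by group] at h4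
    have h5 : a₀ ^ (2 * i) = 1 := hcop _ h4 (S.zpow_three _)
    have h6 : a₀ ^ i = 1 := by
      have h7 := S.zpow_three i
      rw [show (a₀ ^ i) ^ 3 = a₀ ^ (2 * i) * a₀ ^ i by
        rw [← zpow_natCast, ← zpow_mul, ← zpow_add]; ring_nf, h5, one_mul] at h7
      exact h7
    rw [h6, mul_one] at hi
    exact hcop g hi h3
  intro g hg k hk
  have hgN : g ∈ N₀ := hchar g hg ((Nat.Coprime.pow_left k (by norm_num : Nat.Coprime 2 3)).coprime_dvd_left
    (orderOf_dvd_of_pow_eq_one hk))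
  -- a Sylow subgroup invariant under the two elements
  have hyinv : ∀ u ∈ U, y⁻¹ * u * y ∈ U := fun u hu => by
    rw [show y⁻¹ * u * y = y⁻¹ * (u * y) by group, (S.y_fix u hu).eq, inv_mul_cancel_left]
    exact hu
  have hyN : ∀ p ∈ N₀, y * p * y⁻¹ ∈ N₀ := fun p hp => by
    refine hchar _ (S.norm_W₀ S.yv (by norm_num) hyinv (hNW hp)) ?_
    rw [CfsgLib.Invol.orderOf_conj_eq]
    exact ((Nat.prime_three.coprime_iff_not_dvd).2 fun h => h3N (h.trans (orderOf_dvd_natCard _ hp))).symm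
  let E : Subgroup G :=
    { carrier := {g | ∃ i j : ℤ, g = y ^ i * a₀ ^ j}
      one_mem' := ⟨0, 0, by simp⟩
      mul_mem' := by
        rintro _ _ ⟨i, j, rfl⟩ ⟨i', j', rfl⟩
        refine ⟨i + i', j + j', ?_⟩
        rw [show y ^ i * a₀ ^ j * (y ^ i' * a₀ ^ j') = y ^ i * (a₀ ^ j * y ^ i') * a₀ ^ j' by group,
          ← (S.ya.zpow_zpow i' j).eq, zpow_add, zpow_add]
        group
      inv_mem' := by
        rintro _ ⟨i, j, rfl⟩
        refine ⟨-i, -j, ?_⟩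
        rw [mul_inv_rev, ← zpow_neg, ← zpow_neg, (S.ya.zpow_zpow (-i) (-j)).eq] }
  have hEnorm : ∀ {X : Subgroup G}, (∀ p ∈ X, y * p * y⁻¹ ∈ X) → (∀ p ∈ X, a₀ * p * a₀⁻¹ ∈ X) →
      E ≤ normalizer (X : Set G) := by
    intro X h1 h2
    have key : ∀ s : G, (∀ p ∈ X, s * p * s⁻¹ ∈ X) → s ^ 3 = 1 → s ∈ normalizer (X : Set G) := fun s hs h3 =>
      mem_normalizer_iff.2 fun p => ⟨hs p, fun hp => by
        have := hs _ (hs _ hp)
        rwa [conj_three, h3, inv_one, mul_one,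
          one_mul] at this⟩
    rintro _ ⟨i, j, rfl⟩
    exact mul_mem (zpow_mem (key y h1 S.y3) i) (zpow_mem (key a₀ h2 S.a3) j)
  haveI : Fact (Nat.Prime 3) := ⟨Nat.prime_three⟩
  have hEp : IsPGroup 3 E := fun e => ⟨1, Subtype.ext (by
    obtain ⟨i, j, he⟩ := e.2
    show (e : G) ^ (3 ^ 1) = 1
    have hy3 : (y ^ i) ^ 3 = 1 := by
      rw [← zpow_natCast, ← zpow_mul, mul_comm, zpow_mul, zpow_natCast, S.y3, one_zpow]
    rw [he, pow_one, (S.ya.zpow_zpow i j).mul_pow, hy3, S.zpow_three, one_mul])⟩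
  have hcopE : (Nat.card E).Coprime (Nat.card N₀) := by
    obtain ⟨n, hn⟩ := IsPGroup.iff_card.1 hEp
    rw [hn]
    exact Nat.Coprime.pow_left n (Nat.prime_three.coprime_iff_not_dvd.2 h3N)
  haveI : Group.IsNilpotent E := hEp.isNilpotent
  obtain ⟨P, hUP, hPE⟩ := CfsgLib.CoprimeAct.exists_invariant_sylow_ge
    (hEnorm hyN (hconj a₀ S.a_mem)) hcopE (Or.inl inferInstance) 2 (U := U) (fun u hu => hNvN (S.U_le_Nv hu))
    (IsPGroup.of_card (n := 2) (by rw [S.card]; norm_num))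
    (hEnorm (fun p hp => S.y_norm hp) fun p hp => by
      rw [(S.comm_a p hp).symm.eq, mul_inv_cancel_right]
      exact hp)
  have hPU : (P : Subgroup N₀).map N₀.subtype ≤ U :=
    S.two_sylow hno8 ((map_subtype_le _).trans hNW) (P.2.map _) hUP
      (fun p hp => (mem_normalizer_iff.1 (hPE (⟨1, 0, by simp⟩ : y ∈ E)) p).1 hp)
      (fun p hp => (mem_normalizer_iff.1 (hPE (⟨0, 1, by simp⟩ : a₀ ∈ E)) p).1 hp)
  obtain ⟨m, -, hm⟩ := (Nat.dvd_prime_pow Nat.prime_two).1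
    (orderOf_dvd_of_pow_eq_one (show (⟨g, hgN⟩ : N₀) ^ 2 ^ k = 1 from Subtype.ext hk))
  obtain ⟨Q, hQ⟩ := (IsPGroup.of_card (p := 2) (n := m)
    (show Nat.card (zpowers (⟨g, hgN⟩ : N₀)) = 2 ^ m by rw [Nat.card_zpowers, hm])).exists_le_sylow
  obtain ⟨c, hc⟩ := MulAction.exists_smul_eq N₀ P Q
  have hgQ : (⟨g, hgN⟩ : N₀) ∈ MulAut.conj c • (P : Subgroup N₀) := by
    rw [← Sylow.coe_subgroup_smul]
    exact hc ▸ hQ (mem_zpowers _)
  rw [mem_pointwise_smul_iff_inv_smul_mem, ← map_inv, MulAut.smul_def, MulAut.conj_apply] at hgQ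
  set d := c⁻¹ * (⟨g, hgN⟩ : N₀) * c⁻¹⁻¹ with hd
  have hdU : (d : G) ∈ U := hPU ⟨d, hgQ, rfl⟩
  have hgd : g = (c : G) * d * (c : G)⁻¹ := by rw [hd]; push_cast; group
  rw [hgd, ((S.mem_W₀.1 (hNW c.2)).2 _ hdU).eq, mul_inv_cancel_right]
  exact hdU

end Sev

end CfsgLib.Co1Loc.Seven
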