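import Cfsg.Agent.Co1Loc.NineFacts

/-!
Permutations of nine points: a three-cycle on the first five points, the involution inverting it and their
common centraliser.
-/

set_option autoImplicit false
set_option maxRecDepth 100000
set_option synthInstance.maxSize 4096
set_option linter.style.haveILetI false
set_option linter.unusedSectionVars false

namespace CfsgLib.Co1Loc.Seven

open Equiv Equiv.Perm

/-- An element of order three fixing the first five points is a three-cycle. -/
theorem three_high : ∀ ρ : Perm (Fin 4), ρ * ρ * ρ = 1 → ρ ≠ 1 →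
    (NineW.j54 (1, ρ)).support.card = 3 := by decide +kernel

/-- The three-cycle and the involution inverting it. -/
def pA : ↥(alternatingGroup (Fin 9)) := ⟨swap 0 1 * swap 1 2, Equiv.Perm.mem_alternatingGroup.2 (by decide +kernel)⟩

/-- The inverting involution. -/
def pT : ↥(alternatingGroup (Fin 9)) := ⟨swap 1 2 * swap 3 4, Equiv.Perm.mem_alternatingGroup.2 (by decide +kernel)⟩

theorem pA_facts : pA * pA * pA = 1 ∧ pA ≠ 1 ∧ pT * pT = 1 ∧ pT ≠ 1 ∧ pT * pA * pT⁻¹ = pA⁻¹ ∧
    (pA : Perm (Fin 9)).support.card = 3 ∧ ((pA⁻¹ : ↥(alternatingGroup (Fin 9))) : Perm (Fin 9)).support.card = 3 ∧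
    (∀ i : Fin 9, 5 ≤ i → (pA : Perm (Fin 9)) i = i) ∧ ∀ i : Fin 9, 5 ≤ i → (pT : Perm (Fin 9)) i = i := by
  decide +kernel

theorem fix_two : ∀ σ : Perm (Fin 5), σ ^ 9 = 1 →
    σ * (swap 0 1 * swap 1 2) = swap 0 1 * swap 1 2 * σ →
    σ * (swap 1 2 * swap 3 4) = swap 1 2 * swap 3 4 * σ → σ = 1 := by decide +kernel

theorem pA_split : (pA : Perm (Fin 9)) = NineW.j54 (swap 0 1 * swap 1 2, 1) ∧
    (pT : Perm (Fin 9)) = NineW.j54 (swap 1 2 * swap 3 4, 1) := by decide +kernel

theorem low_moves : ∀ i : Fin 9, i < 5 →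
    (∀ j : Fin 9, (pA : Perm (Fin 9)) j = j → (pT : Perm (Fin 9)) j = j → 5 ≤ j) := by decide +kernel

/-- An element of three-power order commuting with the pair lies on the last four points. -/
theorem comm_pair {p : ↥(alternatingGroup (Fin 9))} (h9 : p ^ 9 = 1) (hA : p * pA = pA * p)
    (hT : p * pT = pT * p) : ∀ i : Fin 9, i < 5 → (p : Perm (Fin 9)) i = i := by
  obtain ⟨⟨σ, ρ⟩, hp⟩ := NineW.mem_j54 (q := (p : Perm (Fin 9))) fun i hi => by
    refine not_le.1 fun hge => ?_
    obtain ⟨-, -, -, -, -, -, -, fA, fT⟩ := pA_facts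
    have h1 := Equiv.ext_iff.1 (congrArg Subtype.val hA) i
    have h2 := Equiv.ext_iff.1 (congrArg Subtype.val hT) i
    simp only [Subgroup.coe_mul, Equiv.Perm.mul_apply] at h1 h2
    rw [fA _ hge] at h1
    rw [fT _ hge] at h2
    exact absurd (low_moves i hi i ((p : Perm (Fin 9)).injective h1) ((p : Perm (Fin 9)).injective h2)) (not_le.2 hi)
  have e3 := congrArg Subtype.val h9
  have eA := congrArg Subtype.val hA
  have eT := congrArg Subtype.val hT
  simp only [Subgroup.coe_mul, SubgroupClass.coe_pow, Subgroup.coe_one, hp, pA_split.1, pA_split.2, ← map_mul,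
    ← map_pow] at e3 eA eT
  have g3 : σ ^ 9 = 1 := congrArg Prod.fst (NineW.j54_inj (e3.trans (map_one _).symm))
  have gA := congrArg Prod.fst (NineW.j54_inj eA)
  have gT := congrArg Prod.fst (NineW.j54_inj eT)
  have hσ : σ = 1 := fix_two σ g3 gA gT
  intro i hi
  rw [hp, hσ]
  exact NineW.j54_fix_low ρ i hi

end CfsgLib.Co1Loc.Seven
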