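import Cfsg.Agent.Co1Loc.Defs
import Cfsg.Agent.Co1Loc.SevenPair
import Cfsg.Agent.Co1Suz.Main
import Cfsg.Agent.S5383

/-!
The centraliser of the elements of order seven and three: an alternating group of degree four over a cyclic
centre, its four-group and the element of order three of the normaliser centralising it.
-/

set_option autoImplicit false
set_option maxRecDepth 100000
set_option synthInstance.maxSize 4096
set_option linter.style.haveILetI false
set_option linter.unusedSectionVars false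

namespace CfsgLib.Co1Loc.Seven

open CfsgLib CfsgLib.Quad CfsgLib.Co1Invol CfsgLib.Co1Five Subgroup

variable {G : Type*} [Group G] [Finite G] {z : G}

/-! ### Facts on small groups -/

theorem small_three : ∀ τ : Equiv.Perm (Fin 5), τ * τ * τ = 1 → τ ≠ 1 →
    (((Finset.univ : Finset M8).image fun m => iotaFun ((1 : Equiv.Perm (Fin 5)), τ) m + m)).card ≤ 4 := by
  decide +kernel

theorem a4_center : ∀ p : ↥(alternatingGroup (Fin 4)), (∀ q, p * q = q * p) → p = 1 := by decide +kernel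

theorem a4_invol : ∀ p q : ↥(alternatingGroup (Fin 4)), p * p = 1 → q * q = 1 →
    p * q = q * p ∧ p * q * (p * q) = 1 := by decide +kernel

theorem a4_two : ∀ p : ↥(alternatingGroup (Fin 4)), p ^ 4 = 1 → p * p = 1 := by decide +kernel

theorem a4_four : (Finset.univ.filter fun p : ↥(alternatingGroup (Fin 4)) => p * p = 1).card = 4 := by decide +kernel

theorem a4_trans : ∀ u q : ↥(alternatingGroup (Fin 4)), u * u = 1 → u ≠ 1 → q * q = 1 → q ≠ 1 →
    ∃ p, p * p * p = 1 ∧ p * u * p⁻¹ = q := by decide +kernel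

theorem a4_fpf : ∃ p : ↥(alternatingGroup (Fin 4)), p * p * p = 1 ∧ p ≠ 1 ∧
    ∀ u, u * u = 1 → u ≠ 1 → p * u * p⁻¹ ≠ u := by decide +kernel

theorem a4_cent : ∀ p : ↥(alternatingGroup (Fin 4)), (∀ u, u * u = 1 → p * u = u * p) → p * p = 1 := by
  decide +kernel

theorem a4_same : ∀ p q : ↥(alternatingGroup (Fin 4)), p ^ 9 = 1 → q ^ 9 = 1 → p ≠ 1 →
    (∀ u, u * u = 1 → p * u * p⁻¹ = q * u * q⁻¹) → ∃ u, u * u = 1 ∧ q = u * p * u := by decide +kernel

theorem a4_move : ∀ p u : ↥(alternatingGroup (Fin 4)), p ^ 9 = 1 → p ≠ 1 → u * u = 1 → u * p * u = p → u = 1 := by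
  decide +kernel

theorem a4_nine : ∀ p : ↥(alternatingGroup (Fin 4)), p ^ 9 = 1 → p * p * p = 1 := by decide +kernel

/-! ### The complement in the model -/

variable {b x w r r' a u v y c t : G} {f : ↥(alternatingGroup (Fin 9)) →* G} {D : Dat z}

/-- The even permutations of the first five points give the complement. -/
theorem low_mem (N : Nine c t w a r (compl b x) f)
    (hK : Nonempty (↥(compl b x) ≃* ↥(alternatingGroup (Fin 5)))) {p : ↥(alternatingGroup (Fin 9))}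
    (h : ∀ i : Fin 9, 5 ≤ i → (p : Equiv.Perm (Fin 9)) i = i) : f p ∈ compl b x := by
  classical
  let j : ↥(alternatingGroup (Fin 5)) →* ↥(alternatingGroup (Fin 9)) :=
    (NineW.j54.comp ((MonoidHom.inl (Equiv.Perm (Fin 5)) (Equiv.Perm (Fin 4))).comp (alternatingGroup (Fin 5)).subtype)).codRestrict
      (alternatingGroup (Fin 9)) fun σ => Equiv.Perm.mem_alternatingGroup.2 (by
        show Equiv.Perm.sign (NineW.j54 ((σ : Equiv.Perm (Fin 5)), 1)) = 1
        rw [NineW.sign_j54, Equiv.Perm.mem_alternatingGroup.1 σ.2]; simp)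
  have hj : ∀ σ, ((j σ : ↥(alternatingGroup (Fin 9))) : Equiv.Perm (Fin 9)) = NineW.j54 ((σ : Equiv.Perm (Fin 5)), 1) :=
    fun σ => rfl
  have hlift : ∀ q : ↥(alternatingGroup (Fin 9)), (∀ i : Fin 9, 5 ≤ i → (q : Equiv.Perm (Fin 9)) i = i) →
      ∃ σ, j σ = q := by
    intro q hq
    obtain ⟨⟨σ, ρ⟩, hσ⟩ := NineW.mem_j54 (q := (q : Equiv.Perm (Fin 9))) fun i hi => by
      refine not_le.1 fun hge => ?_
      have h2 := (q : Equiv.Perm (Fin 9)).injective (hq _ hge)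
      rw [h2] at hge
      exact absurd hge (not_le.2 hi)
    have hρ : ρ = 1 := Equiv.ext fun k => by
      have e := hq (Fin.natAdd 5 k) (NineW.castAdd_lt.2 k)
      rw [hσ, (NineW.j54_apply (σ, ρ)).2] at e
      exact Fin.natAdd_injective 4 5 e
    subst hρ
    have hs := Equiv.Perm.mem_alternatingGroup.1 q.2
    rw [hσ, NineW.sign_j54, Equiv.Perm.sign_one, mul_one] at hs
    exact ⟨⟨σ, Equiv.Perm.mem_alternatingGroup.2 hs⟩, Subtype.ext hσ.symm⟩
  obtain ⟨e⟩ := hK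
  have hle : compl b x ≤ (f.comp j).range := fun k hk => by
    obtain ⟨q, hq, hqf⟩ := N.five k hk
    obtain ⟨σ, rfl⟩ := hlift q hqf
    exact ⟨σ, hq⟩
  have hcard : Nat.card ↥((f.comp j).range) ≤ Nat.card ↥(compl b x) := by
    rw [Nat.card_congr e.toEquiv]
    exact Nat.card_le_card_of_surjective _ (f.comp j).rangeRestrict_surjective
  obtain ⟨σ, rfl⟩ := hlift p h
  rw [eq_of_le_of_card_ge hle hcard]
  exact ⟨σ, rfl⟩

/-! ### The centraliser of the two elements -/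

/-- The centraliser of the elements of orders seven and three is alternating of degree four over the two. -/
theorem exists_psi {g₀ : G} (h₀ : g₀ * z * g₀⁻¹ ∈ D.Q) (hne : g₀ * z * g₀⁻¹ ≠ z) {a₀ : G}
    (ha : a₀ ∈ compl b x) (hb : Five D b) (hS : Split D b x) (ha3 : a₀ ^ 3 = 1) (ha1 : a₀ ≠ 1)
    (hv : orderOf v = 7) (hva : Commute v a₀) :
    ∃ ψ : ↥(centralizer ({v} : Set G) ⊓ centralizer ({a₀} : Set G)) →* ↥(alternatingGroup (Fin 4)),
      Function.Surjective ψ ∧ ∀ m, ψ m = 1 ↔ ∃ i j : ℤ, (m : G) = a₀ ^ i * v ^ j := by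
  classical
  haveI : Fact (Nat.Prime 3) := ⟨Nat.prime_three⟩
  haveI : Fact (Nat.Prime 7) := ⟨by norm_num⟩
  have hbK : b ∈ K2 D := Co1Five.mem_K2.2 ⟨hb.C, fun q hq => (hb.mem_Q1 hq.1).2 hq⟩
  have hKle : compl b x ≤ K2 D := (closure_le _).2 (by rintro g (rfl | rfl); exacts [hS.K, hbK])
  have haK := hKle ha
  obtain ⟨τ, -, hτ⟩ := K2_form haK
  have haC := (Co1Five.mem_K2.1 haK).1
  have hτ3 : τ * τ * τ = 1 := by
    have h1 : hact D (a₀ ^ 3) = iota (1, τ) ^ 3 := by rw [Co1Suz.hact_pow' D haC, hτ]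
    rw [ha3, hact_Q (one_mem _), ← map_pow, Prod.pow_mk, one_pow, ← map_one iota] at h1
    have := congrArg Prod.snd (iota_injective h1)
    rw [pow_succ, pow_two] at this
    exact this.symm
  have hτ1 : τ ≠ 1 := by
    intro e
    have hQ : a₀ ∈ D.Q := mem_Q_of_hact haC (by rw [hτ, e]; exact map_one iota)
    have h4 : a₀ ^ 4 = 1 := by
      rcases D.pre.gen.square a₀ hQ with h | h
      · rw [show (4 : ℕ) = 2 * 2 from rfl, pow_mul, pow_two a₀, h, one_pow]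
      · rw [show (4 : ℕ) = 2 * 2 from rfl, pow_mul, pow_two a₀, h, pow_two, D.pre.gen.sq]
    rw [pow_succ, ha3, one_mul] at h4
    exact ha1 h4
  obtain ⟨h, -, T⟩ := Co1Suz.exists_three D haC ha3 ha1 (by rw [hτ]; exact small_three τ hτ3 hτ1)
  set Cx := centralizer ({a₀} : Set G) with hCx
  set X := (zpowers a₀).subgroupOf Cx with hX
  haveI : X.Normal := ⟨fun n hn g => by
    obtain ⟨i, hi⟩ := mem_zpowers_iff.1 (mem_subgroupOf.1 hn)
    refine mem_subgroupOf.2 ?_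
    have hc : Commute (g : G) ((n : G)) := hi ▸
      ((show Commute (g : G) a₀ from mem_centralizer_singleton_iff.1 g.2).zpow_right i)
    push_cast
    rw [hc.eq, mul_inv_cancel_right, ← hi]
    exact zpow_mem (mem_zpowers _) i⟩
  obtain ⟨zY, QY, iN, hz, hF, hQ, hcard, ⟨eY⟩, hnwc⟩ := T.setting Cx (fun g => mem_centralizer_singleton_iff) X
    (fun g => mem_subgroupOf) (g₀ := g₀) h₀ hne
  haveI := iN
  have ha7 : ∀ g ∈ zpowers a₀, g ^ 7 = 1 → g = 1 := by
    intro g hg h7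
    refine orderOf_eq_one_iff.1 (Nat.dvd_one.1 ?_)
    have h1 : orderOf g ∣ 3 := by
      have := Subgroup.orderOf_dvd_natCard _ hg
      rwa [Nat.card_zpowers, orderOf_eq_prime ha3 ha1] at this
    exact (Nat.dvd_gcd h1 (orderOf_dvd_of_pow_eq_one h7)).trans (by norm_num)
  have hvC : v ∈ Cx := mem_centralizer_singleton_iff.2 hva.eq
  set vY : ↥Cx ⧸ X := QuotientGroup.mk' X ⟨v, hvC⟩ with hvY
  have hvY1 : vY ≠ 1 := fun e => by
    have h1 := ha7 v (mem_subgroupOf.1 ((QuotientGroup.eq_one_iff (⟨v, hvC⟩ : ↥Cx)).1 e))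
      (by rw [← hv, pow_orderOf_eq_one])
    rw [h1, orderOf_one] at hv
    norm_num at hv
  have hvYo : orderOf vY = 7 := orderOf_eq_prime (by
    rw [hvY, ← map_pow, show (⟨v, hvC⟩ : ↥Cx) ^ 7 = 1 from Subtype.ext (by
      show v ^ 7 = 1
      rw [← hv, pow_orderOf_eq_one]), map_one]) hvY1
  obtain ⟨B, hB⟩ := (IsPGroup.of_card (p := 7) (n := 1)
    (show Nat.card (zpowers vY) = 7 ^ 1 by rw [Nat.card_zpowers, hvYo, pow_one])).exists_le_sylow
  obtain ⟨⟨eC⟩, hN⟩ := Cfsg.Agent.S5383.result zY hz QY hF hQ hcard eY hnwc B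
  have hBeq : zpowers vY = (B : Subgroup (↥Cx ⧸ X)) := by
    refine eq_of_le_of_card_ge hB ?_
    obtain ⟨n, hn⟩ := IsPGroup.iff_card.1 B.2
    rw [Nat.card_zpowers, hvYo, hn]
    have hd : Nat.card (B : Subgroup (↥Cx ⧸ X)) ∣ 504 := hN ▸ card_dvd_of_le le_normalizer
    rw [hn] at hd
    by_contra hgt
    have h2 : 7 ^ 2 ∣ 504 := (pow_dvd_pow 7 (by
      by_contra h2
      have : 7 ^ n ≤ 7 ^ 1 := Nat.pow_le_pow_right (by norm_num) (by omega)
      omega)).trans hd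
    norm_num at h2
  set C := centralizer ((B : Subgroup (↥Cx ⧸ X)) : Set (↥Cx ⧸ X)) with hC
  have memC : ∀ {g : ↥Cx ⧸ X}, g ∈ C ↔ Commute g vY := fun {g} => by
    rw [hC, ← hBeq, mem_centralizer_iff]
    refine ⟨fun h1 => (h1 vY (mem_zpowers _)).symm, fun h1 k hk => ?_⟩
    obtain ⟨i, rfl⟩ := mem_zpowers_iff.1 hk
    exact (h1.zpow_right i).eq.symm
  set M := centralizer ({v} : Set G) ⊓ centralizer ({a₀} : Set G) with hM
  let ψ₀ : ↥M →* ↥C := ((QuotientGroup.mk' X).comp (inclusion (inf_le_right : M ≤ Cx))).codRestrict C fun m =>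
    memC.2 ((show Commute (inclusion (inf_le_right : M ≤ Cx) m) ⟨v, hvC⟩ from
      Subtype.ext (mem_centralizer_singleton_iff.1 m.2.1)).map (QuotientGroup.mk' X))
  have hψ₀ : Function.Surjective ψ₀ := by
    rintro ⟨g, hg⟩
    obtain ⟨k, rfl⟩ := QuotientGroup.mk'_surjective X g
    have e1 : QuotientGroup.mk' X (⟨v, hvC⟩⁻¹ * (k * ⟨v, hvC⟩ * k⁻¹)) = 1 := by
      simp only [map_mul, map_inv]
      rw [(memC.1 hg).eq, mul_inv_cancel_right, inv_mul_cancel]
    have hmem := mem_subgroupOf.1 ((QuotientGroup.eq_one_iff _).1 e1)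
    push_cast at hmem
    have hca : Commute v ((k : G) * v * (k : G)⁻¹) := by
      obtain ⟨i, hi⟩ := mem_zpowers_iff.1 hmem
      have h2 := (Commute.refl v).mul_right (hva.zpow_right i)
      rwa [hi, mul_inv_cancel_left] at h2
    have h1 := ha7 _ hmem (by
      rw [hca.inv_left.mul_pow, conj_pow, inv_pow, ← hv, pow_orderOf_eq_one]; simp)
    refine ⟨⟨k, mem_centralizer_singleton_iff.2 ?_, k.2⟩, rfl⟩
    exact mul_inv_eq_iff_eq_mul.1 (inv_mul_eq_one.1 h1).symm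
  have hψ₀k : ∀ m, ψ₀ m = 1 → (m : G) ∈ zpowers a₀ := fun m hm => by
    have := (QuotientGroup.eq_one_iff (inclusion (inf_le_right : M ≤ Cx) m)).1 (congrArg Subtype.val hm)
    exact mem_subgroupOf.1 this
  let ψ : ↥M →* ↥(alternatingGroup (Fin 4)) :=
    (MonoidHom.snd (Multiplicative (ZMod 7)) ↥(alternatingGroup (Fin 4))).comp (eC.toMonoidHom.comp ψ₀)
  have hvM : v ∈ M := ⟨mem_centralizer_singleton_iff.2 rfl, hvC⟩
  have hvψ : ψ ⟨v, hvM⟩ = 1 := a4_center _ fun q => by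
    obtain ⟨g, hg⟩ := eC.surjective (1, q)
    have h1 : Commute (ψ₀ ⟨v, hvM⟩) g := Subtype.ext ((memC.1 g.2).symm.eq)
    have h2 := congrArg Prod.snd (h1.map eC.toMonoidHom).eq
    simp only [MulEquiv.coe_toMonoidHom, hg, Prod.snd_mul] at h2
    exact h2
  refine ⟨ψ, fun q => ?_, fun m => ⟨fun hm => ?_, ?_⟩⟩
  · obtain ⟨g, hg⟩ := eC.surjective (1, q)
    obtain ⟨m, rfl⟩ := hψ₀ g
    exact ⟨m, congrArg Prod.snd hg⟩
  · set k := (eC (ψ₀ ⟨v, hvM⟩)).1 with hk
    have hk1 : k ≠ 1 := by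
      intro e
      have h1 : eC (ψ₀ ⟨v, hvM⟩) = 1 := Prod.ext e hvψ
      exact hvY1 (congrArg Subtype.val (eC.injective (h1.trans (map_one eC).symm)))
    obtain ⟨j, hj⟩ := mem_zpowers_iff.1 (mem_zpowers_of_prime_card
      (p := 7) (g := k) (g' := (eC (ψ₀ m)).1) (by simp [Nat.card_eq_fintype_card]) hk1)
    have h1 : ψ₀ (m * (⟨v, hvM⟩ : ↥M) ^ (-j)) = 1 := eC.injective (by
      rw [map_one, map_mul, map_zpow, map_mul, map_zpow]
      refine Prod.ext ?_ ?_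
      · show (eC (ψ₀ m)).1 * k ^ (-j) = 1
        rw [← hj, ← zpow_add, add_neg_cancel, zpow_zero]
      · show ψ m * ψ ⟨v, hvM⟩ ^ (-j) = 1
        rw [hm, hvψ, one_zpow, one_mul])
    obtain ⟨i, hi⟩ := mem_zpowers_iff.1 (hψ₀k _ h1)
    refine ⟨i, j, ?_⟩
    rw [hi]
    push_cast
    group
  · rintro ⟨i, j, hij⟩
    have haM : a₀ ∈ M := ⟨mem_centralizer_singleton_iff.2 hva.eq.symm, mem_centralizer_singleton_iff.2 rfl⟩
    have e : m = (⟨a₀, haM⟩ : ↥M) ^ i * (⟨v, hvM⟩ : ↥M) ^ j := Subtype.ext (by push_cast; exact hij)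
    have ha0 : ψ₀ ⟨a₀, haM⟩ = 1 := Subtype.ext
      ((QuotientGroup.eq_one_iff _).2 (mem_subgroupOf.2 (mem_zpowers a₀)))
    rw [e, map_mul, map_zpow, map_zpow, hvψ, one_zpow, mul_one,
      show ψ ⟨a₀, haM⟩ = 1 by show (eC (ψ₀ ⟨a₀, haM⟩)).2 = 1; rw [ha0, map_one]; rfl, one_zpow]

/-- The four-group of the centraliser of the two elements. -/
structure Quad4 (v a₀ : G) (U : Subgroup G) : Prop where
  card : Nat.card U = 4
  sq : ∀ u ∈ U, u * u = 1
  comm_v : ∀ u ∈ U, Commute u v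
  comm_a : ∀ u ∈ U, Commute u a₀
  two : ∀ g : G, Commute g v → Commute g a₀ → g * g = 1 → g ∈ U
  two_power : ∀ g : G, Commute g v → Commute g a₀ → g ^ 4 = 1 → g ∈ U
  cent : ∀ g : G, Commute g v → Commute g a₀ → (∀ u ∈ U, Commute g u) →
    ∃ u ∈ U, ∃ i j : ℤ, g = u * a₀ ^ i * v ^ j
  moved : ∃ m : G, Commute m v ∧ Commute m a₀ ∧ (∀ u ∈ U, m * u * m⁻¹ ∈ U) ∧
    ∀ u ∈ U, u ≠ 1 → m * u * m⁻¹ ≠ u

theorem exists_quad {a₀ : G} (ha3 : a₀ ^ 3 = 1) (hv : orderOf v = 7) (hva : Commute v a₀)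
    {ψ : ↥(centralizer ({v} : Set G) ⊓ centralizer ({a₀} : Set G)) →* ↥(alternatingGroup (Fin 4))}
    (hsurj : Function.Surjective ψ) (hker : ∀ m, ψ m = 1 ↔ ∃ i j : ℤ, (m : G) = a₀ ^ i * v ^ j) :
    ∃ U : Subgroup G, Quad4 v a₀ U := by
  classical
  have hv7 : v ^ 7 = 1 := hv ▸ pow_orderOf_eq_one v
  have hcen : ∀ m : ↥(centralizer ({v} : Set G) ⊓ centralizer ({a₀} : Set G)), Commute (m : G) v ∧ Commute (m : G) a₀ := fun m =>
    ⟨mem_centralizer_singleton_iff.1 m.2.1, mem_centralizer_singleton_iff.1 m.2.2⟩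
  have hk21 : ∀ m, ψ m = 1 → m ^ 21 = 1 ∧ ∀ k, Commute m k := fun m hm => by
    obtain ⟨i, j, h⟩ := (hker m).1 hm
    refine ⟨Subtype.ext ?_, fun k => Subtype.ext ?_⟩
    · push_cast
      rw [h, ((hva.symm.zpow_left i).zpow_right j).mul_pow, ← zpow_natCast, ← zpow_mul, mul_comm, zpow_mul,
        zpow_natCast, show (21 : ℕ) = 3 * 7 from rfl, pow_mul, ha3, one_pow, one_zpow, one_mul,
        ← zpow_natCast, ← zpow_mul, mul_comm, zpow_mul, zpow_natCast, show (3 * 7 : ℕ) = 7 * 3 from rfl,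
        pow_mul, hv7, one_pow, one_zpow]
    · show (m : G) * k = k * m
      rw [h]
      exact (((hcen k).2.zpow_right i).mul_right ((hcen k).1.zpow_right j)).eq.symm
  have hone : ∀ m, ψ m = 1 → m * m = 1 → m = 1 := fun m h1 h2 => by
    have h3 := (hk21 m h1).1
    rwa [pow_succ, show (20 : ℕ) = 2 * 10 from rfl, pow_mul, pow_two, h2, one_pow, one_mul] at h3
  have hmul : ∀ m n : ↥(centralizer ({v} : Set G) ⊓ centralizer ({a₀} : Set G)), m * m = 1 → n * n = 1 → m * n * (m * n) = 1 := by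
    intro m n hm hn
    set c' := n * m * n * m with hc'
    have hcm : ψ c' = 1 := by
      have hp : ψ m * ψ m = 1 := by rw [← map_mul, hm, map_one]
      have hq : ψ n * ψ n = 1 := by rw [← map_mul, hn, map_one]
      have h1 := (a4_invol _ _ hq hp).2
      rw [hc', map_mul, map_mul, map_mul]
      rw [← h1]; group
    have hc : Commute c' m := (hk21 c' hcm).2 m
    have hc2 : c' * c' = 1 := by
      have h1 : n * m * n = c' * m := by rw [hc']; rw [mul_assoc _ m m, hm, mul_one]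
      have h2 : (n * m * n) * (n * m * n) = 1 := by
        rw [show n * m * n * (n * m * n) = n * m * (n * n) * m * n by group, hn, mul_one, mul_assoc n m m, hm,
          mul_one, hn]
      rw [h1, hc.symm.mul_mul_mul_comm, hm, mul_one] at h2
      exact h2
    have h3 := hone c' hcm hc2
    rw [hc'] at h3
    calc m * n * (m * n) = n⁻¹ * (n * m * n * m) * n := by group
      _ = 1 := by rw [h3]; group
  let U : Subgroup G :=
    { carrier := {g | ∃ h : g ∈ centralizer ({v} : Set G) ⊓ centralizer ({a₀} : Set G), (⟨g, h⟩ : ↥(centralizer ({v} : Set G) ⊓ centralizer ({a₀} : Set G))) * ⟨g, h⟩ = 1}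
      one_mem' := ⟨one_mem _, Subtype.ext (one_mul 1)⟩
      mul_mem' := by
        rintro g k ⟨hg, hg2⟩ ⟨hk, hk2⟩
        exact ⟨mul_mem hg hk, hmul ⟨g, hg⟩ ⟨k, hk⟩ hg2 hk2⟩
      inv_mem' := by
        rintro g ⟨hg, hg2⟩
        refine ⟨inv_mem hg, ?_⟩
        have e : (⟨g⁻¹, inv_mem hg⟩ : ↥(centralizer ({v} : Set G) ⊓ centralizer ({a₀} : Set G))) = (⟨g, hg⟩ : ↥(centralizer ({v} : Set G) ⊓ centralizer ({a₀} : Set G)))⁻¹ := rfl
        rw [e, ← mul_inv_rev, hg2, inv_one] }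
  have memU : ∀ g, g ∈ U ↔ Commute g v ∧ Commute g a₀ ∧ g * g = 1 := fun g =>
    ⟨fun ⟨h, h2⟩ => ⟨(hcen ⟨g, h⟩).1, (hcen ⟨g, h⟩).2, congrArg Subtype.val h2⟩,
      fun ⟨h1, h2, h3⟩ => ⟨⟨mem_centralizer_singleton_iff.2 h1.eq, mem_centralizer_singleton_iff.2 h2.eq⟩,
        Subtype.ext h3⟩⟩
  have hlift : ∀ p : ↥(alternatingGroup (Fin 4)), p * p = 1 → ∃ m : ↥(centralizer ({v} : Set G) ⊓ centralizer ({a₀} : Set G)), m * m = 1 ∧ ψ m = p := by
    intro p hp
    obtain ⟨m, rfl⟩ := hsurj p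
    refine ⟨m ^ 21, ?_, ?_⟩
    · rw [← pow_add, show 21 + 21 = 2 * 21 from rfl, pow_mul, pow_two]
      exact (hk21 _ (by rw [map_mul, hp])).1
    · rw [map_pow, pow_succ, show (20 : ℕ) = 2 * 10 from rfl, pow_mul, pow_two, hp, one_pow, one_mul]
  have hcard : Nat.card U = 4 := by
    let g : U → {p : ↥(alternatingGroup (Fin 4)) // p * p = 1} := fun k =>
      ⟨ψ ⟨k, k.2.1⟩, by rw [← map_mul, k.2.2, map_one]⟩
    have hg : Function.Bijective g := by
      refine ⟨fun k l e => ?_, fun p => ?_⟩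
      · have e' : ψ ⟨k, k.2.1⟩ = ψ ⟨l, l.2.1⟩ := congrArg Subtype.val e
        have h1 : ψ (⟨k, k.2.1⟩ * ⟨l, l.2.1⟩) = 1 := by
          rw [map_mul, e', ← map_mul, l.2.2, map_one]
        have h2 := hone _ h1 (hmul _ _ k.2.2 l.2.2)
        exact Subtype.ext ((congrArg Subtype.val (eq_inv_of_mul_eq_one_left h2)).trans
          (congrArg Subtype.val (inv_eq_of_mul_eq_one_right l.2.2)))
      · obtain ⟨m, hm, hmp⟩ := hlift p p.2
        exact ⟨⟨m, m.2, hm⟩, Subtype.ext hmp⟩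
    rw [Nat.card_eq_of_bijective g hg, Nat.card_eq_fintype_card, Fintype.card_subtype]
    exact a4_four
  refine ⟨U, hcard, fun k hk => ((memU k).1 hk).2.2, fun k hk => ((memU k).1 hk).1,
    fun k hk => ((memU k).1 hk).2.1, fun g h1 h2 h3 => (memU g).2 ⟨h1, h2, h3⟩, fun g h1 h2 h4 => ?_,
    fun g h1 h2 hU => ?_, ?_⟩
  · refine (memU g).2 ⟨h1, h2, ?_⟩
    set m : ↥(centralizer ({v} : Set G) ⊓ centralizer ({a₀} : Set G)) := ⟨g, mem_centralizer_singleton_iff.2 h1.eq, mem_centralizer_singleton_iff.2 h2.eq⟩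
    have hm4 : m ^ 4 = 1 := Subtype.ext h4
    have hm : ψ m * ψ m = 1 := a4_two _ (by rw [← map_pow, hm4, map_one])
    have h21 := (hk21 (m * m) (by rw [map_mul, hm])).1
    have h8 : (m * m) ^ 2 = 1 := by
      rw [← pow_two m, ← pow_mul]
      exact hm4
    have e : m * m = 1 := by
      rwa [pow_succ, show (20 : ℕ) = 2 * 10 from rfl, pow_mul, h8, one_pow, one_mul] at h21
    exact congrArg Subtype.val e
  · set m : ↥(centralizer ({v} : Set G) ⊓ centralizer ({a₀} : Set G)) := ⟨g, mem_centralizer_singleton_iff.2 h1.eq, mem_centralizer_singleton_iff.2 h2.eq⟩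
    have hm : ψ m * ψ m = 1 := a4_cent _ fun p hp => by
      obtain ⟨k, hk, rfl⟩ := hlift p hp
      rw [← map_mul, ← map_mul]
      exact congrArg ψ (Subtype.ext (hU k ⟨k.2, hk⟩).eq)
    obtain ⟨k, hk, hkp⟩ := hlift (ψ m) hm
    obtain ⟨i, j, hij⟩ := (hker (k * m)).1 (by rw [map_mul, hkp, hm])
    refine ⟨k, ⟨k.2, hk⟩, i, j, ?_⟩
    rw [mul_assoc, ← hij]
    push_cast
    rw [← mul_assoc, show (k : G) * k = 1 from congrArg Subtype.val hk, one_mul]
  · obtain ⟨p, -, -, hp⟩ := a4_fpf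
    obtain ⟨m, rfl⟩ := hsurj p
    refine ⟨m, (hcen m).1, (hcen m).2, fun k hk => ⟨mul_mem (mul_mem m.2 hk.1) (inv_mem m.2), ?_⟩, fun k hk hk1 e => ?_⟩
    · have e1 : (⟨(m : G) * k * (m : G)⁻¹, mul_mem (mul_mem m.2 hk.1) (inv_mem m.2)⟩ : ↥(centralizer ({v} : Set G) ⊓ centralizer ({a₀} : Set G))) =
          m * ⟨k, hk.1⟩ * m⁻¹ := rfl
      rw [e1, show m * ⟨k, hk.1⟩ * m⁻¹ * (m * ⟨k, hk.1⟩ * m⁻¹) = m * (⟨k, hk.1⟩ * ⟨k, hk.1⟩) * m⁻¹ by group, hk.2]
      group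
    · refine hp (ψ ⟨k, hk.1⟩) (by rw [← map_mul, hk.2, map_one])
        (fun e1 => hk1 (congrArg Subtype.val (hone _ e1 hk.2))) ?_
      rw [← map_inv, ← map_mul, ← map_mul]
      exact congrArg ψ (Subtype.ext e)

end CfsgLib.Co1Loc.Seven
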