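import Cfsg.Agent.Co1Golay.Levi
import Cfsg.Agent.Co1Suz.Three

/-!
The stabiliser of the maximal totally singular subspace inside the special orthogonal group, and the
subgroups of the involution centraliser that preserve it.
-/

set_option autoImplicit false
set_option maxRecDepth 100000
set_option synthInstance.maxSize 4096
set_option linter.style.haveILetI false
set_option linter.unusedSectionVars false

namespace CfsgLib.Co1Loc

open CfsgLib CfsgLib.Quad CfsgLib.Co1Invol CfsgLib.Co1Golay Subgroup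

/-- The coordinates outside the singular subspace. -/
def yPart (m : M8) : Fin 4 → ZMod 2 := fun i => bf m (xb i)

theorem inW_iff_yPart (m : M8) : inW m ↔ yPart m = 0 :=
  ⟨fun h => funext fun i => (inW_iff_xb m).1 h i, fun h => (inW_iff_xb m).2 fun i => congrFun h i⟩

theorem yPart_add (m n : M8) : yPart (m + n) = yPart m + yPart n := funext fun i => bf_add_left m n (xb i)

theorem inW_bf : ∀ i j, bf (xb i) (xb j) = 0 := fun i j => (yb_facts i j).2.1

theorem inW_span {w : M8} (h : inW w) : w = ∑ i, bf w (yb i) • xb i := by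
  conv_lhs => rw [expand4 w]
  refine Finset.sum_congr rfl fun i _ => ?_
  rw [(inW_iff_xb w).1 h i, zero_smul, add_zero]

theorem inW_perp {u v : M8} (hu : inW u) (hv : inW v) : bf u v = 0 := by
  have h := inW_sing _ (inW_add hu hv)
  rwa [qf_add, inW_sing _ hu, inW_sing _ hv, zero_add, zero_add] at h

/-- A reflection is not in the commutator subgroup. -/
theorem refl_not_mem {d : M8} (hd : qf d = 1) : refl q8 d ∉ commutator (oGroup q8) := by
  intro h
  have happ : ∀ m, (refl q8 d).1 m = m + bf m d • d := Co1Suz.refl_eq hd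
  have hsq : refl q8 d * refl q8 d = 1 := ext8 fun m => by
    show (refl q8 d).1 ((refl q8 d).1 m) = m
    rw [happ, happ, bf_add_left, bf_smul_left, bf_self, mul_zero, add_zero, add_assoc, add_self, add_zero]
  have hle : LinearMap.range (disp (refl q8 d)) ≤ Submodule.span (ZMod 2) {d} := by
    rintro _ ⟨m, rfl⟩
    rw [disp_apply, happ, add_comm m, add_assoc, add_self, add_zero]
    exact Submodule.smul_mem _ _ (Submodule.subset_span rfl)
  have hne : refl q8 d ≠ 1 := by
    intro e
    have hd0 : d ≠ 0 := fun h0 => by rw [h0, qf_zero] at hd; exact zero_ne_one hd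
    obtain ⟨m, hm⟩ : ∃ m, bf d m ≠ 0 := not_forall.1 fun hall => hd0 (eq_zero_of_bf hall)
    have h1 := happ m
    rw [e, bf_comm m d, (zmod2_cases _).resolve_left hm, one_smul, one_apply'] at h1
    exact hd0 (left_eq_add.1 h1)
  have hr := Submodule.finrank_mono hle
  have h1 : Module.finrank (ZMod 2) (Submodule.span (ZMod 2) ({d} : Set M8)) ≤ 1 :=
    (finrank_span_le_card _).trans (by simp)
  rcases rank_cases hsq h hne with h2 | ⟨h4, -⟩ <;> omega

/-- An isometry fixing the subspace pointwise is one induced by the elementary subgroup. -/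
theorem exists_mask {g : O8} (h : ∀ i, g.1 (xb i) = xb i) :
    ∃ k < 64, g = sgL (selL topLs k) := by
  let M : Fin 4 → Fin 4 → ZMod 2 := fun i j => bf (g.1 (yb i)) (yb j)
  have hdiag : ∀ u, bf (g.1 u) u = 0 := fun u => by
    have h' := inW_sing _ (inW_of_fix h u)
    rwa [qf_add, qf_oGroup, CharTwo.add_self_eq_zero, zero_add] at h'
  have hsym : ∀ i j, M i j = M j i := fun i j => by
    have h' := hdiag (yb i + yb j)
    rw [map_add, bf_add_left, bf_add_right, bf_add_right, hdiag, hdiag, zero_add, add_zero] at h'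
    exact CharTwo.add_eq_zero.1 h'
  obtain ⟨k, hk⟩ : ∃ k, k = (M 0 1).val + 2 * (M 0 2).val + 4 * (M 0 3).val + 8 * (M 2 3).val +
      16 * (M 1 3).val + 32 * (M 1 2).val := ⟨_, rfl⟩
  have hklt : k < 64 := by
    have h' := fun t : ZMod 2 => ZMod.val_lt t
    have := h' (M 0 1); have := h' (M 0 2); have := h' (M 0 3); have := h' (M 2 3)
    have := h' (M 1 3); have := h' (M 1 2)
    omega
  obtain ⟨hok, hp⟩ := topLs_sel k hklt
  refine ⟨k, hklt, ext_matrix h (fun i => ?_) fun i j => ?_⟩
  · rw [sgL_apply _ hok]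
    exact smL_val hp ((sel_values k hklt).1 i)
  · rw [sgL_apply _ hok, bf_yb _ (smL _ _), encN_smL _ hp, (sel_values k hklt).2, hk,
      matrix_of M (fun l => hdiag _) hsym i j]

/-- The matrix of an isometry on the subspace. -/
def wMat (g : O8) : Matrix (Fin 4) (Fin 4) (ZMod 2) := Matrix.of fun i j => g.1 (xb j) (.inl i)

theorem inW_ext {u v : M8} (hu : inW u) (hv : inW v) (h : ∀ i, u (.inl i) = v (.inl i)) : u = v :=
  funext fun i => i.casesOn h fun j => by rw [hu j, hv j]

theorem inW_coord : ∀ w : M8, inW w → ∀ i, bf w (yb i) = w (.inl i) := by decide +kernel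

/-- The stabiliser of the subspace lies in the commutator subgroup. -/
theorem stab_mem {g : O8} (h : ∀ w, inW w → inW (g.1 w)) : g ∈ commutator (oGroup q8) := by
  have hmat : ∀ f : O8, (∀ w, inW w → inW (f.1 w)) → ∀ w, inW w → ∀ i,
      f.1 w (.inl i) = (wMat f).mulVec (w ∘ Sum.inl) i := fun f hf w hw i => by
    conv_lhs => rw [inW_span hw]
    simp only [map_sum, map_smul, Finset.sum_apply, Pi.smul_apply, smul_eq_mul, Matrix.mulVec, dotProduct,
      Function.comp_apply, wMat, Matrix.of_apply]
    exact Finset.sum_congr rfl fun j _ => by rw [inW_coord w hw j, mul_comm]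
  have hinv : ∀ w, inW w → inW ((g⁻¹).1 w) := fun w hw => inW_inv h hw
  have hmul : ∀ f f' : O8, (∀ w, inW w → inW (f.1 w)) → (∀ w, inW w → inW (f'.1 w)) →
      f * f' = 1 → wMat f * wMat f' = 1 := by
    intro f f' hf hf' he
    refine Matrix.ext_of_mulVec_single fun j => ?_
    rw [← Matrix.mulVec_mulVec, Matrix.one_mulVec]
    have hs : inW (Sum.elim (Pi.single j 1) 0 : M8) := fun i => rfl
    have e1 := funext (hmat f' hf' _ hs)
    rw [Sum.elim_comp_inl] at e1
    rw [← e1]
    funext i
    have e2 := hmat f hf _ (hf' _ hs) i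
    rw [Function.comp_def] at e2
    rw [← e2]
    show (f * f').1 _ (.inl i) = _
    rw [he]
    rfl
  let A : GL4 := ⟨wMat g, wMat g⁻¹, hmul _ _ h hinv (mul_inv_cancel g), hmul _ _ hinv h (inv_mul_cancel g)⟩
  obtain ⟨k, hk, he⟩ := exists_mask (g := (glHom A)⁻¹ * g) fun i => by
    show ((glHom A)⁻¹).1 (g.1 (xb i)) = xb i
    have e : (glHom A).1 (xb i) = g.1 (xb i) := inW_ext (glHom_inW A (inW_xb i)) (h _ (inW_xb i)) fun j => by
      rw [hmat g h _ (inW_xb i) j, glHom_apply]
      rfl
    rw [← e]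
    exact (glHom A).1.symm_apply_apply _
  have : g = glHom A * sgL (selL topLs k) := by rw [← he, mul_inv_cancel_left]
  rw [this]
  exact mul_mem (glHom_mem A) (sgL_comm _ (topLs_sel k hk).1)

/-- An element of the commutator subgroup cannot meet the subspace in a hyperplane. -/
theorem omega_inW {g : O8} (hg : g ∈ commutator (oGroup q8))
    (hcl : ∀ w, inW w → inW (g.1 w) ∨ ∀ w', inW w' → ¬ inW (g.1 w') → inW (g.1 w + g.1 w')) :
    ∀ w, inW w → inW (g.1 w) := by
  by_contra hno
  push Not at hno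
  obtain ⟨w0, hw0, hu⟩ := hno
  obtain ⟨u, hud⟩ : ∃ u, u = g.1 w0 := ⟨_, rfl⟩
  rw [← hud] at hu
  obtain ⟨x0, hx0, hb⟩ : ∃ x0, inW x0 ∧ bf u x0 = 1 := by
    by_contra h'
    push Not at h'
    exact hu ((inW_iff_xb u).2 fun i => (zmod2_cases _).resolve_right (h' _ (inW_xb i)))
  have hqu : qf u = 0 := by rw [hud, qf_oGroup, inW_sing _ hw0]
  obtain ⟨d, hd⟩ : ∃ d, d = x0 + u := ⟨_, rfl⟩
  have hqd : qf d = 1 := by rw [hd, qf_add, inW_sing _ hx0, hqu, bf_comm, hb, zero_add, zero_add]
  have hr : ∀ m, (refl q8 d).1 m = m + bf m d • d := Co1Suz.refl_eq hqd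
  have hru : (refl q8 d).1 u = x0 := by
    rw [hr, hd, bf_add_right, hb, bf_self, add_zero, one_smul, add_comm x0 u, ← add_assoc, add_self, zero_add]
  have hfix : ∀ w, inW w → inW (g.1 w) → (refl q8 d).1 (g.1 w) = g.1 w := fun w hw hgw => by
    rw [hr, hd, bf_add_right, inW_perp hgw hx0, hud, bf_oGroup, inW_perp hw hw0, add_zero, zero_smul, add_zero]
  have hs : refl q8 d * g ∈ commutator (oGroup q8) := stab_mem fun w hw => by
    show inW ((refl q8 d).1 (g.1 w))
    by_cases hgw : inW (g.1 w)
    · rw [hfix w hw hgw]; exact hgw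
    · have hP : inW (g.1 (w + w0)) := by
        rw [map_add]
        exact ((hcl w hw).resolve_left hgw) w0 hw0 (hud ▸ hu)
      have : g.1 w = g.1 (w + w0) + u := by rw [map_add, hud, add_assoc, add_self, add_zero]
      rw [this, map_add, hru, hfix _ (inW_add hw hw0) hP]
      exact inW_add hP hx0
  exact refl_not_mem hqd (by simpa using mul_mem hs (inv_mem hg))

end CfsgLib.Co1Loc
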