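import Cfsg.Agent.Co1Golay.Main
import Cfsg.Agent.Golay.InvCount
import Cfsg.Agent.Golay.ExactList

/-!
Conjugation on the masks, read on position lists, and the masks fixed by the elements of order three.
-/

set_option autoImplicit false
set_option maxRecDepth 100000
set_option synthInstance.maxSize 4096
set_option linter.unusedSectionVars false

namespace CfsgLib.Co1Loc.Three

open CfsgLib CfsgLib.Quad CfsgLib.Co1Invol CfsgLib.Co1Golay Subgroup
open CfsgLib.Golay (toList word word_lt vec vec_inj vec_xor idx pts mem_code_iff)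
open CfsgLib.Golay.Cert (permF pts_permF permF_lt rep3A rep3B genOK conjB)

/-- The list carries the first mask to the second up to the all-ones word. -/
def actM (L : List ℕ) (m m' : ℕ) : Bool :=
  permF L (cWord m) == cWord m' || permF L (cWord m) == cWord m' ^^^ 16777215

theorem cWord_lt : ∀ m, m < 2048 → cWord m < 2 ^ 24 :=
  fun m hm => two_level (P := fun m => cWord m < 2 ^ 24) (by decide +kernel) hm

theorem vec_of_pts (a : ℕ) : ∀ p, vec a p = if p ∈ pts a then 1 else 0 := fun p => by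
  simp [vec, pts]

theorem vec_permF (σ : Equiv.Perm Cfsg.GolayPt) (a : ℕ) (p : Cfsg.GolayPt) :
    vec (permF (toList σ) a) p = vec a (σ.symm p) := by
  rw [vec_of_pts, vec_of_pts, pts_permF]
  refine if_congr ?_ rfl rfl
  rw [Finset.mem_image]
  exact ⟨fun ⟨q, hq, e⟩ => by rw [← e, Equiv.symm_apply_apply]; exact hq,
    fun h => ⟨_, h, Equiv.apply_symm_apply σ p⟩⟩

theorem vec_ones : vec 16777215 = (1 : Cfsg.GolayPt → ZMod 2) := by
  rw [← one_word.1, one_vec]

theorem actM_iff (σ : Equiv.Perm Cfsg.GolayPt) {m m' : ℕ} (hm' : m' < 2048) :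
    actM (toList σ) m m' = true ↔ ∃ k : ZMod 2, ∀ p, V m' p = V m (σ.symm p) + k := by
  have key : ∀ w, permF (toList σ) (cWord m) = w ↔ (w < 2 ^ 24 ∧ ∀ p, vec w p = V m (σ.symm p)) := fun w => by
    refine ⟨fun e => ⟨e ▸ permF_lt σ _, fun p => by rw [← e, vec_permF]; rfl⟩, fun ⟨hw, e⟩ => ?_⟩
    refine vec_inj (permF_lt σ _) hw (funext fun p => ?_)
    rw [vec_permF, e]; rfl
  rw [actM, Bool.or_eq_true, beq_iff_eq, beq_iff_eq, key, key]
  have hx : cWord m' ^^^ 16777215 < 2 ^ 24 := Nat.xor_lt_two_pow (cWord_lt m' hm') (by norm_num)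
  constructor
  · rintro (⟨-, h⟩ | ⟨-, h⟩)
    · exact ⟨0, fun p => by rw [add_zero]; exact h p⟩
    · refine ⟨1, fun p => ?_⟩
      rw [← h p, vec_xor, vec_ones, Pi.add_apply, Pi.one_apply, add_assoc, CharTwo.add_self_eq_zero, add_zero]
      rfl
  · rintro ⟨k, hk⟩
    rcases (by decide : ∀ k : ZMod 2, k = 0 ∨ k = 1) k with rfl | rfl
    · exact Or.inl ⟨cWord_lt m' hm', fun p => by rw [← add_zero (V m _), ← hk]; rfl⟩
    · refine Or.inr ⟨hx, fun p => ?_⟩
      rw [vec_xor, vec_ones, Pi.add_apply, Pi.one_apply]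
      show V m' p + 1 = _
      rw [hk, add_assoc, CharTwo.add_self_eq_zero, add_zero]

variable {G : Type*} [Group G] [Finite G] {z : G} {D : Dat z} {B : Base D}

/-- Conjugation is read on the lists. -/
theorem conj_iff (hB : Good B) {n : G} (hn : n ∈ normalizer (Ab B hB : Set G)) {σ : Equiv.Perm Cfsg.GolayPt}
    (hσ : Rel B n σ) {L : List ℕ} (hs : toList σ = L) {m m' : ℕ} (hm : m < 2048) (hm' : m' < 2048) :
    n * phi B m * n⁻¹ = phi B m' ↔ actM L m m' = true := by
  rw [← hs, actM_iff σ hm']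
  refine ⟨fun e => hσ m hm m' hm' e, fun ⟨k, hk⟩ => ?_⟩
  obtain ⟨m₂, hm₂, he⟩ := conj_phi hB hn m
  obtain ⟨k₂, hk₂⟩ := hσ m hm m₂ hm₂ he
  obtain ⟨e, -⟩ := V_inj hm₂ hm' (k := k + k₂) fun p => by
    rw [hk₂, hk, add_assoc, ← add_assoc k k, CharTwo.add_self_eq_zero, zero_add]
  rw [he, e]

/-- The masks fixed by a list. -/
def fixB (L : List ℕ) (l : List ℕ) : Bool :=
  (List.range 2048).all fun m => !actM L m m || l.contains m

theorem cent_masks (hB : Good B) {n : G} (hn : n ∈ normalizer (Ab B hB : Set G))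
    {σ : Equiv.Perm Cfsg.GolayPt} (hσ : Rel B n σ) {L l : List ℕ} (hs : toList σ = L) (hl : fixB L l = true)
    {x : G} (hx : x ∈ Ab B hB) (hc : n * x = x * n) : ∃ m ∈ l, m < 2048 ∧ phi B m = x := by
  obtain ⟨m, hm, rfl⟩ := mem_Ab.1 hx
  have h := (conj_iff hB hn hσ hs hm hm).1 (by rw [hc, mul_inv_cancel_right])
  have := List.all_eq_true.1 hl m (List.mem_range.2 hm)
  rw [h] at this
  simp only [Bool.not_true, Bool.false_or, List.contains_iff_mem] at this
  exact ⟨m, this, hm, rfl⟩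

/-- The masks fixed by the element with six fixed points. -/
def fixA : List ℕ := [0, 44, 217, 245, 328, 356, 401, 445, 580, 616, 669, 689, 780, 800, 981, 1017, 1040, 1084,
  1225, 1253, 1368, 1396, 1409, 1453, 1620, 1656, 1677, 1697, 1820, 1840, 1989, 2025]

theorem fixA_ok : fixB rep3A fixA = true := by decide +kernel

theorem fixA_class : (fixA.all fun a => fixA.all fun b =>
    a == 0 || b == 0 || a == b || (a ^^^ b) == 0 || octSet.testBit a || octSet.testBit b ||
      octSet.testBit (a ^^^ b)) = true := by decide +kernel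

/-- The basis of the masks fixed by the fixed-point-free element. -/
def basB : List ℕ := [199, 337, 611]

/-- The eight fixed masks. -/
def fm (x : Fin 8) : ℕ := Golay.comb basB x.val

theorem fm_facts : (∀ x, fm x < 2048 ∧ actM rep3B (fm x) (fm x) = true) ∧
    (∀ x y, fm (x ^^^ y) = fm x ^^^ fm y) ∧ (∀ x y, fm x = fm y → x = y) ∧ fm 0 = 0 ∧
    (∀ x, x ≠ 0 → octSet.testBit (fm x) = false) ∧
    fixB rep3B [fm 0, fm 1, fm 2, fm 3, fm 4, fm 5, fm 6, fm 7] = true := by decide +kernel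

/-- An element of order seven in the centraliser. -/
def g7L : List ℕ := [5, 11, 4, 2, 3, 16, 17, 8, 0, 20, 13, 14, 1, 18, 9, 23, 6, 21, 12, 10, 7, 15, 19, 22]

/-- The first generator of the stabiliser of a fixed mask. -/
def uL : List ℕ := [8, 12, 1, 23, 0, 20, 22, 2, 7, 5, 11, 13, 18, 14, 6, 21, 10, 19, 3, 9, 16, 4, 17, 15]

/-- The second generator of the stabiliser of a fixed mask. -/
def vL : List ℕ := [8, 12, 21, 7, 18, 20, 16, 11, 10, 14, 19, 13, 6, 4, 0, 9, 23, 2, 22, 1, 3, 5, 17, 15]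

theorem gens_ok : ∀ L ∈ [g7L, uL, vL], genOK L = true ∧ conjB rep3B rep3B L = true := by decide +kernel

/-- The maps induced by the generators. -/
def gMap : Fin 3 → Fin 8 → Fin 8 :=
  ![![0, 2, 4, 6, 3, 1, 7, 5], ![0, 1, 3, 2, 6, 7, 5, 4], ![0, 1, 4, 5, 3, 2, 7, 6]]

theorem gens_act : ∀ i : Fin 3, ∀ x : Fin 8,
    actM ([g7L, uL, vL].getD i.val []) (fm x) (fm (gMap i x)) = true := by decide +kernel

end CfsgLib.Co1Loc.Three
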